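import Mathlib

/-!
# Characters of small associative algebras
-/

set_option autoImplicit false
set_option linter.unusedSectionVars false
set_option linter.style.haveILetI false

namespace Cfsg.Agent.Lib.KS84.Chars

open Module

variable {k : Type*} [Field k] [IsAlgClosed k]

/-- An algebra of dimension at most three over an algebraically closed field has a character. -/
theorem exists_algHom (R : Type*) [Ring R] [Algebra k R] [FiniteDimensional k R] [Nontrivial R]
    (hdim : finrank k R ≤ 3) : Nonempty (R →ₐ[k] k) := by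
  classical
  haveI : IsArtinianRing R := IsArtinianRing.of_finite k R
  let S := R ⧸ Ring.jacobson R
  haveI : IsSemisimpleRing S := IsSemiprimaryRing.isSemisimpleRing
  haveI : FiniteDimensional k S := inferInstance
  obtain ⟨n, d, hd, ⟨φ⟩⟩ := IsSemisimpleRing.exists_algEquiv_pi_matrix_of_isAlgClosed k S
  have hne : Ring.jacobson R ≠ ⊤ := by
    obtain ⟨m, hm⟩ := Ideal.exists_maximal R
    intro h
    have h1 : Ring.jacobson R ≤ m := sInf_le (a := m) hm.out
    exact hm.ne_top (top_le_iff.mp (h ▸ h1))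
  haveI hS : Nontrivial S := Ideal.Quotient.nontrivial_iff.mpr hne
  have hn : 0 < n := by
    by_contra h0
    have h00 : n = 0 := by omega
    subst h00
    have : Subsingleton S := φ.injective.subsingleton
    exact not_subsingleton S this
  let i₀ : Fin n := ⟨0, hn⟩
  have hfS : finrank k S ≤ finrank k R := by
    have hsurj : Function.Surjective (Ideal.Quotient.mkₐ k (Ring.jacobson R)).toLinearMap :=
      Ideal.Quotient.mkₐ_surjective k _
    have h1 := LinearMap.finrank_range_le (Ideal.Quotient.mkₐ k (Ring.jacobson R)).toLinearMap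
    rwa [LinearMap.range_eq_top.mpr hsurj, finrank_top] at h1
  have hfP : finrank k S = ∑ i, d i * d i := by
    rw [φ.toLinearEquiv.finrank_eq, finrank_pi_fintype]
    refine Finset.sum_congr rfl fun i _ => ?_
    rw [Module.finrank_matrix]
    simp
  have hdi : d i₀ * d i₀ ≤ 3 := by
    have h1 : d i₀ * d i₀ ≤ ∑ i, d i * d i :=
      Finset.single_le_sum (f := fun i => d i * d i) (fun _ _ => Nat.zero_le _) (Finset.mem_univ i₀)
    omega
  have hd0 : d i₀ ≠ 0 := (hd i₀).out
  have hd1 : d i₀ = 1 := by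
    have : d i₀ ≤ 1 := by
      by_contra hc
      have : 2 ≤ d i₀ := by omega
      nlinarith
    omega
  haveI : Subsingleton (Fin (d i₀)) := by
    rw [hd1]
    infer_instance
  let a : Fin (d i₀) := ⟨0, by omega⟩
  let entry : Matrix (Fin (d i₀)) (Fin (d i₀)) k →ₐ[k] k :=
    { toFun := fun M => M a a
      map_one' := by simp
      map_mul' := fun M N => by
        rw [Matrix.mul_apply]
        exact Fintype.sum_subsingleton _ a
      map_zero' := by simp
      map_add' := fun M N => by simp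
      commutes' := fun c => by
        simp [Matrix.algebraMap_matrix_apply] }
  exact ⟨entry.comp ((Pi.evalAlgHom k _ i₀).comp (φ.toAlgHom.comp (Ideal.Quotient.mkₐ k (Ring.jacobson R))))⟩

section Pure

variable {X : Type*} [AddCommGroup X] [Module k X] [FiniteDimensional k X]

/-- A unital associative product on a space of dimension at most three has a character. -/
theorem exists_char [Nontrivial X] (hdim : finrank k X ≤ 3) (m : X →ₗ[k] X →ₗ[k] X) (e : X)
    (hl : ∀ x, m e x = x) (hassoc : ∀ a b c, m (m a b) c = m a (m b c)) :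
    ∃ f : X →ₗ[k] k, f e = 1 ∧ ∀ a b, f (m a b) = f a * f b := by
  classical
  have hme : m e = 1 := LinearMap.ext hl
  have hmul : ∀ a b, m (m a b) = m a * m b := by
    intro a b
    ext c
    exact hassoc a b c
  let 𝔄 : Subalgebra k (Module.End k X) :=
    { carrier := Set.range m
      mul_mem' := by
        rintro _ _ ⟨a, rfl⟩ ⟨b, rfl⟩
        exact ⟨m a b, hmul a b⟩
      add_mem' := by
        rintro _ _ ⟨a, rfl⟩ ⟨b, rfl⟩
        exact ⟨a + b, map_add m a b⟩
      algebraMap_mem' := fun c => ⟨c • e, by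
        rw [map_smul, hme]
        rfl⟩ }
  have hfin : finrank k 𝔄 ≤ 3 := by
    have h1 : Subalgebra.toSubmodule 𝔄 = LinearMap.range m := by
      ext x
      rfl
    have h2 : finrank k (Subalgebra.toSubmodule 𝔄) ≤ finrank k X := by
      rw [h1]
      exact LinearMap.finrank_range_le m
    exact h2.trans hdim
  haveI : Nontrivial (Module.End k X) := inferInstance
  haveI : Nontrivial 𝔄 := inferInstance
  obtain ⟨ξ⟩ := exists_algHom (k := k) 𝔄 hfin
  let q : X →ₗ[k] 𝔄 := m.codRestrict (Subalgebra.toSubmodule 𝔄) (fun a => ⟨a, rfl⟩)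
  refine ⟨ξ.toLinearMap ∘ₗ q, ?_, fun a b => ?_⟩
  · have h1 : q e = 1 := Subtype.ext hme
    change ξ (q e) = 1
    rw [h1, map_one]
  · have h1 : q (m a b) = q a * q b := Subtype.ext (hmul a b)
    change ξ (q (m a b)) = ξ (q a) * ξ (q b)
    rw [h1, map_mul]

end Pure

section Orbit

variable {X : Type*} [AddCommGroup X] [Module k X] [FiniteDimensional k X]

/-- Dual elements for characters. -/
theorem dual_elt (m : X →ₗ[k] X →ₗ[k] X) (e : X) {c₀ c₁ c₂ : X →ₗ[k] k} (h0 : c₀ e = 1 ∧ ∀ a b, c₀ (m a b) = c₀ a * c₀ b)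
    (h1 : c₁ e = 1 ∧ ∀ a b, c₁ (m a b) = c₁ a * c₁ b) (h2 : c₂ e = 1 ∧ ∀ a b, c₂ (m a b) = c₂ a * c₂ b)
    (h01 : c₀ ≠ c₁) (h02 : c₀ ≠ c₂) : ∃ a, c₀ a = 1 ∧ c₁ a = 0 ∧ c₂ a = 0 := by
  obtain ⟨u, hu⟩ : ∃ u, c₀ u ≠ c₁ u := by
    by_contra hc
    push Not at hc
    exact h01 (LinearMap.ext hc)
  obtain ⟨w, hw⟩ : ∃ w, c₀ w ≠ c₂ w := by
    by_contra hc
    push Not at hc
    exact h02 (LinearMap.ext hc)
  have hu' : c₀ u - c₁ u ≠ 0 := sub_ne_zero.mpr hu
  have hw' : c₀ w - c₂ w ≠ 0 := sub_ne_zero.mpr hw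
  refine ⟨((c₀ u - c₁ u) * (c₀ w - c₂ w))⁻¹ • m (u - c₁ u • e) (w - c₂ w • e), ?_, ?_, ?_⟩
  · rw [map_smul, h0.2, map_sub, map_sub, map_smul, map_smul, h0.1, smul_eq_mul, smul_eq_mul, smul_eq_mul, mul_one, mul_one]
    exact inv_mul_cancel₀ (mul_ne_zero hu' hw')
  · rw [map_smul, h1.2]
    have : c₁ (u - c₁ u • e) = 0 := by rw [map_sub, map_smul, h1.1, smul_eq_mul, mul_one, sub_self]
    rw [this, zero_mul, smul_zero]
  · rw [map_smul, h2.2]
    have : c₂ (w - c₂ w • e) = 0 := by rw [map_sub, map_smul, h2.1, smul_eq_mul, mul_one, sub_self]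
    rw [this, mul_zero, smul_zero]

theorem vanish_of_span {S : Set X} {φ : X →ₗ[k] k} (hS : ∀ x : X, x ∈ Submodule.span k S) (h : ∀ s ∈ S, φ s = 0) :
    φ = 0 := by
  ext x
  have h1 : Submodule.span k S ≤ LinearMap.ker φ := Submodule.span_le.mpr fun s hs => h s hs
  exact h1 (hS x)

/-- **The three dimensional case**: `τ` permutes three orthogonal idempotents cyclically. -/
theorem orbit3 (hdim : finrank k X = 3) (m : X →ₗ[k] X →ₗ[k] X) (e : X) (hl : ∀ x, m e x = x) (hr : ∀ x, m x e = x)
    (hassoc : ∀ a b c, m (m a b) c = m a (m b c)) (τ : X ≃ₗ[k] X) (hτ : ∀ a b, τ (m a b) = m (τ a) (τ b))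
    (hspan : ∀ x : X, x ∈ Submodule.span k {s | ∃ a b, s = m (τ a) b - m (τ b) a}) :
    ∃ a : ZMod 3 → X, e = ∑ i, a i ∧ (∀ x, ∃ c : ZMod 3 → k, x = ∑ i, c i • a i) ∧ (∀ i, τ (a (i + 1)) = a i) ∧
      (∀ i j, m (τ (a i)) (a j) = if i = j + 1 then a j else 0) := by
  classical
  haveI : Nontrivial X := Module.nontrivial_of_finrank_pos (R := k) (by omega)
  obtain ⟨f, fe, fm⟩ := exists_char (k := k) hdim.le m e hl hassoc
  have hτl : ∀ x, m (τ e) x = x := by
    intro x
    have h1 := hτ e (τ.symm x)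
    rw [hl, τ.apply_symm_apply] at h1
    exact h1.symm
  have hτe : τ e = e := by
    have h1 := hτl e
    rwa [hr] at h1
  -- the three characters
  let g : X →ₗ[k] k := f ∘ₗ (τ : X →ₗ[k] X)
  let h : X →ₗ[k] k := g ∘ₗ (τ : X →ₗ[k] X)
  have hg' : ∀ x, g x = f (τ x) := fun x => rfl
  have hh' : ∀ x, h x = g (τ x) := fun x => rfl
  have cf : f e = 1 ∧ ∀ a b, f (m a b) = f a * f b := ⟨fe, fm⟩
  have comp : ∀ c : X →ₗ[k] k, (c e = 1 ∧ ∀ a b, c (m a b) = c a * c b) →
      ((c ∘ₗ (τ : X →ₗ[k] X)) e = 1 ∧ ∀ a b, (c ∘ₗ (τ : X →ₗ[k] X)) (m a b) = (c ∘ₗ (τ : X →ₗ[k] X)) a * (c ∘ₗ (τ : X →ₗ[k] X)) b) := by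
    intro c hc
    refine ⟨?_, fun a b => ?_⟩
    · change c (τ e) = 1
      rw [hτe, hc.1]
    · change c (τ (m a b)) = c (τ a) * c (τ b)
      rw [hτ, hc.2]
  have cg : g e = 1 ∧ ∀ a b, g (m a b) = g a * g b := comp f cf
  have ch : h e = 1 ∧ ∀ a b, h (m a b) = h a * h b := comp g cg
  have hgf : f ≠ g := by
    intro heq
    have h0 : f = 0 := vanish_of_span hspan (by
      rintro s ⟨a, b, rfl⟩
      rw [map_sub, fm, fm, ← hg', ← hg', ← heq]
      ring)
    rw [h0] at fe
    simp at fe
  have hhf : f ≠ h := by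
    intro heq
    have h0 : f + g = 0 := vanish_of_span hspan (by
      rintro s ⟨a, b, rfl⟩
      have e1 : ∀ x, g (τ x) = f x := fun x => by rw [← hh', ← heq]
      simp only [LinearMap.add_apply, map_sub, fm, cg.2, ← hg', e1]
      ring)
    have h1 : ∀ x, f x + g x = 0 := fun x => by
      have := congrArg (fun φ => φ x) h0
      simpa using this
    have h2 := h1 e
    rw [fe, cg.1] at h2
    apply hgf
    ext x
    have h3 := h1 x
    linear_combination h3 - (g x) * h2
  have hgh : g ≠ h := by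
    intro heq
    apply hgf
    ext x
    have h1 : f (τ (τ.symm x)) = g (τ (τ.symm x)) := by
      rw [← hg', ← hh', ← heq]
    rwa [τ.apply_symm_apply] at h1
  obtain ⟨a0, f0, g0, h0⟩ := dual_elt m e cf cg ch hgf hhf
  obtain ⟨a1, g1, h1, f1⟩ := dual_elt m e cg ch cf hgh hgf.symm
  obtain ⟨a2, h2, f2, g2⟩ := dual_elt m e ch cf cg hhf.symm hgh.symm
  -- the basis
  have hind : LinearIndependent k ![a0, a1, a2] := by
    rw [Fintype.linearIndependent_iff]
    intro c hc
    rw [Fin.sum_univ_three] at hc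
    simp only [Matrix.cons_val_zero, Matrix.cons_val_one, Matrix.cons_val] at hc
    have t0 := congrArg f hc
    have t1 := congrArg g hc
    have t2 := congrArg h hc
    simp only [map_add, map_smul, map_zero, smul_eq_mul, f0, f1, f2, g0, g1, g2, h0, h1, h2, mul_zero, mul_one, add_zero,
      zero_add] at t0 t1 t2
    intro i
    fin_cases i
    · exact t0
    · exact t1
    · exact t2
  have hcd : Fintype.card (Fin 3) = finrank k X := by rw [hdim]; rfl
  set bX := basisOfLinearIndependentOfCardEqFinrank hind hcd with hbX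
  have hexp : ∀ x, x = f x • a0 + g x • a1 + h x • a2 := by
    intro x
    have h3 := bX.sum_repr x
    rw [Fin.sum_univ_three] at h3
    have e0 : bX 0 = a0 := by simp [hbX]
    have e1 : bX 1 = a1 := by simp [hbX]
    have e2 : bX 2 = a2 := by simp [hbX]
    rw [e0, e1, e2] at h3
    have t0 := congrArg f h3
    have t1 := congrArg g h3
    have t2 := congrArg h h3
    simp only [map_add, map_smul, smul_eq_mul, f0, f1, f2, g0, g1, g2, h0, h1, h2, mul_zero, mul_one, add_zero,
      zero_add] at t0 t1 t2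
    rw [t0, t1, t2] at h3
    exact h3.symm
  have hsep : ∀ x y, f x = f y → g x = g y → h x = h y → x = y := by
    intro x y t0 t1 t2
    rw [hexp x, hexp y, t0, t1, t2]
  -- `f ∘ τ³ = f`
  have hfin : ∀ x, h (τ x) = f x := by
    set c : X →ₗ[k] k := h ∘ₗ (τ : X →ₗ[k] X) with hc
    have cc := comp h ch
    have ce : c a0 + c a1 + c a2 = 1 := by
      have h3 := hexp e
      rw [fe, cg.1, ch.1, one_smul, one_smul, one_smul] at h3
      have h4 := congrArg c h3
      rw [cc.1] at h4
      simpa using h4.symm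
    have m00 : m a0 a0 = a0 := hsep _ _ (by rw [fm, f0]; simp) (by rw [cg.2, g0]; simp) (by rw [ch.2, h0]; simp)
    have m11 : m a1 a1 = a1 := hsep _ _ (by rw [fm, f1]; simp) (by rw [cg.2, g1]; simp) (by rw [ch.2, h1]; simp)
    have m22 : m a2 a2 = a2 := hsep _ _ (by rw [fm, f2]; simp) (by rw [cg.2, g2]; simp) (by rw [ch.2, h2]; simp)
    have m01 : m a0 a1 = 0 := hsep _ _ (by rw [fm, f1]; simp) (by rw [cg.2, g0]; simp) (by rw [ch.2, h0]; simp)
    have m02 : m a0 a2 = 0 := hsep _ _ (by rw [fm, f2]; simp) (by rw [cg.2, g0]; simp) (by rw [ch.2, h0]; simp)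
    have m12 : m a1 a2 = 0 := hsep _ _ (by rw [fm, f1]; simp) (by rw [cg.2, g2]; simp) (by rw [ch.2, h1]; simp)
    have p00 : c a0 * c a0 = c a0 := by rw [← cc.2, m00]
    have p11 : c a1 * c a1 = c a1 := by rw [← cc.2, m11]
    have p22 : c a2 * c a2 = c a2 := by rw [← cc.2, m22]
    have p01 : c a0 * c a1 = 0 := by rw [← cc.2, m01, map_zero]
    have p02 : c a0 * c a2 = 0 := by rw [← cc.2, m02, map_zero]
    have p12 : c a1 * c a2 = 0 := by rw [← cc.2, m12, map_zero]
    have hcx : ∀ x, c x = f x * c a0 + g x * c a1 + h x * c a2 := by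
      intro x
      conv_lhs => rw [hexp x]
      simp
    by_cases c0 : c a0 = 0
    · by_cases c1' : c a1 = 0
      · -- `c = h`
        exfalso
        have c2' : c a2 = 1 := by rw [c0, c1'] at ce; simpa using ce
        apply hgf
        ext x
        have h3 := hcx (τ.symm (τ.symm x))
        rw [c0, c1', c2'] at h3
        simp only [mul_zero, zero_add, mul_one, add_zero] at h3
        have h4 : c (τ.symm (τ.symm x)) = h (τ (τ.symm (τ.symm x))) := rfl
        rw [h4, τ.apply_symm_apply] at h3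
        have e1 : h (τ.symm x) = g x := by rw [hh', τ.apply_symm_apply]
        have e2 : h (τ.symm (τ.symm x)) = f x := by rw [hh', τ.apply_symm_apply, hg', τ.apply_symm_apply]
        rw [e1, e2] at h3
        exact h3.symm
      · -- `c = g`
        exfalso
        have c1'' : c a1 = 1 := by
          have := mul_left_cancel₀ c1' (p11.trans (mul_one _).symm)
          exact this
        have c2' : c a2 = 0 := by
          have := (mul_eq_zero.mp p12).resolve_left c1'
          exact this
        apply hhf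
        ext x
        have h3 := hcx (τ.symm x)
        rw [c0, c1'', c2'] at h3
        simp only [mul_zero, zero_add, mul_one, add_zero] at h3
        have h4 : c (τ.symm x) = h (τ (τ.symm x)) := rfl
        rw [h4, τ.apply_symm_apply, hg', τ.apply_symm_apply] at h3
        exact h3.symm
    · have c0' : c a0 = 1 := by
        have := mul_left_cancel₀ c0 (p00.trans (mul_one _).symm)
        exact this
      have c1' : c a1 = 0 := (mul_eq_zero.mp p01).resolve_left c0
      have c2' : c a2 = 0 := (mul_eq_zero.mp p02).resolve_left c0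
      intro x
      have h3 := hcx x
      rw [c0', c1', c2'] at h3
      have h5 : c x = h (τ x) := rfl
      rw [← h5]
      simpa using h3
  -- the indexing
  let F : ZMod 3 → (X →ₗ[k] k) := fun i => if i = 0 then f else if i = 1 then g else h
  let a : ZMod 3 → X := fun i => if i = 0 then a0 else if i = 1 then a1 else a2
  have hF0 : F 0 = f := rfl
  have hF1 : F 1 = g := rfl
  have hF2 : F 2 = h := rfl
  have ha0 : a 0 = a0 := rfl
  have ha1 : a 1 = a1 := rfl
  have ha2 : a 2 = a2 := rfl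
  have hall : ∀ P : ZMod 3 → Prop, P 0 → P 1 → P 2 → ∀ i, P i := by
    intro P h0 h1 h2 i
    fin_cases i
    · exact h0
    · exact h1
    · exact h2
  have hFa : ∀ i j, F i (a j) = if i = j then 1 else 0 := by
    intro i
    refine hall _ ?_ ?_ ?_
    · refine hall (fun i => F i (a 0) = if i = 0 then 1 else 0) ?_ ?_ ?_ i
      · rw [hF0, ha0, f0]; rfl
      · rw [hF1, ha0, g0]; rfl
      · rw [hF2, ha0, h0]; rfl
    · refine hall (fun i => F i (a 1) = if i = 1 then 1 else 0) ?_ ?_ ?_ i
      · rw [hF0, ha1, f1]; rfl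
      · rw [hF1, ha1, g1]; rfl
      · rw [hF2, ha1, h1]; rfl
    · refine hall (fun i => F i (a 2) = if i = 2 then 1 else 0) ?_ ?_ ?_ i
      · rw [hF0, ha2, f2]; rfl
      · rw [hF1, ha2, g2]; rfl
      · rw [hF2, ha2, h2]; rfl
  have hFτ : ∀ i x, F i (τ x) = F (i + 1) x := by
    refine hall _ ?_ ?_ ?_
    · intro x
      rfl
    · intro x
      rfl
    · intro x
      exact hfin x
  have hFm : ∀ i u v, F i (m u v) = F i u * F i v := by
    refine hall _ ?_ ?_ ?_
    · exact fm
    · exact cg.2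
    · exact ch.2
  have hsepF : ∀ x y, (∀ i, F i x = F i y) → x = y := fun x y hxy =>
    hsep x y (hxy 0) (hxy 1) (hxy 2)
  have hsum : ∀ (G : ZMod 3 → X), ∑ i, G i = G 0 + G 1 + G 2 := by
    intro G
    exact Fin.sum_univ_three G
  refine ⟨a, ?_, ?_, ?_, ?_⟩
  · rw [hsum, ha0, ha1, ha2]
    have h3 := hexp e
    rw [fe, cg.1, ch.1, one_smul, one_smul, one_smul] at h3
    exact h3
  · intro x
    refine ⟨fun i => F i x, ?_⟩
    rw [hsum]
    exact hexp x
  · intro j
    apply hsepF
    intro i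
    rw [hFτ, hFa, hFa]
    by_cases hij : i = j
    · subst hij
      simp
    · have : i + 1 ≠ j + 1 := fun h => hij (add_right_cancel h)
      rw [if_neg this, if_neg hij]
  · intro i j
    apply hsepF
    intro l
    rw [hFm, hFτ, hFa, hFa]
    by_cases hij : i = j + 1
    · rw [if_pos hij, hFa]
      subst hij
      by_cases hlj : l = j
      · subst hlj
        simp
      · have : l + 1 ≠ j + 1 := fun h => hlj (add_right_cancel h)
        simp [hlj, this]
    · rw [if_neg hij, map_zero]
      by_cases hlj : l = j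
      · subst hlj
        have : l + 1 ≠ i := fun h => hij h.symm
        simp [this]
      · simp [hlj]

/-- **The two dimensional case**: `τ` swaps two orthogonal idempotents. -/
theorem orbit2 (hdim : finrank k X = 2) (m : X →ₗ[k] X →ₗ[k] X) (e : X) (hl : ∀ x, m e x = x) (hr : ∀ x, m x e = x)
    (hassoc : ∀ a b c, m (m a b) c = m a (m b c)) (τ : X ≃ₗ[k] X) (hτ : ∀ a b, τ (m a b) = m (τ a) (τ b))
    (hspan : ∀ x : X, x ∈ Submodule.span k {s | ∃ a b, s = m (τ (τ a)) b - m (τ b) a}) :
    ∃ a0 a1 : X, e = a0 + a1 ∧ (∀ x, ∃ c0 c1 : k, x = c0 • a0 + c1 • a1) ∧ τ a0 = a1 ∧ τ a1 = a0 ∧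
      m (τ a0) a0 = 0 ∧ m (τ a1) a1 = 0 ∧ LinearIndependent k ![a0, a1] := by
  classical
  haveI : Nontrivial X := Module.nontrivial_of_finrank_pos (R := k) (by omega)
  obtain ⟨f, fe, fm⟩ := exists_char (k := k) (by omega) m e hl hassoc
  have hτl : ∀ x, m (τ e) x = x := by
    intro x
    have h1 := hτ e (τ.symm x)
    rw [hl, τ.apply_symm_apply] at h1
    exact h1.symm
  have hτe : τ e = e := by
    have h1 := hτl e
    rwa [hr] at h1
  let g : X →ₗ[k] k := f ∘ₗ (τ : X →ₗ[k] X)
  have hg' : ∀ x, g x = f (τ x) := fun x => rfl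
  have cf : f e = 1 ∧ ∀ a b, f (m a b) = f a * f b := ⟨fe, fm⟩
  have cg : g e = 1 ∧ ∀ a b, g (m a b) = g a * g b := by
    refine ⟨?_, fun a b => ?_⟩
    · rw [hg', hτe, fe]
    · rw [hg', hτ, fm, hg', hg']
  have hgf : f ≠ g := by
    intro heq
    have h0 : f = 0 := vanish_of_span hspan (by
      rintro s ⟨a, b, rfl⟩
      rw [map_sub, fm, fm, ← hg', ← hg', ← heq, ← hg', ← heq]
      ring)
    rw [h0] at fe
    simp at fe
  obtain ⟨a0, f0, g0, -⟩ := dual_elt m e cf cg cg hgf hgf
  set a1 := e - a0 with ha1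
  have f1 : f a1 = 0 := by rw [ha1, map_sub, fe, f0, sub_self]
  have g1 : g a1 = 1 := by rw [ha1, map_sub, cg.1, g0, sub_zero]
  have hind : LinearIndependent k ![a0, a1] := by
    rw [Fintype.linearIndependent_iff]
    intro c hc
    rw [Fin.sum_univ_two] at hc
    simp only [Matrix.cons_val_zero, Matrix.cons_val_one] at hc
    have t0 := congrArg f hc
    have t1 := congrArg g hc
    simp only [map_add, map_smul, map_zero, smul_eq_mul, f0, f1, g0, g1, mul_zero, mul_one, add_zero, zero_add] at t0 t1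
    intro i
    fin_cases i
    · exact t0
    · exact t1
  have hcd : Fintype.card (Fin 2) = finrank k X := by rw [hdim]; rfl
  set bX := basisOfLinearIndependentOfCardEqFinrank hind hcd with hbX
  have hexp : ∀ x, x = f x • a0 + g x • a1 := by
    intro x
    have h3 := bX.sum_repr x
    rw [Fin.sum_univ_two] at h3
    have e0 : bX 0 = a0 := by simp [hbX]
    have e1 : bX 1 = a1 := by simp [hbX]
    rw [e0, e1] at h3
    have t0 := congrArg f h3
    have t1 := congrArg g h3
    simp only [map_add, map_smul, smul_eq_mul, f0, f1, g0, g1, mul_zero, mul_one, add_zero, zero_add] at t0 t1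
    rw [t0, t1] at h3
    exact h3.symm
  have hsep : ∀ x y, f x = f y → g x = g y → x = y := by
    intro x y t0 t1
    rw [hexp x, hexp y, t0, t1]
  -- `f ∘ τ² = f`
  have hfin : ∀ x, g (τ x) = f x := by
    have cc : (g (τ e) = 1) ∧ ∀ a b, g (τ (m a b)) = g (τ a) * g (τ b) := by
      refine ⟨by rw [hτe, cg.1], fun a b => ?_⟩
      rw [hτ, cg.2]
    have ce : g (τ a0) + g (τ a1) = 1 := by
      rw [← cc.1, ← map_add, ← map_add, ha1, add_sub_cancel]
    have m00 : m a0 a0 = a0 := hsep _ _ (by rw [fm, f0]; simp) (by rw [cg.2, g0]; simp)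
    have m11 : m a1 a1 = a1 := hsep _ _ (by rw [fm, f1]; simp) (by rw [cg.2, g1]; simp)
    have m01 : m a0 a1 = 0 := hsep _ _ (by rw [fm, f1]; simp) (by rw [cg.2, g0]; simp)
    have p00 : g (τ a0) * g (τ a0) = g (τ a0) := by rw [← cc.2, m00]
    have p01 : g (τ a0) * g (τ a1) = 0 := by rw [← cc.2, m01, map_zero, map_zero]
    have hcx : ∀ x, g (τ x) = f x * g (τ a0) + g x * g (τ a1) := by
      intro x
      conv_lhs => rw [hexp x]
      simp
    by_cases c0 : g (τ a0) = 0
    · exfalso
      have c1' : g (τ a1) = 1 := by rw [c0] at ce; simpa using ce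
      apply hgf
      ext x
      have h3 := hcx (τ.symm x)
      rw [c0, c1'] at h3
      simp only [mul_zero, zero_add, mul_one] at h3
      rw [τ.apply_symm_apply] at h3
      rw [hg' (τ.symm x), τ.apply_symm_apply] at h3
      exact h3.symm
    · have c0' : g (τ a0) = 1 := mul_left_cancel₀ c0 (p00.trans (mul_one _).symm)
      have c1' : g (τ a1) = 0 := (mul_eq_zero.mp p01).resolve_left c0
      intro x
      have h3 := hcx x
      rw [c0', c1'] at h3
      simpa using h3
  have hτ0 : τ a0 = a1 := hsep _ _ (by rw [← hg', g0, f1]) (by rw [hfin, f0, g1])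
  have hτ1 : τ a1 = a0 := hsep _ _ (by rw [← hg', g1, f0]) (by rw [hfin, f1, g0])
  refine ⟨a0, a1, ?_, fun x => ⟨f x, g x, hexp x⟩, hτ0, hτ1, ?_, ?_, hind⟩
  · rw [ha1, add_sub_cancel]
  · apply hsep
    · rw [fm, map_zero, ← hg', g0, zero_mul]
    · rw [cg.2, map_zero, hfin, f0, g0, one_mul]
  · apply hsep
    · rw [fm, map_zero, f1, mul_zero]
    · rw [cg.2, map_zero, hfin, f1, zero_mul]

end Orbit

end Cfsg.Agent.Lib.KS84.Chars
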