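import Mathlib

/-!
# Bilinear maps all of whose left multiplications have rank at most one
-/

set_option autoImplicit false
set_option linter.unusedSectionVars false
set_option linter.style.haveILetI false

namespace Cfsg.Agent.Lib.KS84.Rank1

open Module

variable {k V W : Type*} [Field k] [AddCommGroup V] [Module k V] [AddCommGroup W] [Module k W]

theorem rank_one_form {f : V →ₗ[k] W} (hf : finrank k (LinearMap.range f) ≤ 1) [FiniteDimensional k W]
    {x : V} (hx : f x ≠ 0) : ∃ ξ : V →ₗ[k] k, ξ x = 1 ∧ ∀ z, f z = ξ z • f x := by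
  classical
  have hmem : ∀ z, ∃ c : k, c • f x = f z := by
    intro z
    have hne : (⟨f x, ⟨x, rfl⟩⟩ : LinearMap.range f) ≠ 0 := fun h => hx (congrArg Subtype.val h)
    have h1 : finrank k (LinearMap.range f) = 1 := by
      refine le_antisymm hf (Nat.one_le_iff_ne_zero.mpr fun h0 => hne ?_)
      have h2 := Submodule.finrank_eq_zero.mp h0
      exact Subtype.ext (by
        have h3 : f x ∈ LinearMap.range f := ⟨x, rfl⟩
        rw [h2] at h3
        simpa using h3)
    obtain ⟨c, hc⟩ := (finrank_eq_one_iff_of_nonzero' (⟨f x, ⟨x, rfl⟩⟩ : LinearMap.range f) hne).mp h1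
      ⟨f z, ⟨z, rfl⟩⟩
    exact ⟨c, congrArg Subtype.val hc⟩
  choose c hc using hmem
  refine ⟨{ toFun := c, map_add' := ?_, map_smul' := ?_ }, ?_, ?_⟩
  · intro a b
    have h := hc (a + b)
    rw [map_add, ← hc a, ← hc b, ← add_smul] at h
    exact smul_left_injective k hx h
  · intro r a
    have h := hc (r • a)
    rw [map_smul, ← hc a, smul_smul] at h
    exact smul_left_injective k hx h
  · have h := hc x
    change c x = 1
    have h2 : c x • f x = (1 : k) • f x := by rw [h, one_smul]
    exact smul_left_injective k hx h2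
  · intro z
    exact (hc z).symm

/-- If all left multiplications have rank at most one, there is a common zero or all products lie on a
line. -/
theorem dichotomy [FiniteDimensional k W] (P : V →ₗ[k] V →ₗ[k] W)
    (h : ∀ y, finrank k (LinearMap.range (P y)) ≤ 1) :
    (∃ z : V, z ≠ 0 ∧ ∀ y, P y z = 0) ∨ (∃ h₀ : W, ∀ y z, P y z ∈ Submodule.span k {h₀}) := by
  classical
  by_cases h0 : ∀ y z, P y z = 0
  · right
    exact ⟨0, fun y z => by rw [h0]; exact Submodule.zero_mem _⟩
  push Not at h0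
  obtain ⟨y₀, x₀, hne⟩ := h0
  obtain ⟨ξ, hξ1, hξ⟩ := rank_one_form (h y₀) hne
  set h₀ := P y₀ x₀ with hh₀
  -- the dichotomy for each `y`
  have hdich : ∀ y, (∀ z, P y z ∈ Submodule.span k {h₀}) ∨ (∀ π, ξ π = 0 → P y π = 0) := by
    intro y
    by_contra hcon
    push Not at hcon
    obtain ⟨⟨z₁, hz₁⟩, π₁, hπ₁, hne₁⟩ := hcon
    obtain ⟨ξ', hξ'1, hξ'⟩ := rank_one_form (h y) hne₁
    set h' := P y π₁ with hh'
    have hh'notin : h' ∉ Submodule.span k {h₀} := by
      intro hmem
      apply hz₁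
      rw [hξ' z₁]
      exact Submodule.smul_mem _ _ hmem
    -- the sum has rank two
    have hsum := h (y₀ + y)
    set x' := x₀ - ξ' x₀ • π₁ with hx'
    have h1 : P (y₀ + y) π₁ = h' := by
      rw [map_add, LinearMap.add_apply, hξ π₁, hπ₁, zero_smul, zero_add]
    have h2 : P (y₀ + y) x' = h₀ := by
      have hξx : ξ x' = 1 := by rw [hx', map_sub, map_smul, hπ₁, smul_zero, sub_zero, hξ1]
      have hξ'x : ξ' x' = 0 := by
        rw [hx', map_sub, map_smul, hξ'1, smul_eq_mul, mul_one, sub_self]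
      rw [map_add, LinearMap.add_apply, hξ x', hξx, one_smul, hξ' x', hξ'x, zero_smul, add_zero]
    have hne' : P (y₀ + y) π₁ ≠ 0 := by
      rw [h1]
      exact hne₁
    obtain ⟨ξ'', -, hξ''⟩ := rank_one_form hsum hne'
    apply hh'notin
    have h3 := hξ'' x'
    rw [h2, h1] at h3
    have hne0 : h₀ ≠ 0 := hne
    have hc : ξ'' x' ≠ 0 := by
      intro hz
      rw [hz, zero_smul] at h3
      exact hne0 h3
    have h4 : h' = (ξ'' x')⁻¹ • h₀ := by
      rw [h3, smul_smul, inv_mul_cancel₀ hc, one_smul]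
    rw [h4]
    exact Submodule.smul_mem _ _ (Submodule.mem_span_singleton_self _)
  by_cases hA : ∀ y z, P y z ∈ Submodule.span k {h₀}
  · right
    exact ⟨h₀, hA⟩
  push Not at hA
  obtain ⟨y₁, z₁, hz₁⟩ := hA
  have hB1 : ∀ π, ξ π = 0 → P y₁ π = 0 := by
    rcases hdich y₁ with h1 | h1
    · exact absurd (h1 z₁) hz₁
    · exact h1
  have hB : ∀ y π, ξ π = 0 → P y π = 0 := by
    intro y π hπ
    rcases hdich y with h1 | h1
    · -- look at `y + y₁`
      rcases hdich (y + y₁) with h2 | h2
      · exfalso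
        apply hz₁
        have h3 := h2 z₁
        rw [map_add, LinearMap.add_apply] at h3
        have h4 := Submodule.sub_mem _ h3 (h1 z₁)
        rwa [add_sub_cancel_left] at h4
      · have h3 := h2 π hπ
        rw [map_add, LinearMap.add_apply, hB1 π hπ, add_zero] at h3
        exact h3
    · exact h1 π hπ
  by_cases hπ : ∃ π, ξ π = 0 ∧ π ≠ 0
  · left
    obtain ⟨π, h1, h2⟩ := hπ
    exact ⟨π, h2, fun y => hB y π h1⟩
  · right
    push Not at hπ
    -- `V` is a line
    have hline : ∀ z, z = ξ z • x₀ := by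
      intro z
      have h1 : ξ (z - ξ z • x₀) = 0 := by
        rw [map_sub, map_smul, hξ1, smul_eq_mul, mul_one, sub_self]
      exact sub_eq_zero.mp (hπ _ h1)
    refine ⟨h₀, fun y z => ?_⟩
    rw [hline z, hline y]
    simp only [map_smul, LinearMap.smul_apply]
    refine Submodule.smul_mem _ _ (Submodule.smul_mem _ _ ?_)
    -- `P x₀ x₀` is a multiple of `h₀`
    have h2 : y₀ = ξ y₀ • x₀ := hline y₀
    have h3 : h₀ = ξ y₀ • P x₀ x₀ := by
      rw [hh₀]
      conv_lhs => rw [h2]
      simp only [map_smul, LinearMap.smul_apply, hξ1, one_smul]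
    have hc : ξ y₀ ≠ 0 := by
      intro hz
      rw [hz, zero_smul] at h3
      exact hne h3
    have h4 : P x₀ x₀ = (ξ y₀)⁻¹ • h₀ := by
      rw [h3, smul_smul, inv_mul_cancel₀ hc, one_smul]
    rw [h4]
    exact Submodule.smul_mem _ _ (Submodule.mem_span_singleton_self _)

end Cfsg.Agent.Lib.KS84.Rank1
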