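import Mathlib
import Cfsg.Agent.Lib.KS84.Rank1

/-!
# Three dimensional spaces of singular `3 × 3` matrices

A bilinear map `P : V × V → W`, `dim V = dim W = 3`, over an infinite field, such that no `P y` is surjective,
has a common zero, or its image lies in a hyperplane, or it maps `V × Q` into a line for a plane `Q`, or
`P y (θ y) = 0` for a bijective linear map `θ`.
-/

set_option autoImplicit false
set_option linter.unusedSectionVars false
set_option linter.style.haveILetI false

namespace Cfsg.Agent.Lib.KS84.Sing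

open Module

variable {k V W : Type*} [Field k] [AddCommGroup V] [Module k V] [AddCommGroup W] [Module k W]

theorem coeffs_zero [Infinite k] {a b c : k} (h : ∀ s : k, a * s + b * s ^ 2 + c * s ^ 3 = 0) :
    a = 0 ∧ b = 0 ∧ c = 0 := by
  have hp : (Polynomial.C a * Polynomial.X + Polynomial.C b * Polynomial.X ^ 2 + Polynomial.C c * Polynomial.X ^ 3 :
      Polynomial k) = 0 := by
    apply Polynomial.funext
    intro s
    simp only [Polynomial.eval_add, Polynomial.eval_mul, Polynomial.eval_C, Polynomial.eval_X, Polynomial.eval_pow,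
      Polynomial.eval_zero]
    exact h s
  have h1 := congrArg (fun p => Polynomial.coeff p 1) hp
  have h2 := congrArg (fun p => Polynomial.coeff p 2) hp
  have h3 := congrArg (fun p => Polynomial.coeff p 3) hp
  simp [Polynomial.coeff_X_pow, Polynomial.coeff_X] at h1 h2 h3
  exact ⟨h1, h2, h3⟩

/-- The first three coefficients of the determinant along a line through a rank two point. -/
theorem core [Infinite k] (b1 b2 e A11 A12 A21 A22 c1 c2 : V →ₗ[k] k) (y0 : V)
    (h0 : b1 y0 = 0 ∧ b2 y0 = 0 ∧ e y0 = 0 ∧ A11 y0 = 1 ∧ A12 y0 = 0 ∧ A21 y0 = 0 ∧ A22 y0 = 1 ∧ c1 y0 = 0 ∧ c2 y0 = 0)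
    (hdet : ∀ y, b1 y * (A21 y * c2 y - A22 y * c1 y) - A11 y * (b2 y * c2 y - A22 y * e y) +
      A12 y * (b2 y * c1 y - A21 y * e y) = 0) :
    (∀ y, e y = 0) ∧ (∀ y, c1 y * b1 y + c2 y * b2 y = 0) ∧
      (∀ y, c1 y * (A22 y * b1 y - A12 y * b2 y) + c2 y * (A11 y * b2 y - A21 y * b1 y) = 0) := by
  obtain ⟨h1, h2, h3, h4, h5, h6, h7, h8, h9⟩ := h0
  have hk : ∀ y, e y = 0 ∧
      (e y * (A11 y + A22 y) - (c1 y * b1 y + c2 y * b2 y)) = 0 ∧
      (e y * (A11 y * A22 y - A12 y * A21 y) - (c1 y * (A22 y * b1 y - A12 y * b2 y) +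
        c2 y * (A11 y * b2 y - A21 y * b1 y))) = 0 := by
    intro y
    apply coeffs_zero
    intro s
    have h := hdet (y0 + s • y)
    simp only [map_add, map_smul, smul_eq_mul, h1, h2, h3, h4, h5, h6, h7, h8, h9] at h
    linear_combination h
  refine ⟨fun y => (hk y).1, fun y => ?_, fun y => ?_⟩
  · have := (hk y).2.1
    rw [(hk y).1] at this
    linear_combination -this
  · have := (hk y).2.2
    rw [(hk y).1] at this
    linear_combination -this

/-- Two linear forms with vanishing product: one of them vanishes. -/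
theorem form_mul_eq_zero {f g : V →ₗ[k] k} (h : ∀ y, f y * g y = 0) : f = 0 ∨ g = 0 := by
  by_contra hcon
  push Not at hcon
  obtain ⟨hf, hg⟩ := hcon
  obtain ⟨a, ha⟩ : ∃ a, f a ≠ 0 := by
    by_contra hc
    push Not at hc
    exact hf (LinearMap.ext hc)
  obtain ⟨b, hb⟩ : ∃ b, g b ≠ 0 := by
    by_contra hc
    push Not at hc
    exact hg (LinearMap.ext hc)
  have h1 : g a = 0 := (mul_eq_zero.mp (h a)).resolve_left ha
  have h2 : f b = 0 := (mul_eq_zero.mp (h b)).resolve_right hb
  have h3 := h (a + b)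
  rw [map_add, map_add, h1, h2, add_zero, zero_add] at h3
  exact (mul_ne_zero ha hb) h3

/-- Three linear forms with vanishing product: one of them vanishes. -/
theorem form_mul3_eq_zero [Infinite k] {f g l : V →ₗ[k] k} (h : ∀ y, f y * g y * l y = 0) :
    f = 0 ∨ g = 0 ∨ l = 0 := by
  classical
  by_contra hcon
  push Not at hcon
  obtain ⟨hf, hg, hl⟩ := hcon
  have hfg : ¬ ∀ y, f y * g y = 0 := by
    intro h0
    rcases form_mul_eq_zero h0 with h1 | h1
    · exact hf h1
    · exact hg h1
  push Not at hfg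
  obtain ⟨a, ha⟩ := hfg
  apply hl
  ext y
  simp only [LinearMap.zero_apply]
  -- the polynomial identity along `a + s y`
  have hp : ((Polynomial.C (f a) + Polynomial.C (f y) * Polynomial.X) * (Polynomial.C (g a) + Polynomial.C (g y) * Polynomial.X) *
      (Polynomial.C (l a) + Polynomial.C (l y) * Polynomial.X) : Polynomial k) = 0 := by
    apply Polynomial.funext
    intro s
    have := h (a + s • y)
    simp only [map_add, map_smul, smul_eq_mul] at this
    simp only [Polynomial.eval_add, Polynomial.eval_mul, Polynomial.eval_C, Polynomial.eval_X, Polynomial.eval_zero]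
    linear_combination this
  have hne1 : (Polynomial.C (f a) + Polynomial.C (f y) * Polynomial.X : Polynomial k) ≠ 0 := by
    intro h0
    have := congrArg (fun p => Polynomial.coeff p 0) h0
    simp at this
    exact (left_ne_zero_of_mul ha) this
  have hne2 : (Polynomial.C (g a) + Polynomial.C (g y) * Polynomial.X : Polynomial k) ≠ 0 := by
    intro h0
    have := congrArg (fun p => Polynomial.coeff p 0) h0
    simp at this
    exact (right_ne_zero_of_mul ha) this
  have h3 := (mul_eq_zero.mp hp).resolve_left (mul_ne_zero hne1 hne2)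
  have := congrArg (fun p => Polynomial.coeff p 1) h3
  simpa using this

/-- Two linear forms: either dual vectors exist or they are proportional to one form. -/
theorem two_forms (b1 b2 : V →ₗ[k] k) (hb : ¬ (b1 = 0 ∧ b2 = 0)) :
    (∃ v1 v2 : V, b1 v1 = 1 ∧ b2 v1 = 0 ∧ b1 v2 = 0 ∧ b2 v2 = 1) ∨
      (∃ (u1 u2 : k) (β : V →ₗ[k] k), (u1 ≠ 0 ∨ u2 ≠ 0) ∧ β ≠ 0 ∧ b1 = u1 • β ∧ b2 = u2 • β) := by
  by_cases hb2 : b2 = 0
  · right
    subst hb2
    have hb1 : b1 ≠ 0 := fun h => hb ⟨h, rfl⟩
    exact ⟨1, 0, b1, Or.inl one_ne_zero, hb1, by simp, by simp⟩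
  obtain ⟨x2, hx2⟩ : ∃ x, b2 x = 1 := by
    obtain ⟨x, hx⟩ : ∃ x, b2 x ≠ 0 := by
      by_contra hc
      push Not at hc
      exact hb2 (LinearMap.ext hc)
    exact ⟨(b2 x)⁻¹ • x, by rw [map_smul, smul_eq_mul, inv_mul_cancel₀ hx]⟩
  by_cases hd : b1 - b1 x2 • b2 = 0
  · right
    refine ⟨b1 x2, 1, b2, Or.inr one_ne_zero, hb2, sub_eq_zero.mp hd, by simp⟩
  · left
    obtain ⟨x1, hx1⟩ : ∃ x, (b1 - b1 x2 • b2) x = 1 := by
      obtain ⟨x, hx⟩ : ∃ x, (b1 - b1 x2 • b2) x ≠ 0 := by
        by_contra hc
        push Not at hc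
        exact hd (LinearMap.ext hc)
      exact ⟨((b1 - b1 x2 • b2) x)⁻¹ • x, by rw [map_smul, smul_eq_mul, inv_mul_cancel₀ hx]⟩
    simp only [LinearMap.sub_apply, LinearMap.smul_apply, smul_eq_mul] at hx1
    refine ⟨x1 - b2 x1 • x2, x2 - b1 x2 • (x1 - b2 x1 • x2), ?_, ?_, ?_, ?_⟩
    · simp only [map_sub, map_smul, smul_eq_mul]
      linear_combination hx1 + (b2 x1 * 0) * hx2
    · simp only [map_sub, map_smul, smul_eq_mul, hx2]
      ring
    · simp only [map_sub, map_smul, smul_eq_mul, hx2]
      linear_combination (- b1 x2) * hx1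
    · simp only [map_sub, map_smul, smul_eq_mul, hx2]
      ring

/-- The case analysis once the coordinates are chosen. -/
theorem finish [Infinite k] [FiniteDimensional k V] (hV : finrank k V = 3) (P : V →ₗ[k] V →ₗ[k] W) (y0 z0 v1 v2 : V)
    (h1 h2 w0 : W) (ω : W →ₗ[k] k) (hω : ω h1 = 0 ∧ ω h2 = 0 ∧ ω w0 = 1)
    (b1 b2 A11 A12 A21 A22 c1 c2 : V →ₗ[k] k)
    (h0 : b1 y0 = 0 ∧ b2 y0 = 0 ∧ A11 y0 = 1 ∧ A12 y0 = 0 ∧ A21 y0 = 0 ∧ A22 y0 = 1 ∧ c1 y0 = 0 ∧ c2 y0 = 0)
    (hind : LinearIndependent k ![z0, v1, v2]) (hW : LinearIndependent k ![h1, h2, w0])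
    (hspan : ∀ z : V, ∃ a b c : k, z = a • z0 + b • v1 + c • v2)
    (Pz : ∀ y, P y z0 = b1 y • h1 + b2 y • h2)
    (Pv1 : ∀ y, P y v1 = A11 y • h1 + A21 y • h2 + c1 y • w0)
    (Pv2 : ∀ y, P y v2 = A12 y • h1 + A22 y • h2 + c2 y • w0)
    (Q1 : ∀ y, c1 y * b1 y + c2 y * b2 y = 0)
    (Q2 : ∀ y, c1 y * (A22 y * b1 y - A12 y * b2 y) + c2 y * (A11 y * b2 y - A21 y * b1 y) = 0) :
    (∃ z : V, z ≠ 0 ∧ ∀ y, P y z = 0) ∨ (∃ ω : W →ₗ[k] k, ω ≠ 0 ∧ ∀ y z, ω (P y z) = 0) ∨
      (∃ Q : Submodule k V, finrank k Q = 2 ∧ ∃ h : W, ∀ y, ∀ q ∈ Q, P y q ∈ Submodule.span k {h}) ∨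
      (∃ θ : V ≃ₗ[k] V, ∀ y, P y (θ y) = 0) := by
  classical
  obtain ⟨e1, e2, e3, e4, e5, e6, e7, e8⟩ := h0
  have hindF := Fintype.linearIndependent_iff.mp hind
  have hind3 : ∀ a b c : k, a • z0 + b • v1 + c • v2 = 0 → a = 0 ∧ b = 0 ∧ c = 0 := by
    intro a b c h
    have h' := hindF ![a, b, c] (by simpa [Fin.sum_univ_three] using h)
    exact ⟨h' 0, h' 1, h' 2⟩
  have hz0 : z0 ≠ 0 := by
    intro h
    have := (hind3 1 0 0 (by simp [h])).1
    exact one_ne_zero this
  have hindW := Fintype.linearIndependent_iff.mp hW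
  have hind3W : ∀ a b c : k, a • h1 + b • h2 + c • w0 = 0 → a = 0 ∧ b = 0 ∧ c = 0 := by
    intro a b c h
    have h' := hindW ![a, b, c] (by simpa [Fin.sum_univ_three] using h)
    exact ⟨h' 0, h' 1, h' 2⟩
  by_cases hb : b1 = 0 ∧ b2 = 0
  · left
    refine ⟨z0, hz0, fun y => ?_⟩
    rw [Pz, hb.1, hb.2]
    simp
  by_cases hc : c1 = 0 ∧ c2 = 0
  · right; left
    refine ⟨ω, ?_, fun y z => ?_⟩
    · intro h
      have := hω.2.2
      rw [h] at this
      simp at this
    · obtain ⟨a, b, c, rfl⟩ := hspan z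
      simp only [map_add, map_smul, Pz, Pv1, Pv2, hc.1, hc.2, hω.1, hω.2.1, LinearMap.zero_apply, zero_smul, smul_eq_mul,
        map_zero]
      ring
  rcases two_forms b1 b2 hb with ⟨v1', v2', f1, f2, f3, f4⟩ | ⟨u1, u2, β, hu, hβ, hb1, hb2⟩
  · -- the skew case
    right; right; right
    -- the basis `y0, v1', v2'`
    have hindY : LinearIndependent k ![y0, v1', v2'] := by
      rw [Fintype.linearIndependent_iff]
      intro g hg
      rw [Fin.sum_univ_three] at hg
      simp only [Matrix.cons_val_zero, Matrix.cons_val_one, Matrix.cons_val] at hg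
      have t1 := congrArg b1 hg
      have t2 := congrArg b2 hg
      have t3 := congrArg A11 hg
      simp only [map_add, map_smul, map_zero, smul_eq_mul, e1, e2, f1, f2, f3, f4, e3] at t1 t2 t3
      have g1 : g 1 = 0 := by linear_combination t1
      have g2 : g 2 = 0 := by linear_combination t2
      have g0 : g 0 = 0 := by
        rw [g1, g2] at t3
        linear_combination t3
      intro i
      fin_cases i
      · exact g0
      · exact g1
      · exact g2
    have hcardY : Fintype.card (Fin 3) = finrank k V := by rw [hV]; rfl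
    set bY := basisOfLinearIndependentOfCardEqFinrank hindY hcardY with hbY
    set μ : V →ₗ[k] k := bY.coord 0 with hμ
    have hdec : ∀ y, y = μ y • y0 + b1 y • v1' + b2 y • v2' := by
      intro y
      have h3 := bY.sum_repr y
      rw [Fin.sum_univ_three] at h3
      have hb0 : bY 0 = y0 := by simp [hbY]
      have hb1' : bY 1 = v1' := by simp [hbY]
      have hb2' : bY 2 = v2' := by simp [hbY]
      rw [hb0, hb1', hb2'] at h3
      have t1 := congrArg b1 h3
      have t2 := congrArg b2 h3
      simp only [map_add, map_smul, smul_eq_mul, e1, e2, f1, f2, f3, f4] at t1 t2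
      have x1 : bY.repr y 1 = b1 y := by linear_combination t1
      have x2 : bY.repr y 2 = b2 y := by linear_combination t2
      rw [x1, x2] at h3
      exact h3.symm
    -- the values of `c`
    have n1 : c1 v1' = 0 := by
      have := Q1 v1'
      rw [f1, f2] at this
      linear_combination this
    have n2 : c2 v2' = 0 := by
      have := Q1 v2'
      rw [f3, f4] at this
      linear_combination this
    have n3 : c1 v2' = - c2 v1' := by
      have := Q1 (v1' + v2')
      simp only [map_add, f1, f2, f3, f4, n1, n2] at this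
      linear_combination this
    set ν := c2 v1' with hν
    have hc1 : ∀ y, c1 y = - ν * b2 y := by
      intro y
      conv_lhs => rw [hdec y]
      simp only [map_add, map_smul, smul_eq_mul, e7, n1, n3]
      ring
    have hc2 : ∀ y, c2 y = ν * b1 y := by
      intro y
      conv_lhs => rw [hdec y]
      simp only [map_add, map_smul, smul_eq_mul, e8, n2]
      ring
    have hν0 : ν ≠ 0 := by
      intro h
      apply hc
      constructor
      · ext y
        rw [hc1, h]
        simp
      · ext y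
        rw [hc2, h]
        simp
    -- the values of `A`
    set p11 := A11 v1' with hp11
    set p12 := A12 v1' with hp12
    set p21 := A21 v1' with hp21
    set p22 := A22 v1' with hp22
    set q11 := A11 v2' with hq11
    set q12 := A12 v2' with hq12
    set q21 := A21 v2' with hq21
    set q22 := A22 v2' with hq22
    have hp21' : p21 = 0 := by
      have := Q2 v1'
      rw [hc1, hc2, f1, f2] at this
      have h2 : ν * p21 = 0 := by
        rw [f3] at *
        simp only [mul_zero, zero_mul] at this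
        linear_combination - this
      exact (mul_eq_zero.mp h2).resolve_left hν0
    have hq12' : q12 = 0 := by
      have := Q2 v2'
      rw [hc1, hc2, f3, f4] at this
      have h2 : ν * q12 = 0 := by
        linear_combination this
      exact (mul_eq_zero.mp h2).resolve_left hν0
    have hkey : ∀ s : k, (0 : k) * s + 0 * s + (p11 - p22 - q21) * s + (q11 - q22 + p12) * s ^ 2 = 0 := by
      intro s
      have := Q2 (v1' + s • v2')
      rw [hc1, hc2] at this
      simp only [map_add, map_smul, smul_eq_mul, f1, f2, f3, f4] at this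
      rw [← hp11, ← hp12, ← hp21, ← hp22, ← hq11, ← hq12, ← hq21, ← hq22, hp21', hq12'] at this
      have h2 : ν * ((p11 - p22 - q21) * s + (q11 - q22 + p12) * s ^ 2) = 0 := by
        linear_combination this
      have h3 := (mul_eq_zero.mp h2).resolve_left hν0
      linear_combination h3
    have hkey2 := coeffs_zero (a := p11 - p22 - q21) (b := q11 - q22 + p12) (c := 0) (fun s => by
      have := hkey s
      linear_combination this)
    obtain ⟨hβ', hγ', -⟩ := hkey2
    have hA11 : ∀ y, A11 y = μ y + b1 y * p11 + b2 y * q11 := by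
      intro y
      conv_lhs => rw [hdec y]
      simp only [map_add, map_smul, smul_eq_mul, e3]
      ring
    have hA12 : ∀ y, A12 y = b1 y * p12 + b2 y * q12 := by
      intro y
      conv_lhs => rw [hdec y]
      simp only [map_add, map_smul, smul_eq_mul, e4]
      ring
    have hA21 : ∀ y, A21 y = b1 y * p21 + b2 y * q21 := by
      intro y
      conv_lhs => rw [hdec y]
      simp only [map_add, map_smul, smul_eq_mul, e5]
      ring
    have hA22 : ∀ y, A22 y = μ y + b1 y * p22 + b2 y * q22 := by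
      intro y
      conv_lhs => rw [hdec y]
      simp only [map_add, map_smul, smul_eq_mul, e6]
      ring
    -- the map `θ`
    set g : V →ₗ[k] k := p11 • b1 + q22 • b2 with hg
    set θ0 : V →ₗ[k] V := (-(μ + g)).smulRight z0 + b1.smulRight v1 + b2.smulRight v2 with hθ0
    have hθ0a : ∀ y, θ0 y = (-(μ y + (p11 * b1 y + q22 * b2 y))) • z0 + b1 y • v1 + b2 y • v2 := by
      intro y
      simp [hθ0, hg]
    have hinj : Function.Injective θ0 := by
      rw [injective_iff_map_eq_zero]
      intro y hy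
      rw [hθ0a] at hy
      obtain ⟨t1, t2, t3⟩ := hind3 _ _ _ hy
      have t4 : μ y = 0 := by
        rw [t2, t3] at t1
        simpa using t1
      rw [hdec y, t4, t2, t3]
      simp
    refine ⟨LinearEquiv.ofInjectiveEndo θ0 hinj, fun y => ?_⟩
    change P y (θ0 y) = 0
    rw [hθ0a]
    simp only [map_add, map_smul, Pz, Pv1, Pv2]
    have hcoef1 : (-(μ y + (p11 * b1 y + q22 * b2 y))) * b1 y + b1 y * A11 y + b2 y * A12 y = 0 := by
      rw [hA11, hA12, hq12']
      linear_combination (b1 y * b2 y) * hγ'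
    have hcoef2 : (-(μ y + (p11 * b1 y + q22 * b2 y))) * b2 y + b1 y * A21 y + b2 y * A22 y = 0 := by
      rw [hA21, hA22, hp21']
      linear_combination (- b1 y * b2 y) * hβ'
    have hcoef3 : b1 y * c1 y + b2 y * c2 y = 0 := by
      rw [hc1, hc2]
      ring
    calc _ = ((-(μ y + (p11 * b1 y + q22 * b2 y))) * b1 y + b1 y * A11 y + b2 y * A12 y) • h1 +
          ((-(μ y + (p11 * b1 y + q22 * b2 y))) * b2 y + b1 y * A21 y + b2 y * A22 y) • h2 +
          (b1 y * c1 y + b2 y * c2 y) • w0 := by module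
      _ = 0 := by rw [hcoef1, hcoef2, hcoef3]; simp
  · -- the compression case
    right; right; left
    have hQ1' : u1 • c1 + u2 • c2 = 0 := by
      have h3 : ∀ y, (u1 • c1 + u2 • c2) y * β y = 0 := by
        intro y
        have := Q1 y
        rw [hb1, hb2] at this
        simp only [LinearMap.add_apply, LinearMap.smul_apply, smul_eq_mul] at this ⊢
        linear_combination this
      exact (form_mul_eq_zero h3).resolve_right hβ
    have hγ : ∃ γ : V →ₗ[k] k, c1 = u2 • γ ∧ c2 = (-u1) • γ := by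
      by_cases h1' : u1 = 0
      · have hu2 : u2 ≠ 0 := hu.resolve_left (by simpa using h1')
        refine ⟨u2⁻¹ • c1, ?_, ?_⟩
        · rw [smul_smul, mul_inv_cancel₀ hu2, one_smul]
        · rw [h1'] at hQ1' ⊢
          have h3 : u2 • c2 = 0 := by simpa using hQ1'
          have h4 : c2 = 0 := by
            ext y
            have := congrArg (fun f => f y) h3
            simp only [LinearMap.smul_apply, LinearMap.zero_apply, smul_eq_mul] at this
            simpa using (mul_eq_zero.mp this).resolve_left hu2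
          rw [h4]
          simp
      · refine ⟨(-u1⁻¹) • c2, ?_, ?_⟩
        · ext y
          have := congrArg (fun f => f y) hQ1'
          simp only [LinearMap.add_apply, LinearMap.smul_apply, LinearMap.zero_apply, smul_eq_mul] at this ⊢
          field_simp
          linear_combination this
        · rw [smul_smul]
          simp [h1']
    obtain ⟨γ, hγ1, hγ2⟩ := hγ
    have hγ0 : γ ≠ 0 := by
      intro h
      apply hc
      rw [hγ1, hγ2, h]
      simp
    set ℓ : V →ₗ[k] k := (u1 * u2) • A22 - (u2 * u2) • A12 - (u1 * u2) • A11 + (u1 * u1) • A21 with hℓ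
    have hℓ0 : ℓ = 0 := by
      have h3 : ∀ y, γ y * β y * ℓ y = 0 := by
        intro y
        have := Q2 y
        rw [hγ1, hγ2, hb1, hb2] at this
        simp only [LinearMap.smul_apply, smul_eq_mul] at this
        simp only [hℓ, LinearMap.add_apply, LinearMap.sub_apply, LinearMap.smul_apply, smul_eq_mul]
        linear_combination this
      rcases form_mul3_eq_zero h3 with h | h | h
      · exact absurd h hγ0
      · exact absurd h hβ
      · exact h
    set vu := u1 • v1 + u2 • v2 with hvu
    have hindQ : LinearIndependent k ![z0, vu] := by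
      rw [Fintype.linearIndependent_iff]
      intro g hg
      rw [Fin.sum_univ_two] at hg
      simp only [Matrix.cons_val_zero, Matrix.cons_val_one] at hg
      have h3 : g 0 • z0 + (g 1 * u1) • v1 + (g 1 * u2) • v2 = 0 := by
        rw [← hg, hvu]
        module
      obtain ⟨t1, t2, t3⟩ := hind3 _ _ _ h3
      have g1 : g 1 = 0 := by
        rcases hu with h | h
        · exact (mul_eq_zero.mp t2).resolve_right h
        · exact (mul_eq_zero.mp t3).resolve_right h
      intro i
      fin_cases i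
      · exact t1
      · exact g1
    refine ⟨Submodule.span k (Set.range ![z0, vu]), ?_, u1 • h1 + u2 • h2, fun y q hq => ?_⟩
    · rw [finrank_span_eq_card hindQ]
      rfl
    · obtain ⟨f, rfl⟩ := (Submodule.mem_span_range_iff_exists_fun k).mp hq
      rw [Fin.sum_univ_two]
      simp only [Matrix.cons_val_zero, Matrix.cons_val_one, map_add, map_smul]
      refine Submodule.add_mem _ (Submodule.smul_mem _ _ ?_) (Submodule.smul_mem _ _ ?_)
      · rw [Pz, hb1, hb2]
        simp only [LinearMap.smul_apply, smul_eq_mul]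
        refine Submodule.mem_span_singleton.mpr ⟨β y, ?_⟩
        module
      · have hvuy : P y vu = (u1 * A11 y + u2 * A12 y) • h1 + (u1 * A21 y + u2 * A22 y) • h2 +
            (u1 * c1 y + u2 * c2 y) • w0 := by
          rw [hvu, map_add, map_smul, map_smul, Pv1, Pv2]
          module
        have hzero : u1 * c1 y + u2 * c2 y = 0 := by
          have := congrArg (fun f => f y) hQ1'
          simpa using this
        have hℓy : u1 * (u1 * A21 y + u2 * A22 y) = u2 * (u1 * A11 y + u2 * A12 y) := by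
          have := congrArg (fun f => f y) hℓ0
          simp only [hℓ, LinearMap.add_apply, LinearMap.sub_apply, LinearMap.smul_apply, smul_eq_mul,
            LinearMap.zero_apply] at this
          linear_combination this
        rw [hvuy, hzero, zero_smul, add_zero]
        set r1 := u1 * A11 y + u2 * A12 y with hr1
        set r2 := u1 * A21 y + u2 * A22 y with hr2
        by_cases h1' : u1 = 0
        · have hu2 : u2 ≠ 0 := hu.resolve_left (by simpa using h1')
          have hr1' : r1 = 0 := by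
            have : u2 * r1 = 0 := by rw [← hℓy, h1']; simp
            exact (mul_eq_zero.mp this).resolve_left hu2
          refine Submodule.mem_span_singleton.mpr ⟨r2 * u2⁻¹, ?_⟩
          rw [hr1', h1']
          simp only [zero_smul, zero_add, smul_smul, mul_assoc, inv_mul_cancel₀ hu2, mul_one]
        · refine Submodule.mem_span_singleton.mpr ⟨r1 * u1⁻¹, ?_⟩
          have hr2' : r2 = r1 * u1⁻¹ * u2 := by
            field_simp
            linear_combination hℓy
          rw [hr2', smul_add, smul_smul, smul_smul]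
          congr 2
          field_simp

/-- **The classification of singular spaces.** -/
theorem classify [Infinite k] [FiniteDimensional k V] [FiniteDimensional k W] (hV : finrank k V = 3)
    (hW : finrank k W = 3) (P : V →ₗ[k] V →ₗ[k] W) (hP : ∀ y, ¬ Function.Surjective (P y)) :
    (∃ z : V, z ≠ 0 ∧ ∀ y, P y z = 0) ∨ (∃ ω : W →ₗ[k] k, ω ≠ 0 ∧ ∀ y z, ω (P y z) = 0) ∨
      (∃ Q : Submodule k V, finrank k Q = 2 ∧ ∃ h : W, ∀ y, ∀ q ∈ Q, P y q ∈ Submodule.span k {h}) ∨
      (∃ θ : V ≃ₗ[k] V, ∀ y, P y (θ y) = 0) := by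
  classical
  by_cases hr : ∀ y, finrank k (LinearMap.range (P y)) ≤ 1
  · rcases Rank1.dichotomy P hr with h | ⟨h₀, hh⟩
    · exact Or.inl h
    · right; left
      have hlt : Submodule.span k {h₀} < ⊤ := by
        rw [lt_top_iff_ne_top]
        intro h
        have h1 : finrank k (Submodule.span k ({h₀} : Set W)) ≤ 1 := by
          simpa using finrank_span_le_card (R := k) ({h₀} : Set W)
        rw [h, finrank_top, hW] at h1
        omega
      obtain ⟨ω, hω, hle⟩ := Submodule.exists_le_ker_of_lt_top _ hlt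
      exact ⟨ω, hω, fun y z => hle (hh y z)⟩
  push Not at hr
  obtain ⟨y0, hy0⟩ := hr
  have hne : LinearMap.range (P y0) ≠ ⊤ := fun h => hP y0 (LinearMap.range_eq_top.mp h)
  have hlt : finrank k (LinearMap.range (P y0)) < 3 := by
    rw [← hW]
    exact Submodule.finrank_lt hne
  have hr2 : finrank k (LinearMap.range (P y0)) = 2 := by omega
  have hk1 : finrank k (LinearMap.ker (P y0)) = 1 := by
    have := LinearMap.finrank_range_add_finrank_ker (P y0)
    omega
  obtain ⟨z0', hz0'⟩ : ∃ z : LinearMap.ker (P y0), z ≠ 0 := by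
    have : Nontrivial (LinearMap.ker (P y0)) := Module.nontrivial_of_finrank_pos (R := k) (by omega)
    exact exists_ne 0
  set z0 : V := z0'.1 with hz0d
  have hz0 : z0 ≠ 0 := fun h => hz0' (Subtype.ext h)
  have hPz0 : P y0 z0 = 0 := z0'.2
  let bR := finBasisOfFinrankEq k (LinearMap.range (P y0)) hr2
  obtain ⟨v1, hv1⟩ : ∃ v, P y0 v = (bR 0 : W) := (bR 0).2
  obtain ⟨v2, hv2⟩ : ∃ v, P y0 v = (bR 1 : W) := (bR 1).2
  set h1 : W := (bR 0 : W) with hh1
  set h2 : W := (bR 1 : W) with hh2
  have hind2 : ∀ a b : k, a • h1 + b • h2 = 0 → a = 0 ∧ b = 0 := by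
    intro a b h
    have h3 := Fintype.linearIndependent_iff.mp bR.linearIndependent ![a, b] (by
      rw [Fin.sum_univ_two]
      apply Subtype.ext
      simpa using h)
    exact ⟨h3 0, h3 1⟩
  have hind : LinearIndependent k ![z0, v1, v2] := by
    rw [Fintype.linearIndependent_iff]
    intro g hg
    rw [Fin.sum_univ_three] at hg
    simp only [Matrix.cons_val_zero, Matrix.cons_val_one, Matrix.cons_val] at hg
    have t1 := congrArg (P y0) hg
    simp only [map_add, map_smul, hPz0, smul_zero, zero_add, map_zero, hv1, hv2] at t1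
    obtain ⟨g1, g2⟩ := hind2 _ _ t1
    rw [g1, g2] at hg
    have g0 : g 0 = 0 := by
      have : g 0 • z0 = 0 := by simpa using hg
      exact (smul_eq_zero.mp this).resolve_right hz0
    intro i
    fin_cases i
    · exact g0
    · exact g1
    · exact g2
  have hcV : Fintype.card (Fin 3) = finrank k V := by rw [hV]; rfl
  set bV := basisOfLinearIndependentOfCardEqFinrank hind hcV with hbV
  have hspan : ∀ z : V, ∃ a b c : k, z = a • z0 + b • v1 + c • v2 := by
    intro z
    refine ⟨bV.repr z 0, bV.repr z 1, bV.repr z 2, ?_⟩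
    have h3 := bV.sum_repr z
    rw [Fin.sum_univ_three] at h3
    have hb0 : bV 0 = z0 := by simp [hbV]
    have hb1' : bV 1 = v1 := by simp [hbV]
    have hb2' : bV 2 = v2 := by simp [hbV]
    rw [hb0, hb1', hb2'] at h3
    exact h3.symm
  obtain ⟨w0, hw0⟩ : ∃ w, w ∉ LinearMap.range (P y0) := by
    by_contra hc
    push Not at hc
    exact hne (Submodule.eq_top_iff'.mpr hc)
  have hW' : LinearIndependent k ![h1, h2, w0] := by
    rw [Fintype.linearIndependent_iff]
    intro g hg
    rw [Fin.sum_univ_three] at hg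
    simp only [Matrix.cons_val_zero, Matrix.cons_val_one, Matrix.cons_val] at hg
    have g2 : g 2 = 0 := by
      by_contra hne2
      apply hw0
      have h3 : w0 = (g 2)⁻¹ • (-(g 0 • h1 + g 1 • h2)) := by
        have h4 : g 2 • w0 = -(g 0 • h1 + g 1 • h2) := eq_neg_of_add_eq_zero_right hg
        rw [← h4, smul_smul, inv_mul_cancel₀ hne2, one_smul]
      rw [h3]
      refine Submodule.smul_mem _ _ (Submodule.neg_mem _ (Submodule.add_mem _ (Submodule.smul_mem _ _ ?_)
        (Submodule.smul_mem _ _ ?_)))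
      · exact (bR 0).2
      · exact (bR 1).2
    rw [g2, zero_smul, add_zero] at hg
    obtain ⟨g0, g1⟩ := hind2 _ _ hg
    intro i
    fin_cases i
    · exact g0
    · exact g1
    · exact g2
  have hcW : Fintype.card (Fin 3) = finrank k W := by rw [hW]; rfl
  set bW := basisOfLinearIndependentOfCardEqFinrank hW' hcW with hbW
  have hb0W : bW 0 = h1 := by simp [hbW]
  have hb1W : bW 1 = h2 := by simp [hbW]
  have hb2W : bW 2 = w0 := by simp [hbW]
  have hexp : ∀ u : W, u = bW.coord 0 u • h1 + bW.coord 1 u • h2 + bW.coord 2 u • w0 := by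
    intro u
    have h3 := bW.sum_repr u
    rw [Fin.sum_univ_three, hb0W, hb1W, hb2W] at h3
    exact h3.symm
  have hco : ∀ i j : Fin 3, bW.coord i (bW j) = if i = j then 1 else 0 := by
    intro i j
    simp [Basis.coord_apply, Basis.repr_self, Finsupp.single_apply, eq_comm]
  have c00 : bW.coord 0 h1 = 1 := by rw [← hb0W, hco]; simp
  have c10 : bW.coord 1 h1 = 0 := by rw [← hb0W, hco]; simp
  have c20 : bW.coord 2 h1 = 0 := by rw [← hb0W, hco]; simp
  have c01 : bW.coord 0 h2 = 0 := by rw [← hb1W, hco]; simp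
  have c11 : bW.coord 1 h2 = 1 := by rw [← hb1W, hco]; simp
  have c21 : bW.coord 2 h2 = 0 := by rw [← hb1W, hco]; simp
  have c22 : bW.coord 2 w0 = 1 := by rw [← hb2W, hco]; simp
  set b1 : V →ₗ[k] k := (bW.coord 0) ∘ₗ (P.flip z0) with hb1
  set b2 : V →ₗ[k] k := (bW.coord 1) ∘ₗ (P.flip z0) with hb2
  set e : V →ₗ[k] k := (bW.coord 2) ∘ₗ (P.flip z0) with he
  set A11 : V →ₗ[k] k := (bW.coord 0) ∘ₗ (P.flip v1) with hA11
  set A21 : V →ₗ[k] k := (bW.coord 1) ∘ₗ (P.flip v1) with hA21
  set c1 : V →ₗ[k] k := (bW.coord 2) ∘ₗ (P.flip v1) with hc1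
  set A12 : V →ₗ[k] k := (bW.coord 0) ∘ₗ (P.flip v2) with hA12
  set A22 : V →ₗ[k] k := (bW.coord 1) ∘ₗ (P.flip v2) with hA22
  set c2 : V →ₗ[k] k := (bW.coord 2) ∘ₗ (P.flip v2) with hc2
  have Pz' : ∀ y, P y z0 = b1 y • h1 + b2 y • h2 + e y • w0 := fun y => hexp _
  have Pv1 : ∀ y, P y v1 = A11 y • h1 + A21 y • h2 + c1 y • w0 := fun y => hexp _
  have Pv2 : ∀ y, P y v2 = A12 y • h1 + A22 y • h2 + c2 y • w0 := fun y => hexp _
  have hdet : ∀ y, b1 y * (A21 y * c2 y - A22 y * c1 y) - A11 y * (b2 y * c2 y - A22 y * e y) +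
      A12 y * (b2 y * c1 y - A21 y * e y) = 0 := by
    intro y
    by_contra hd
    apply hP y
    intro w
    let m : Matrix (Fin 3) (Fin 3) k := !![b1 y, A11 y, A12 y; b2 y, A21 y, A22 y; e y, c1 y, c2 y]
    have hdm : m.det ≠ 0 := by
      rw [Matrix.det_fin_three]
      intro h0
      apply hd
      simp only [m, Matrix.of_apply, Matrix.cons_val', Matrix.cons_val_zero, Matrix.cons_val_fin_one,
        Matrix.cons_val_one, Matrix.cons_val] at h0
      linear_combination h0
    let t : Fin 3 → k := ![bW.coord 0 w, bW.coord 1 w, bW.coord 2 w]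
    let x : Fin 3 → k := m⁻¹.mulVec t
    have hmx : m.mulVec x = t := by
      simp only [x, Matrix.mulVec_mulVec]
      rw [Matrix.mul_nonsing_inv _ (Ne.isUnit hdm), Matrix.one_mulVec]
    have h30 := congrFun hmx 0
    have h31 := congrFun hmx 1
    have h32 := congrFun hmx 2
    simp only [m, t, Matrix.mulVec, dotProduct, Fin.sum_univ_three, Matrix.of_apply, Matrix.cons_val',
      Matrix.cons_val_zero, Matrix.cons_val_fin_one, Matrix.cons_val_one, Matrix.cons_val] at h30 h31 h32
    refine ⟨x 0 • z0 + x 1 • v1 + x 2 • v2, ?_⟩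
    rw [map_add, map_add, map_smul, map_smul, map_smul, Pz', Pv1, Pv2]
    conv_rhs => rw [hexp w, ← h30, ← h31, ← h32]
    module
  have h00 : b1 y0 = 0 ∧ b2 y0 = 0 ∧ e y0 = 0 ∧ A11 y0 = 1 ∧ A12 y0 = 0 ∧ A21 y0 = 0 ∧ A22 y0 = 1 ∧ c1 y0 = 0 ∧ c2 y0 = 0 := by
    refine ⟨?_, ?_, ?_, ?_, ?_, ?_, ?_, ?_, ?_⟩
    · change bW.coord 0 (P y0 z0) = 0
      rw [hPz0, map_zero]
    · change bW.coord 1 (P y0 z0) = 0
      rw [hPz0, map_zero]
    · change bW.coord 2 (P y0 z0) = 0
      rw [hPz0, map_zero]
    · change bW.coord 0 (P y0 v1) = 1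
      rw [hv1]; exact c00
    · change bW.coord 0 (P y0 v2) = 0
      rw [hv2]; exact c01
    · change bW.coord 1 (P y0 v1) = 0
      rw [hv1]; exact c10
    · change bW.coord 1 (P y0 v2) = 1
      rw [hv2]; exact c11
    · change bW.coord 2 (P y0 v1) = 0
      rw [hv1]; exact c20
    · change bW.coord 2 (P y0 v2) = 0
      rw [hv2]; exact c21
  obtain ⟨he0, Q1, Q2⟩ := core b1 b2 e A11 A12 A21 A22 c1 c2 y0 h00 hdet
  obtain ⟨e1, e2, -, e3, e4, e5, e6, e7, e8⟩ := h00
  refine finish hV P y0 z0 v1 v2 h1 h2 w0 (bW.coord 2) ⟨c20, c21, c22⟩ b1 b2 A11 A12 A21 A22 c1 c2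
    ⟨e1, e2, e3, e4, e5, e6, e7, e8⟩ hind hW' hspan (fun y => ?_) Pv1 Pv2 Q1 Q2
  rw [Pz', he0]
  simp

end Cfsg.Agent.Lib.KS84.Sing
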