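import Mathlib
import Cfsg.Agent.Lib.KS84.Rank1
import Cfsg.Agent.Lib.KS84.Sing
import Cfsg.Agent.Lib.KS84.Chars

/-!
# Graded symmetric structures

An honest algebra `E` with subspaces `Eg j` (the homogeneous pieces), a form `lam` of total degree `t`.
The results `gs3` and `gs2` say that such a structure cannot be generated by commutators.
-/

set_option autoImplicit false
set_option linter.unusedSectionVars false
set_option linter.style.haveILetI false

namespace Cfsg.Agent.Lib.KS84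

open Module

variable {k E : Type*} [Field k] [Ring E] [Algebra k E]

/-- A graded symmetric structure of total degree `t`. -/
structure GS (k E : Type*) [Field k] [Ring E] [Algebra k E] (t : ℕ) where
  Eg : ℕ → Submodule k E
  lam : E →ₗ[k] k
  mul_mem : ∀ {i j : ℕ} {a b : E}, a ∈ Eg i → b ∈ Eg j → a * b ∈ Eg (i + j)
  fd : ∀ j, FiniteDimensional k (Eg j)
  zero_le : Eg 0 ≤ Submodule.span k {1}
  genL : ∀ j, 1 ≤ j → Eg (j + 1) ≤ Submodule.span k {s | ∃ a ∈ Eg 1, ∃ b ∈ Eg j, s = a * b}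
  genR : ∀ j, 1 ≤ j → Eg (j + 1) ≤ Submodule.span k {s | ∃ a ∈ Eg j, ∃ b ∈ Eg 1, s = a * b}
  tr : ∀ {i j : ℕ} {a b : E}, i + j = t → a ∈ Eg i → b ∈ Eg j → lam (a * b) = lam (b * a)
  nd : ∀ {i : ℕ} {u : E}, i ≤ t → u ∈ Eg i → (∀ v ∈ Eg (t - i), lam (u * v) = 0) → u = 0
  top : Eg t ≠ ⊥

namespace GS

variable {t : ℕ} (S : GS k E t)

instance instFD (j : ℕ) : FiniteDimensional k (S.Eg j) := S.fd j

/-- The commutator hypothesis in degree `j + 1`. -/
def HC (j : ℕ) : Prop :=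
  S.Eg (j + 1) ≤ Submodule.span k {s | ∃ a ∈ S.Eg 1, ∃ b ∈ S.Eg j, s = a * b - b * a}

theorem vanish_top {u : E} (hu : u ∈ S.Eg t) (h : S.lam u = 0) : u = 0 := by
  refine S.nd le_rfl hu fun v hv => ?_
  rw [Nat.sub_self] at hv
  have hv' := S.zero_le hv
  obtain ⟨c, rfl⟩ := Submodule.mem_span_singleton.mp hv'
  rw [mul_smul_comm, mul_one, map_smul, h, smul_zero]

theorem eq_bot_succ {j : ℕ} (hj : 1 ≤ j) (h : S.Eg j = ⊥) : S.Eg (j + 1) = ⊥ := by
  rw [eq_bot_iff]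
  refine (S.genL j hj).trans ?_
  rw [Submodule.span_le]
  rintro s ⟨a, -, b, hb, rfl⟩
  rw [h, Submodule.mem_bot] at hb
  simp [hb]

theorem eg_ne_bot {j : ℕ} (hj : 1 ≤ j) (hjt : j ≤ t) : S.Eg j ≠ ⊥ := by
  intro h
  have : ∀ l, S.Eg (j + l) = ⊥ := by
    intro l
    induction l with
    | zero => exact h
    | succ l ih => exact S.eq_bot_succ (j := j + l) (by omega) ih
  apply S.top
  have h2 := this (t - j)
  rwa [Nat.add_sub_cancel' hjt] at h2

/-- No element of degree one is annihilated by degree one from the left. -/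
theorem no_left_ann (ht : 3 ≤ t) {z : E} (hz : z ∈ S.Eg 1) (h : ∀ y ∈ S.Eg 1, y * z = 0) : z = 0 := by
  refine S.nd (by omega) hz fun v hv => ?_
  have ht' : t - 1 = (t - 2) + 1 := by omega
  rw [ht'] at hv
  have hv' := S.genR (t - 2) (by omega) hv
  rw [S.tr (i := 1) (j := (t - 2) + 1) (by omega) hz hv]
  refine Submodule.span_induction (p := fun v _ => S.lam (v * z) = 0) ?_ ?_ ?_ ?_ hv'
  · rintro s ⟨a, -, b, hb, rfl⟩
    rw [mul_assoc, h b hb, mul_zero, map_zero]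
  · simp
  · intro x y _ _ hx hy
    rw [add_mul, map_add, hx, hy, add_zero]
  · intro c x _ hx
    rw [smul_mul_assoc, map_smul, hx, smul_zero]

/-- No element of degree one is annihilated by degree one from the right. -/
theorem no_right_ann (ht : 3 ≤ t) {z : E} (hz : z ∈ S.Eg 1) (h : ∀ y ∈ S.Eg 1, z * y = 0) : z = 0 := by
  refine S.nd (by omega) hz fun v hv => ?_
  have ht' : t - 1 = (t - 2) + 1 := by omega
  rw [ht'] at hv
  have hv' := S.genL (t - 2) (by omega) hv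
  refine Submodule.span_induction (p := fun v _ => S.lam (z * v) = 0) ?_ ?_ ?_ ?_ hv'
  · rintro s ⟨a, ha, b, -, rfl⟩
    rw [← mul_assoc, h a ha, zero_mul, map_zero]
  · simp
  · intro x y _ _ hx hy
    rw [mul_add, map_add, hx, hy, add_zero]
  · intro c x _ hx
    rw [mul_smul_comm, map_smul, hx, smul_zero]

section A0

variable {y : E} (hy1 : y ∈ S.Eg 1) (hy : ∀ u ∈ S.Eg 2, ∃ b ∈ S.Eg 1, u = y * b)

include hy in
/-- Every higher piece is `y` times the one below. -/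
theorem left_gen {j : ℕ} (hj : 1 ≤ j) {u : E} (hu : u ∈ S.Eg (j + 1)) : ∃ b ∈ S.Eg j, u = y * b := by
  induction j, hj using Nat.le_induction generalizing u with
  | base => exact hy u hu
  | succ j hj ih =>
    have h := S.genR (j + 1) (by omega) hu
    refine Submodule.span_induction (p := fun u _ => ∃ b ∈ S.Eg (j + 1), u = y * b) ?_ ?_ ?_ ?_ h
    · rintro s ⟨a, ha, b, hb, rfl⟩
      obtain ⟨c, hc, rfl⟩ := ih ha
      exact ⟨c * b, S.mul_mem hc hb, by rw [mul_assoc]⟩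
    · exact ⟨0, Submodule.zero_mem _, by simp⟩
    · rintro x z _ _ ⟨a, ha, rfl⟩ ⟨b, hb, rfl⟩
      exact ⟨a + b, Submodule.add_mem _ ha hb, by rw [mul_add]⟩
    · rintro c x _ ⟨a, ha, rfl⟩
      exact ⟨c • a, Submodule.smul_mem _ c ha, by rw [mul_smul_comm]⟩

include hy in
/-- Right multiplication by `y` is injective below degree `t - 1`. -/
theorem right_inj {j : ℕ} (hj : j + 2 ≤ t) {u : E} (hu : u ∈ S.Eg j) (h : u * y = 0) : u = 0 := by
  refine S.nd (by omega) hu fun v hv => ?_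
  have e : t - j = (t - j - 1) + 1 := by omega
  rw [e] at hv
  obtain ⟨b, -, rfl⟩ := S.left_gen hy (by omega) hv
  rw [← mul_assoc, h, zero_mul, map_zero]

/-- Left multiplication by `y` between two pieces. -/
def Ly (j : ℕ) : S.Eg j →ₗ[k] S.Eg (j + 1) :=
  ((LinearMap.mulLeft k y).comp (S.Eg j).subtype).codRestrict (S.Eg (j + 1)) (fun a => by
    have := S.mul_mem hy1 a.2
    rwa [add_comm] at this)

/-- Right multiplication by `y` between two pieces. -/
def Ry (j : ℕ) : S.Eg j →ₗ[k] S.Eg (j + 1) :=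
  ((LinearMap.mulRight k y).comp (S.Eg j).subtype).codRestrict (S.Eg (j + 1)) (fun a => S.mul_mem a.2 hy1)

omit hy in
@[simp] theorem Ly_coe (j : ℕ) (a : S.Eg j) : ((S.Ly hy1 j a : S.Eg (j + 1)) : E) = y * a := rfl

omit hy in
@[simp] theorem Ry_coe (j : ℕ) (a : S.Eg j) : ((S.Ry hy1 j a : S.Eg (j + 1)) : E) = a * y := rfl

include hy in
theorem Ry_injective {j : ℕ} (hj : j + 2 ≤ t) : Function.Injective (S.Ry hy1 j) := by
  rw [injective_iff_map_eq_zero]
  intro a ha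
  have h1 : (a : E) * y = 0 := by
    have := congrArg (fun x : S.Eg (j + 1) => (x : E)) ha
    simpa using this
  exact Subtype.ext (S.right_inj hy hj a.2 h1)

include hy in
theorem Ly_surjective {j : ℕ} (hj : 1 ≤ j) : Function.Surjective (S.Ly hy1 j) := by
  rintro ⟨u, hu⟩
  obtain ⟨b, hb, rfl⟩ := S.left_gen hy hj hu
  exact ⟨⟨b, hb⟩, rfl⟩

include hy1 hy in
theorem finrank_eq_succ {j : ℕ} (hj : 1 ≤ j) (hjt : j + 2 ≤ t) :
    finrank k (S.Eg j) = finrank k (S.Eg (j + 1)) := by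
  apply le_antisymm
  · exact LinearMap.finrank_le_finrank_of_injective (S.Ry_injective hy1 hy hjt)
  · exact LinearMap.finrank_le_finrank_of_surjective (f := S.Ly hy1 j) (S.Ly_surjective hy1 hy hj)

include hy1 hy in
theorem Ly_injective {j : ℕ} (hj : 1 ≤ j) (hjt : j + 2 ≤ t) : Function.Injective (S.Ly hy1 j) :=
  (LinearMap.injective_iff_surjective_of_finrank_eq_finrank (S.finrank_eq_succ hy1 hy hj hjt)).mpr
    (S.Ly_surjective hy1 hy hj)

include hy1 hy in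
theorem Ry_surjective {j : ℕ} (hj : 1 ≤ j) (hjt : j + 2 ≤ t) : Function.Surjective (S.Ry hy1 j) :=
  (LinearMap.injective_iff_surjective_of_finrank_eq_finrank (S.finrank_eq_succ hy1 hy hj hjt)).mp
    (S.Ry_injective hy1 hy hjt)

include hy1 hy in
/-- Left multiplication by `y` is injective below degree `t - 1`. -/
theorem left_inj {j : ℕ} (hj : 1 ≤ j) (hjt : j + 2 ≤ t) {u : E} (hu : u ∈ S.Eg j) (h : y * u = 0) : u = 0 := by
  have h1 : S.Ly hy1 j ⟨u, hu⟩ = 0 := Subtype.ext h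
  have h2 := (injective_iff_map_eq_zero _).mp (S.Ly_injective hy1 hy hj hjt) _ h1
  exact congrArg Subtype.val h2

/-- Left multiplication by `y` as a bijection from degree `j` to degree `j + 1`. -/
noncomputable def eL {j : ℕ} (hj : 1 ≤ j) (hjt : j + 2 ≤ t) : S.Eg j ≃ₗ[k] S.Eg (j + 1) :=
  LinearEquiv.ofBijective (S.Ly hy1 j) ⟨S.Ly_injective hy1 hy hj hjt, S.Ly_surjective hy1 hy hj⟩

/-- Right multiplication by `y` as a bijection from degree `j` to degree `j + 1`. -/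
noncomputable def eR {j : ℕ} (hj : 1 ≤ j) (hjt : j + 2 ≤ t) : S.Eg j ≃ₗ[k] S.Eg (j + 1) :=
  LinearEquiv.ofBijective (S.Ry hy1 j) ⟨S.Ry_injective hy1 hy hjt, S.Ry_surjective hy1 hy hj hjt⟩

end A0


section Dstr

variable {y : E} (hy1 : y ∈ S.Eg 1) (hy : ∀ u ∈ S.Eg 2, ∃ b ∈ S.Eg 1, u = y * b)

include hy in
/-- The twisted algebra structure on degree one. -/
theorem exists_dstr (ht : 4 ≤ t) :
    ∃ (τ : S.Eg 1 ≃ₗ[k] S.Eg 1) (m : S.Eg 1 →ₗ[k] S.Eg 1 →ₗ[k] S.Eg 1),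
      (∀ a : S.Eg 1, (a : E) * y = y * (τ a)) ∧
      (∀ a b : S.Eg 1, (a : E) * b = y * (m (τ a) b)) ∧
      (∀ b, m ⟨y, hy1⟩ b = b) ∧ (∀ a, m a ⟨y, hy1⟩ = a) ∧
      (∀ a b c, m (m a b) c = m a (m b c)) ∧ (∀ a b, τ (m a b) = m (τ a) (τ b)) := by
  have hL1 : ∀ {u : E}, u ∈ S.Eg 1 → y * u = 0 → u = 0 :=
    fun hu h => S.left_inj hy1 hy (j := 1) le_rfl (by omega) hu h
  have hL2 : ∀ {u : E}, u ∈ S.Eg 2 → y * u = 0 → u = 0 :=
    fun hu h => S.left_inj hy1 hy (j := 2) (by omega) (by omega) hu h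
  let eL := S.eL hy1 hy (j := 1) le_rfl (by omega)
  let eR := S.eR hy1 hy (j := 1) le_rfl (by omega)
  let τ : S.Eg 1 ≃ₗ[k] S.Eg 1 := eR.trans eL.symm
  have hτ : ∀ a : S.Eg 1, (a : E) * y = y * (τ a) := by
    intro a
    have h1 : eL (τ a) = eR a := by simp [τ]
    have h2 := congrArg Subtype.val h1
    exact h2.symm
  have hτs : ∀ a : S.Eg 1, ((τ.symm a : S.Eg 1) : E) * y = y * a := by
    intro a
    rw [hτ, LinearEquiv.apply_symm_apply]
  let m : S.Eg 1 →ₗ[k] S.Eg 1 →ₗ[k] S.Eg 1 := LinearMap.mk₂ k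
    (fun a b => eL.symm ⟨((τ.symm a : S.Eg 1) : E) * b, S.mul_mem (τ.symm a).2 b.2⟩)
    (fun a a' b => by
      rw [← map_add]
      congr 1
      apply Subtype.ext
      simp [add_mul])
    (fun c a b => by
      rw [← map_smul]
      congr 1
      apply Subtype.ext
      simp)
    (fun a b b' => by
      rw [← map_add]
      congr 1
      apply Subtype.ext
      simp [mul_add])
    (fun c a b => by
      rw [← map_smul]
      congr 1
      apply Subtype.ext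
      simp)
  have hm : ∀ a b : S.Eg 1, y * (m a b : S.Eg 1) = ((τ.symm a : S.Eg 1) : E) * b := by
    intro a b
    have h1 : eL (m a b) = ⟨((τ.symm a : S.Eg 1) : E) * b, S.mul_mem (τ.symm a).2 b.2⟩ := by
      change eL (eL.symm _) = _
      rw [LinearEquiv.apply_symm_apply]
    exact congrArg Subtype.val h1
  have inj1 : ∀ a b : S.Eg 1, y * (a : E) = y * b → a = b := by
    intro a b h
    have h1 : y * ((a - b : S.Eg 1) : E) = 0 := by
      rw [Submodule.coe_sub, mul_sub, h, sub_self]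
    have h2 := hL1 (a - b).2 h1
    exact sub_eq_zero.mp (Subtype.ext h2)
  have inj2 : ∀ a b : S.Eg 1, y * (y * (a : E)) = y * (y * b) → a = b := by
    intro a b h
    have h1 : y * (y * ((a - b : S.Eg 1) : E)) = 0 := by
      rw [Submodule.coe_sub, mul_sub, mul_sub, h, sub_self]
    have h3 : y * ((a - b : S.Eg 1) : E) ∈ S.Eg 2 := S.mul_mem hy1 (a - b).2
    have h2 := hL2 h3 h1
    have h4 := hL1 (a - b).2 h2
    exact sub_eq_zero.mp (Subtype.ext h4)
  have hy1τ : τ ⟨y, hy1⟩ = ⟨y, hy1⟩ := by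
    apply inj1
    rw [← hτ]
  have hy1τs : τ.symm ⟨y, hy1⟩ = ⟨y, hy1⟩ := by
    rw [LinearEquiv.symm_apply_eq, hy1τ]
  have hcompat : ∀ a b, τ (m a b) = m (τ a) (τ b) := by
    intro a b
    apply inj2
    have e1 : y * (((τ (m a b) : S.Eg 1)) : E) = ((m a b : S.Eg 1) : E) * y := (hτ _).symm
    have e2 : y * ((m (τ a) (τ b) : S.Eg 1) : E) = (a : E) * (τ b : S.Eg 1) := by
      rw [hm, LinearEquiv.symm_apply_apply]
    rw [e1, e2, ← mul_assoc y, hm, mul_assoc, hτ b, ← mul_assoc, hτs, mul_assoc]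
  have hcompat' : ∀ a b, τ.symm (m a b) = m (τ.symm a) (τ.symm b) := by
    intro a b
    rw [LinearEquiv.symm_apply_eq, hcompat, LinearEquiv.apply_symm_apply, LinearEquiv.apply_symm_apply]
  refine ⟨τ, m, hτ, ?_, ?_, ?_, ?_, hcompat⟩
  · intro a b
    rw [hm, LinearEquiv.symm_apply_apply]
  · intro b
    apply inj1
    rw [hm, hy1τs]
  · intro a
    apply inj1
    rw [hm]
    change ((τ.symm a : S.Eg 1) : E) * y = _
    rw [hτs]
  · intro a b c
    apply inj2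
    have e1 : y * ((m (m a b) c : S.Eg 1) : E) = ((τ.symm (m a b) : S.Eg 1) : E) * c := hm _ _
    have e2 : y * ((m a (m b c) : S.Eg 1) : E) = ((τ.symm a : S.Eg 1) : E) * (m b c : S.Eg 1) := hm _ _
    rw [e1, e2, hcompat', ← mul_assoc y, hm, ← mul_assoc y, ← hτs, mul_assoc _ y, hm, mul_assoc]

include hy1 hy in
/-- Span lemma for the algebra `m`, degree 2. -/
theorem span2 (ht : 4 ≤ t) (hc : S.HC 1) {τ : S.Eg 1 ≃ₗ[k] S.Eg 1} {m : S.Eg 1 →ₗ[k] S.Eg 1 →ₗ[k] S.Eg 1}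
    (hab : ∀ a b : S.Eg 1, (a : E) * b = y * (m (τ a) b)) (x : S.Eg 1) :
    x ∈ Submodule.span k {s | ∃ a b, s = m (τ a) b - m (τ b) a} := by
  have hL1 : ∀ {u : E}, u ∈ S.Eg 1 → y * u = 0 → u = 0 :=
    fun hu h => S.left_inj hy1 hy (j := 1) le_rfl (by omega) hu h
  set W := Submodule.span k {s : S.Eg 1 | ∃ a b, s = m (τ a) b - m (τ b) a} with hW
  have key : ∀ s ∈ Submodule.span k {s | ∃ a ∈ S.Eg 1, ∃ b ∈ S.Eg 1, s = a * b - b * a},
      ∃ x' ∈ W, s = y * (x' : E) := by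
    intro s hs
    refine Submodule.span_induction (p := fun s _ => ∃ x' ∈ W, s = y * (x' : E)) ?_ ?_ ?_ ?_ hs
    · rintro s ⟨a, ha, b, hb, rfl⟩
      refine ⟨m (τ ⟨a, ha⟩) ⟨b, hb⟩ - m (τ ⟨b, hb⟩) ⟨a, ha⟩, Submodule.subset_span ⟨_, _, rfl⟩, ?_⟩
      rw [Submodule.coe_sub, mul_sub, ← hab, ← hab]
    · exact ⟨0, Submodule.zero_mem _, by simp⟩
    · rintro u v _ _ ⟨a, ha, rfl⟩ ⟨b, hb, rfl⟩
      exact ⟨a + b, Submodule.add_mem _ ha hb, by rw [Submodule.coe_add, mul_add]⟩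
    · rintro c u _ ⟨a, ha, rfl⟩
      exact ⟨c • a, Submodule.smul_mem _ c ha, by rw [Submodule.coe_smul, mul_smul_comm]⟩
  have h1 : y * (x : E) ∈ S.Eg (1 + 1) := S.mul_mem hy1 x.2
  obtain ⟨x', hx', h2⟩ := key _ (hc h1)
  have h3 : y * ((x - x' : S.Eg 1) : E) = 0 := by
    rw [Submodule.coe_sub, mul_sub, h2, sub_self]
  have h4 := hL1 (x - x').2 h3
  have h5 : x = x' := sub_eq_zero.mp (Subtype.ext h4)
  rwa [h5]

include hy1 hy in
/-- Span lemma for the algebra `m`, degree 3. -/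
theorem span3 (ht : 4 ≤ t) (hc : S.HC 2) {τ : S.Eg 1 ≃ₗ[k] S.Eg 1} {m : S.Eg 1 →ₗ[k] S.Eg 1 →ₗ[k] S.Eg 1}
    (hτ : ∀ a : S.Eg 1, (a : E) * y = y * (τ a))
    (hab : ∀ a b : S.Eg 1, (a : E) * b = y * (m (τ a) b)) (x : S.Eg 1) :
    x ∈ Submodule.span k {s | ∃ a b, s = m (τ (τ a)) b - m (τ b) a} := by
  have hL1 : ∀ {u : E}, u ∈ S.Eg 1 → y * u = 0 → u = 0 :=
    fun hu h => S.left_inj hy1 hy (j := 1) le_rfl (by omega) hu h
  have hL2 : ∀ {u : E}, u ∈ S.Eg 2 → y * u = 0 → u = 0 :=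
    fun hu h => S.left_inj hy1 hy (j := 2) (by omega) (by omega) hu h
  set W := Submodule.span k {s : S.Eg 1 | ∃ a b, s = m (τ (τ a)) b - m (τ b) a} with hW
  have key : ∀ s ∈ Submodule.span k {s | ∃ a ∈ S.Eg 1, ∃ b ∈ S.Eg 2, s = a * b - b * a},
      ∃ x' ∈ W, s = y * (y * (x' : E)) := by
    intro s hs
    refine Submodule.span_induction (p := fun s _ => ∃ x' ∈ W, s = y * (y * (x' : E))) ?_ ?_ ?_ ?_ hs
    · rintro s ⟨a, ha, b, hb, rfl⟩
      obtain ⟨b', hb', rfl⟩ := hy b hb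
      refine ⟨m (τ (τ ⟨a, ha⟩)) ⟨b', hb'⟩ - m (τ ⟨b', hb'⟩) ⟨a, ha⟩, Submodule.subset_span ⟨_, _, rfl⟩, ?_⟩
      have e1 := hab (τ ⟨a, ha⟩) ⟨b', hb'⟩
      have e2 := hab ⟨b', hb'⟩ ⟨a, ha⟩
      have e3 := hτ ⟨a, ha⟩
      simp only at e1 e2 e3
      rw [Submodule.coe_sub, mul_sub, mul_sub, ← e1, ← e2, ← mul_assoc, e3, mul_assoc, mul_assoc]
    · exact ⟨0, Submodule.zero_mem _, by simp⟩
    · rintro u v _ _ ⟨a, ha, rfl⟩ ⟨b, hb, rfl⟩
      exact ⟨a + b, Submodule.add_mem _ ha hb, by rw [Submodule.coe_add, mul_add, mul_add]⟩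
    · rintro c u _ ⟨a, ha, rfl⟩
      exact ⟨c • a, Submodule.smul_mem _ c ha, by rw [Submodule.coe_smul, mul_smul_comm, mul_smul_comm]⟩
  have h0 : y * (x : E) ∈ S.Eg 2 := S.mul_mem hy1 x.2
  have h1 : y * (y * (x : E)) ∈ S.Eg (2 + 1) := by
    have := S.mul_mem hy1 h0
    rwa [add_comm] at this
  obtain ⟨x', hx', h2⟩ := key _ (hc h1)
  have h3 : y * (y * ((x - x' : S.Eg 1) : E)) = 0 := by
    rw [Submodule.coe_sub, mul_sub, mul_sub, h2, sub_self]
  have h6 : y * ((x - x' : S.Eg 1) : E) ∈ S.Eg 2 := S.mul_mem hy1 (x - x').2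
  have h4 := hL1 (x - x').2 (hL2 h6 h3)
  have h5 : x = x' := sub_eq_zero.mp (Subtype.ext h4)
  rwa [h5]

end Dstr


omit [Algebra k E] in
theorem _root_.Cfsg.Agent.Lib.KS84.comm_expand3 [Algebra k E] (u q r : E) (c₀ c₁ c₂ d₀ d₁ d₂ : k) :
    (c₀ • u + c₁ • q + c₂ • r) * (d₀ • u + d₁ • q + d₂ • r) - (d₀ • u + d₁ • q + d₂ • r) * (c₀ • u + c₁ • q + c₂ • r) =
      (c₀ * d₁ - c₁ * d₀) • (u * q - q * u) + (c₀ * d₂ - c₂ * d₀) • (u * r - r * u) +
        (c₁ * d₂ - c₂ * d₁) • (q * r - r * q) := by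
  simp only [add_mul, mul_add, smul_mul_assoc, mul_smul_comm]
  module

theorem pow_mem_eg {y : E} (hy1 : y ∈ S.Eg 1) (l : ℕ) : y ^ (l + 1) ∈ S.Eg (l + 1) := by
  induction l with
  | zero => simpa using hy1
  | succ l ih =>
    rw [pow_succ]
    exact S.mul_mem ih hy1

theorem exists_span_two {X : Type*} [AddCommGroup X] [Module k X] [FiniteDimensional k X]
    (h : finrank k X ≤ 2) : ∃ v₀ v₁ : X, ∀ x, ∃ c₀ c₁ : k, x = c₀ • v₀ + c₁ • v₁ := by
  obtain ⟨n, hn⟩ : ∃ n, finrank k X = n := ⟨_, rfl⟩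
  have hb := finBasisOfFinrankEq k X hn
  have hnle : n ≤ 2 := hn ▸ h
  interval_cases n
  · exact ⟨0, 0, fun x => ⟨0, 0, by
      have := hb.sum_repr x
      simp at this
      simp [this.symm]⟩⟩
  · refine ⟨hb 0, 0, fun x => ⟨hb.repr x 0, 0, ?_⟩⟩
    have := hb.sum_repr x
    rw [Fin.sum_univ_succ] at this
    simp at this
    simp [this]
  · refine ⟨hb 0, hb 1, fun x => ⟨hb.repr x 0, hb.repr x 1, ?_⟩⟩
    have := hb.sum_repr x
    rw [Fin.sum_univ_two] at this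
    exact this.symm

theorem exists_span_three {X : Type*} [AddCommGroup X] [Module k X] [FiniteDimensional k X]
    (h : finrank k X ≤ 3) : ∃ v₀ v₁ v₂ : X, ∀ x, ∃ c₀ c₁ c₂ : k, x = c₀ • v₀ + c₁ • v₁ + c₂ • v₂ := by
  by_cases h2 : finrank k X ≤ 2
  · obtain ⟨v₀, v₁, hv⟩ := exists_span_two (k := k) h2
    refine ⟨v₀, v₁, 0, fun x => ?_⟩
    obtain ⟨c₀, c₁, rfl⟩ := hv x
    exact ⟨c₀, c₁, 0, by simp⟩
  · have h3 : finrank k X = 3 := by omega
    have hb := finBasisOfFinrankEq k X h3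
    refine ⟨hb 0, hb 1, hb 2, fun x => ⟨hb.repr x 0, hb.repr x 1, hb.repr x 2, ?_⟩⟩
    have := hb.sum_repr x
    rw [Fin.sum_univ_three] at this
    exact this.symm

theorem finrank_le_one_of_two (hV : finrank k (S.Eg 1) ≤ 2) (hc : S.HC 1) : finrank k (S.Eg 2) ≤ 1 := by
  obtain ⟨v₀, v₁, hv⟩ := exists_span_two (k := k) hV
  set w : E := (v₀ : E) * v₁ - v₁ * v₀ with hw
  have h1 : S.Eg 2 ≤ Submodule.span k {w} := by
    refine (hc : S.Eg 2 ≤ _).trans ?_
    rw [Submodule.span_le]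
    rintro s ⟨a, ha, b, hb, rfl⟩
    obtain ⟨c₀, c₁, e1⟩ := hv ⟨a, ha⟩
    obtain ⟨d₀, d₁, e2⟩ := hv ⟨b, hb⟩
    have e1' : a = c₀ • (v₀ : E) + c₁ • (v₁ : E) := congrArg Subtype.val e1
    have e2' : b = d₀ • (v₀ : E) + d₁ • (v₁ : E) := congrArg Subtype.val e2
    have e3 : a * b - b * a = (c₀ * d₁ - c₁ * d₀) • w := by
      rw [e1', e2', hw]
      simp only [add_mul, mul_add, smul_mul_assoc, mul_smul_comm]
      module
    rw [SetLike.mem_coe, e3]
    exact Submodule.smul_mem _ _ (Submodule.mem_span_singleton_self w)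
  have h2 := Submodule.finrank_mono h1
  refine h2.trans ?_
  exact (finrank_span_le_card (R := k) ({w} : Set E)).trans (by simp)

theorem eq_bot_of_one (hV : finrank k (S.Eg 1) ≤ 1) (hc : S.HC 1) : S.Eg 2 = ⊥ := by
  obtain ⟨v₀, v₁, hv⟩ := exists_span_two (k := k) (hV.trans (by omega))
  have hcomm : ∀ a ∈ S.Eg 1, ∀ b ∈ S.Eg 1, a * b - b * a = 0 := by
    have hspan : ∃ v : S.Eg 1, ∀ x : S.Eg 1, ∃ c : k, x = c • v := by
      by_cases h0 : finrank k (S.Eg 1) = 0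
      · refine ⟨0, fun x => ⟨0, ?_⟩⟩
        have := finrank_zero_iff.mp h0
        simp [Subsingleton.elim x 0]
      · have h1 : finrank k (S.Eg 1) = 1 := by omega
        obtain ⟨v, -, hv'⟩ := finrank_eq_one_iff'.mp h1
        refine ⟨v, fun x => ?_⟩
        obtain ⟨c, hc⟩ := hv' x
        exact ⟨c, hc.symm⟩
    obtain ⟨v, hv'⟩ := hspan
    intro a ha b hb
    obtain ⟨c, e1⟩ := hv' ⟨a, ha⟩
    obtain ⟨d, e2⟩ := hv' ⟨b, hb⟩
    have e1' : a = c • (v : E) := congrArg Subtype.val e1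
    have e2' : b = d • (v : E) := congrArg Subtype.val e2
    rw [e1', e2']
    simp only [smul_mul_assoc, mul_smul_comm, smul_smul, mul_comm c d, sub_self]
  rw [eq_bot_iff]
  refine (hc : S.Eg 2 ≤ _).trans ?_
  rw [Submodule.span_le]
  rintro s ⟨a, ha, b, hb, rfl⟩
  rw [hcomm a ha b hb]
  exact Submodule.zero_mem _

section CaseA3

variable [IsAlgClosed k]

/-- The case of a "good" element `y`, three generators. -/
theorem gs3_caseA (ht : 4 ≤ t) (hV : finrank k (S.Eg 1) ≤ 3) (hc : ∀ j, 1 ≤ j → j + 2 ≤ t → S.HC j)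
    {y : E} (hy1 : y ∈ S.Eg 1) (hy : ∀ u ∈ S.Eg 2, ∃ b ∈ S.Eg 1, u = y * b) : False := by
  have hL1 : ∀ {u : E}, u ∈ S.Eg 1 → y * u = 0 → u = 0 :=
    fun hu h => S.left_inj hy1 hy (j := 1) le_rfl (by omega) hu h
  have hL2 : ∀ {u : E}, u ∈ S.Eg 2 → y * u = 0 → u = 0 :=
    fun hu h => S.left_inj hy1 hy (j := 2) (by omega) (by omega) hu h
  have hn : finrank k (S.Eg 1) = finrank k (S.Eg 2) := S.finrank_eq_succ hy1 hy (j := 1) le_rfl (by omega)
  have hb2 : S.Eg 2 ≠ ⊥ := S.eg_ne_bot (by omega) (by omega)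
  have hn3 : finrank k (S.Eg 1) = 3 := by
    by_contra hne
    have h2 : finrank k (S.Eg 1) ≤ 2 := by omega
    have h1 := S.finrank_le_one_of_two h2 (hc 1 le_rfl (by omega))
    have h3 : finrank k (S.Eg 1) ≤ 1 := by omega
    exact hb2 (S.eq_bot_of_one h3 (hc 1 le_rfl (by omega)))
  obtain ⟨τ, m, hτ, hab, hl, hr, hassoc, hcompat⟩ := S.exists_dstr hy1 hy ht
  obtain ⟨a, -, hsp, hτa, hma⟩ := Chars.orbit3 hn3 m ⟨y, hy1⟩ hl hr hassoc τ hcompat
    (S.span2 hy1 hy ht (hc 1 le_rfl (by omega)) hab)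
  let A : ZMod 3 → E := fun i => (a i : E)
  have hA1m : ∀ i, A i ∈ S.Eg 1 := fun i => (a i).2
  have hA1 : ∀ i, A (i + 1) * y = y * A i := by
    intro i
    change ((a (i + 1) : S.Eg 1) : E) * y = y * (a i : S.Eg 1)
    rw [hτ, hτa]
  have hA2 : ∀ i j, A i * A j = if i = j + 1 then y * A j else 0 := by
    intro i j
    change ((a i : S.Eg 1) : E) * (a j : S.Eg 1) = _
    rw [hab, hma]
    by_cases h : i = j + 1
    · simp only [h, if_true]
      rfl
    · simp [h]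
  have hAm : ∀ (l : ℕ) (j : ZMod 3), y ^ l * A j = A (j + l) * y ^ l := by
    intro l
    induction l with
    | zero => simp
    | succ l ih =>
      intro j
      rw [pow_succ, mul_assoc, ← hA1, ← mul_assoc, ih, mul_assoc]
      have e : j + 1 + (l : ZMod 3) = j + ((l + 1 : ℕ) : ZMod 3) := by
        push_cast
        ring
      rw [e]
  have hgen : ∀ (l : ℕ) (u : E), u ∈ S.Eg (l + 1) → ∃ b ∈ S.Eg 1, u = y ^ l * b := by
    intro l
    induction l with
    | zero =>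
      intro u hu
      exact ⟨u, hu, by simp⟩
    | succ l ih =>
      intro u hu
      obtain ⟨b, hb, rfl⟩ := S.left_gen hy (j := l + 1) (by omega) hu
      obtain ⟨c, hc', rfl⟩ := ih b hb
      exact ⟨c, hc', by rw [pow_succ', mul_assoc]⟩
  have hexp : ∀ {x : E}, x ∈ S.Eg 1 → ∃ c : ZMod 3 → k, x = ∑ i, c i • A i := by
    intro x hx
    obtain ⟨c, hc'⟩ := hsp ⟨x, hx⟩
    refine ⟨c, ?_⟩
    have := congrArg Subtype.val hc'
    simpa [A] using this
  have hy0 : y ≠ 0 := by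
    rintro rfl
    apply hb2
    rw [eq_bot_iff]
    intro u hu
    obtain ⟨b, -, rfl⟩ := hy u hu
    simp
  have hyy : y * y ≠ 0 := fun h => hy0 (hL1 hy1 h)
  have hyyy : y * (y * y) ≠ 0 := fun h => hyy (hL2 (S.mul_mem hy1 hy1) h)
  by_cases h3 : (t : ZMod 3) = 0
  · -- the central case
    have h3d : 3 ∣ t := (ZMod.natCast_eq_zero_iff t 3).mp h3
    have ht6 : 6 ≤ t := by
      obtain ⟨q, rfl⟩ := h3d
      omega
    have hcomm : ∀ x ∈ S.Eg 1, y ^ 3 * x = x * y ^ 3 := by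
      intro x hx
      obtain ⟨c, rfl⟩ := hexp hx
      rw [Finset.mul_sum, Finset.sum_mul]
      refine Finset.sum_congr rfl fun i _ => ?_
      rw [mul_smul_comm, smul_mul_assoc, hAm 3 i]
      have e : i + ((3 : ℕ) : ZMod 3) = i := by
        have : ((3 : ℕ) : ZMod 3) = 0 := by decide
        rw [this, add_zero]
      rw [e]
    have hy3 : y ^ 3 ∈ S.Eg 3 := S.pow_mem_eg hy1 2
    have hy30 : y ^ 3 = 0 := by
      refine S.nd (by omega) hy3 fun v hv => ?_
      have e : t - 3 = (t - 4) + 1 := by omega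
      rw [e] at hv
      have hv' := hc (t - 4) (by omega) (by omega) hv
      refine Submodule.span_induction (p := fun v _ => S.lam (y ^ 3 * v) = 0) ?_ ?_ ?_ ?_ hv'
      · rintro s ⟨x, hx, b, hb, rfl⟩
        have h1 : y ^ 3 * b ∈ S.Eg (3 + (t - 4)) := S.mul_mem hy3 hb
        have h2 := S.tr (i := 1) (j := 3 + (t - 4)) (by omega) hx h1
        rw [mul_sub, map_sub, sub_eq_zero, ← mul_assoc, hcomm x hx, mul_assoc, h2, mul_assoc]
      · simp
      · intro u v _ _ hu hv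
        rw [mul_add, map_add, hu, hv, add_zero]
      · intro c u _ hu
        rw [mul_smul_comm, map_smul, hu, smul_zero]
    apply hyyy
    have : y * (y * y) = y ^ 3 := by
      rw [pow_succ, pow_two, mul_assoc]
    rw [this, hy30]
  · -- the vanishing case
    obtain ⟨l, rfl⟩ : ∃ l, t = l + 2 := ⟨t - 2, by omega⟩
    have hl1 : 1 ≤ l := by omega
    have hpow : y ^ l ∈ S.Eg l := by
      obtain ⟨q, rfl⟩ : ∃ q, l = q + 1 := ⟨l - 1, by omega⟩
      exact S.pow_mem_eg hy1 q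
    have hv0 : ∀ i, S.lam (y ^ (l + 1) * A i) = 0 := by
      intro i
      have h1 : y * A i = A (i + 1) * A i := by
        rw [hA2, if_pos rfl]
      have h2 : y ^ (l + 1) * A i = A (i + 1 + l) * (y ^ l * A i) := by
        rw [pow_succ, mul_assoc, h1, ← mul_assoc, hAm l (i + 1), mul_assoc]
      have hm1 : y ^ l * A i ∈ S.Eg (l + 1) := S.mul_mem hpow (hA1m i)
      rw [h2, S.tr (i := 1) (j := l + 1) (by omega) (hA1m _) hm1, mul_assoc, hA2, if_neg, mul_zero, map_zero]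
      intro hi
      apply h3
      have h4 : ((l : ZMod 3) + 2) = 0 := by
        have h5 : i + (l + 2) = i + 0 := by
          rw [add_zero]
          calc i + ((l : ZMod 3) + 2) = i + 1 + l + 1 := by ring
            _ = i := hi.symm
        exact add_left_cancel h5
      push_cast
      exact h4
    apply S.top
    rw [eq_bot_iff]
    intro u hu
    obtain ⟨b, hb, rfl⟩ := hgen (l + 1) u hu
    obtain ⟨c, rfl⟩ := hexp hb
    rw [Submodule.mem_bot]
    apply S.vanish_top hu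
    rw [Finset.mul_sum, map_sum]
    refine Finset.sum_eq_zero fun i _ => ?_
    rw [mul_smul_comm, map_smul, hv0, smul_zero]

end CaseA3


/-- The product from degree one to degree two as a bilinear map. -/
def prodL : S.Eg 1 →ₗ[k] S.Eg 1 →ₗ[k] S.Eg 2 := LinearMap.mk₂ k
  (fun a b => ⟨(a : E) * b, S.mul_mem a.2 b.2⟩)
  (fun a a' b => Subtype.ext (by simp [add_mul]))
  (fun c a b => Subtype.ext (by simp))
  (fun a b b' => Subtype.ext (by simp [mul_add]))
  (fun c a b => Subtype.ext (by simp))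

@[simp] theorem prodL_coe (a b : S.Eg 1) : ((S.prodL a b : S.Eg 2) : E) = (a : E) * b := rfl

/-- Few products: all left multiplications of rank at most one. -/
theorem rank_small (ht : 3 ≤ t) (he : finrank k (S.Eg 2) ≤ 2)
    (hns : ∀ y : S.Eg 1, ¬ Function.Surjective (S.prodL y)) : False := by
  have hr : ∀ y, finrank k (LinearMap.range (S.prodL y)) ≤ 1 := by
    intro y
    have h1 : LinearMap.range (S.prodL y) ≠ ⊤ := fun h => hns y (LinearMap.range_eq_top.mp h)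
    have h2 := Submodule.finrank_lt h1
    omega
  rcases Rank1.dichotomy S.prodL hr with ⟨z, hz0, hz⟩ | ⟨h₀, hh⟩
  · apply hz0
    apply Subtype.ext
    refine S.no_left_ann ht z.2 fun y hy => ?_
    exact congrArg Subtype.val (hz ⟨y, hy⟩)
  · have hb2 : S.Eg 2 ≠ ⊥ := S.eg_ne_bot (by omega) (by omega)
    have hall : ∀ u : S.Eg 2, ∃ c : k, u = c • h₀ := by
      intro u
      have h1 := S.genL 1 le_rfl (u.2 : (u : E) ∈ S.Eg (1 + 1))
      have h2 : Submodule.span k {s | ∃ a ∈ S.Eg 1, ∃ b ∈ S.Eg 1, s = a * b} ≤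
          Submodule.span k {(h₀ : E)} := by
        rw [Submodule.span_le]
        rintro s ⟨a, ha, b, hb, rfl⟩
        obtain ⟨c, hc⟩ := Submodule.mem_span_singleton.mp (hh ⟨a, ha⟩ ⟨b, hb⟩)
        have e := congrArg Subtype.val hc
        rw [SetLike.mem_coe, Submodule.mem_span_singleton]
        exact ⟨c, e⟩
      obtain ⟨c, hc⟩ := Submodule.mem_span_singleton.mp (h2 h1)
      exact ⟨c, Subtype.ext hc.symm⟩
    by_cases h0 : ∀ y z, S.prodL y z = 0
    · apply hb2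
      rw [eq_bot_iff]
      intro u hu
      have h1 := S.genL 1 le_rfl (hu : u ∈ S.Eg (1 + 1))
      have h2 : Submodule.span k {s | ∃ a ∈ S.Eg 1, ∃ b ∈ S.Eg 1, s = a * b} ≤ ⊥ := by
        rw [Submodule.span_le]
        rintro s ⟨a, ha, b, hb, rfl⟩
        have := congrArg Subtype.val (h0 ⟨a, ha⟩ ⟨b, hb⟩)
        exact this
      exact h2 h1
    · push Not at h0
      obtain ⟨y, z, hyz⟩ := h0
      apply hns y
      intro u
      obtain ⟨c, hc⟩ := hall (S.prodL y z)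
      obtain ⟨d, hd⟩ := hall u
      have hc0 : c ≠ 0 := by
        rintro rfl
        apply hyz
        rw [hc, zero_smul]
      refine ⟨(d / c) • z, ?_⟩
      rw [map_smul, hc, smul_smul, hd]
      congr 1
      field_simp

/-- The mirror of `left_gen`. -/
theorem right_gen {y : E} (hy : ∀ u ∈ S.Eg 2, ∃ b ∈ S.Eg 1, u = b * y) {j : ℕ} (hj : 1 ≤ j) {u : E}
    (hu : u ∈ S.Eg (j + 1)) : ∃ b ∈ S.Eg j, u = b * y := by
  induction j, hj using Nat.le_induction generalizing u with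
  | base => exact hy u hu
  | succ j hj ih =>
    have h := S.genL (j + 1) (by omega) hu
    refine Submodule.span_induction (p := fun u _ => ∃ b ∈ S.Eg (j + 1), u = b * y) ?_ ?_ ?_ ?_ h
    · rintro s ⟨a, ha, b, hb, rfl⟩
      obtain ⟨c, hc, rfl⟩ := ih hb
      refine ⟨a * c, ?_, by rw [mul_assoc]⟩
      have := S.mul_mem ha hc
      rwa [add_comm] at this
    · exact ⟨0, Submodule.zero_mem _, by simp⟩
    · rintro x z _ _ ⟨a, ha, rfl⟩ ⟨b, hb, rfl⟩
      exact ⟨a + b, Submodule.add_mem _ ha hb, by rw [add_mul]⟩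
    · rintro c x _ ⟨a, ha, rfl⟩
      exact ⟨c • a, Submodule.smul_mem _ c ha, by rw [smul_mul_assoc]⟩

/-- If degree two is `V y` then it is also `y V`. -/
theorem mirror_of_right (ht : 3 ≤ t) {y : E} (hy1 : y ∈ S.Eg 1) (hy : ∀ u ∈ S.Eg 2, ∃ b ∈ S.Eg 1, u = b * y) :
    ∀ u ∈ S.Eg 2, ∃ b ∈ S.Eg 1, u = y * b := by
  have hinj : Function.Injective (S.Ly hy1 1) := by
    rw [injective_iff_map_eq_zero]
    rintro ⟨u, hu⟩ h0
    have h1 : y * u = 0 := congrArg Subtype.val h0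
    have h2 : u = 0 := by
      refine S.nd (by omega) hu fun v hv => ?_
      have e : t - 1 = (t - 2) + 1 := by omega
      rw [e] at hv
      obtain ⟨b, hb, rfl⟩ := S.right_gen hy (j := t - 2) (by omega) hv
      have hbm : b * y ∈ S.Eg ((t - 2) + 1) := S.mul_mem hb hy1
      rw [S.tr (i := 1) (j := (t - 2) + 1) (by omega) hu hbm, mul_assoc, h1, mul_zero, map_zero]
    exact Subtype.ext h2
  have hsurj : Function.Surjective (S.Ry hy1 1) := by
    rintro ⟨u, hu⟩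
    obtain ⟨b, hb, rfl⟩ := hy u hu
    exact ⟨⟨b, hb⟩, rfl⟩
  have h1 : finrank k (S.Eg 1) ≤ finrank k (S.Eg (1 + 1)) := LinearMap.finrank_le_finrank_of_injective hinj
  have h2 : finrank k (S.Eg (1 + 1)) ≤ finrank k (S.Eg 1) := LinearMap.finrank_le_finrank_of_surjective (f := S.Ry hy1 1) hsurj
  have h3 : Function.Surjective (S.Ly hy1 1) :=
    (LinearMap.injective_iff_surjective_of_finrank_eq_finrank (le_antisymm h1 h2)).mp hinj
  intro u hu
  obtain ⟨b, hb⟩ := h3 ⟨u, hu⟩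
  exact ⟨b, b.2, (congrArg Subtype.val hb).symm⟩

theorem finrank_le_three (hV : finrank k (S.Eg 1) ≤ 3) (hc : S.HC 1) : finrank k (S.Eg 2) ≤ 3 := by
  obtain ⟨v₀, v₁, v₂, hv⟩ := exists_span_three (k := k) hV
  set w₀ : E := (v₀ : E) * v₁ - v₁ * v₀ with hw₀
  set w₁ : E := (v₀ : E) * v₂ - v₂ * v₀ with hw₁
  set w₂ : E := (v₁ : E) * v₂ - v₂ * v₁ with hw₂
  have h1 : S.Eg 2 ≤ Submodule.span k {w₀, w₁, w₂} := by
    refine (hc : S.Eg 2 ≤ _).trans ?_
    rw [Submodule.span_le]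
    rintro s ⟨a, ha, b, hb, rfl⟩
    obtain ⟨c₀, c₁, c₂, e1⟩ := hv ⟨a, ha⟩
    obtain ⟨d₀, d₁, d₂, e2⟩ := hv ⟨b, hb⟩
    have e1' : a = c₀ • (v₀ : E) + c₁ • (v₁ : E) + c₂ • (v₂ : E) := congrArg Subtype.val e1
    have e2' : b = d₀ • (v₀ : E) + d₁ • (v₁ : E) + d₂ • (v₂ : E) := congrArg Subtype.val e2
    have e3 : a * b - b * a = (c₀ * d₁ - c₁ * d₀) • w₀ + (c₀ * d₂ - c₂ * d₀) • w₁ + (c₁ * d₂ - c₂ * d₁) • w₂ := by
      rw [e1', e2', hw₀, hw₁, hw₂]
      exact comm_expand3 _ _ _ _ _ _ _ _ _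
    rw [SetLike.mem_coe, e3]
    refine Submodule.add_mem _ (Submodule.add_mem _ ?_ ?_) ?_ <;> refine Submodule.smul_mem _ _ (Submodule.subset_span ?_) <;> simp
  haveI : FiniteDimensional k (Submodule.span k {w₀, w₁, w₂}) := FiniteDimensional.span_of_finite k (Set.toFinite _)
  have h2 := Submodule.finrank_mono h1
  refine h2.trans ?_
  classical
  have h3 : (({w₀, w₁, w₂} : Finset E) : Set E) = {w₀, w₁, w₂} := by simp
  rw [← h3]
  refine (finrank_span_finset_le_card _).trans ?_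
  exact Finset.card_le_three


/-- Spanning with one more vector. -/
theorem exists_decomp {X : Type*} [AddCommGroup X] [Module k X] [FiniteDimensional k X]
    {Q₀ Q₁ : Submodule k X} (hle : Q₀ ≤ Q₁) (hd : finrank k Q₀ + 1 = finrank k Q₁) {r : X} (hr : r ∈ Q₁)
    (hr0 : r ∉ Q₀) {x : X} (hx : x ∈ Q₁) : ∃ c : k, ∃ p ∈ Q₀, x = p + c • r := by
  have h1 : Q₀ < Q₀ ⊔ Submodule.span k {r} := by
    refine lt_of_le_of_ne le_sup_left fun h => hr0 ?_
    rw [h]
    exact Submodule.mem_sup_right (Submodule.mem_span_singleton_self r)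
  have h2 := Submodule.finrank_lt_finrank_of_lt h1
  have h3 : Q₀ ⊔ Submodule.span k {r} ≤ Q₁ :=
    sup_le hle (by simpa [Submodule.span_le] using hr)
  have h4 := Submodule.finrank_mono h3
  have h5 : Q₀ ⊔ Submodule.span k {r} = Q₁ := Submodule.eq_of_le_of_finrank_le h3 (by omega)
  rw [← h5] at hx
  obtain ⟨p, hp, q, hq, rfl⟩ := Submodule.mem_sup.mp hx
  obtain ⟨c, rfl⟩ := Submodule.mem_span_singleton.mp hq
  exact ⟨c, p, hp, rfl⟩

/-- The product of four degree one vanishing implies `False`. -/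
theorem four_products (ht : 4 ≤ t) (h : ∀ a ∈ S.Eg 1, ∀ b ∈ S.Eg 1, ∀ c ∈ S.Eg 1, ∀ d ∈ S.Eg 1, a * b * c * d = 0) :
    False := by
  have h2 : ∀ u ∈ S.Eg 2, ∀ c ∈ S.Eg 1, ∀ d ∈ S.Eg 1, u * c * d = 0 := by
    intro u hu c hc d hd
    have hu' := S.genL 1 le_rfl (hu : u ∈ S.Eg (1 + 1))
    refine Submodule.span_induction (p := fun u _ => u * c * d = 0) ?_ ?_ ?_ ?_ hu'
    · rintro s ⟨a, ha, b, hb, rfl⟩
      exact h a ha b hb c hc d hd
    · simp
    · intro x y _ _ hx hy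
      rw [add_mul, add_mul, hx, hy, add_zero]
    · intro r x _ hx
      rw [smul_mul_assoc, smul_mul_assoc, hx, smul_zero]
  have h3 : ∀ u ∈ S.Eg 3, ∀ d ∈ S.Eg 1, u * d = 0 := by
    intro u hu d hd
    have hu' := S.genR 2 (by omega) (hu : u ∈ S.Eg (2 + 1))
    refine Submodule.span_induction (p := fun u _ => u * d = 0) ?_ ?_ ?_ ?_ hu'
    · rintro s ⟨a, ha, b, hb, rfl⟩
      exact h2 a ha b hb d hd
    · simp
    · intro x y _ _ hx hy
      rw [add_mul, hx, hy, add_zero]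
    · intro r x _ hx
      rw [smul_mul_assoc, hx, smul_zero]
  apply S.eg_ne_bot (j := 4) (by omega) ht
  rw [eq_bot_iff]
  intro u hu
  have hu' := S.genR 3 (by omega) (hu : u ∈ S.Eg (3 + 1))
  have h4 : Submodule.span k {s | ∃ a ∈ S.Eg 3, ∃ b ∈ S.Eg 1, s = a * b} ≤ ⊥ := by
    rw [Submodule.span_le]
    rintro s ⟨a, ha, b, hb, rfl⟩
    simp [h3 a ha b hb]
  exact h4 hu'

/-- The case of a twisted isotropy `y θ(y) = 0`. -/
theorem sing_d (ht : 4 ≤ t) (h3 : finrank k (S.Eg 1) = 3) (θ : S.Eg 1 ≃ₗ[k] S.Eg 1)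
    (hθ : ∀ y : S.Eg 1, (y : E) * (θ y : S.Eg 1) = 0) : False := by
  have hpol : ∀ a b : S.Eg 1, (a : E) * (θ b : S.Eg 1) = - ((b : E) * (θ a : S.Eg 1)) := by
    intro a b
    have h1 := hθ (a + b)
    rw [map_add, Submodule.coe_add, Submodule.coe_add, add_mul, mul_add, mul_add, hθ a, hθ b, zero_add, add_zero] at h1
    exact eq_neg_of_add_eq_zero_left h1
  let φ : S.Eg 1 → S.Eg 1 → S.Eg 1 → S.Eg 1 → E := fun a b c d =>
    (a : E) * (θ b : S.Eg 1) * (θ (θ c) : S.Eg 1) * (θ (θ (θ d)) : S.Eg 1)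
  have s12 : ∀ a b c d, φ a b c d = - φ b a c d := by
    intro a b c d
    change (a : E) * (θ b : S.Eg 1) * _ * _ = - ((b : E) * (θ a : S.Eg 1) * _ * _)
    rw [hpol a b]
    simp
  have s23 : ∀ a b c d, φ a b c d = - φ a c b d := by
    intro a b c d
    change (a : E) * (θ b : S.Eg 1) * (θ (θ c) : S.Eg 1) * _ = - ((a : E) * (θ c : S.Eg 1) * (θ (θ b) : S.Eg 1) * _)
    have e := hpol (θ b) (θ c)
    rw [mul_assoc (a : E), e]
    simp only [mul_neg, neg_mul, mul_assoc]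
  have s34 : ∀ a b c d, φ a b c d = - φ a b d c := by
    intro a b c d
    change (a : E) * (θ b : S.Eg 1) * (θ (θ c) : S.Eg 1) * (θ (θ (θ d)) : S.Eg 1) =
      - ((a : E) * (θ b : S.Eg 1) * (θ (θ d) : S.Eg 1) * (θ (θ (θ c)) : S.Eg 1))
    rw [mul_assoc _ _ ((θ (θ (θ d)) : S.Eg 1) : E), mul_assoc _ _ ((θ (θ (θ c)) : S.Eg 1) : E), hpol (θ (θ c)) (θ (θ d))]
    simp
  have e12 : ∀ a c d, φ a a c d = 0 := by
    intro a c d
    change (a : E) * (θ a : S.Eg 1) * _ * _ = 0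
    rw [hθ]
    simp
  have e23 : ∀ a b d, φ a b b d = 0 := by
    intro a b d
    change (a : E) * (θ b : S.Eg 1) * (θ (θ b) : S.Eg 1) * _ = 0
    rw [mul_assoc (a : E), hθ]
    simp
  have e34 : ∀ a b c, φ a b c c = 0 := by
    intro a b c
    change (a : E) * (θ b : S.Eg 1) * (θ (θ c) : S.Eg 1) * (θ (θ (θ c)) : S.Eg 1) = 0
    rw [mul_assoc _ _ ((θ (θ (θ c)) : S.Eg 1) : E), hθ]
    simp
  have e13 : ∀ a b d, φ a b a d = 0 := by
    intro a b d
    rw [s12, e23, neg_zero]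
  have e24 : ∀ a b c, φ a b c b = 0 := by
    intro a b c
    rw [s23, e34, neg_zero]
  have e14 : ∀ a b c, φ a b c a = 0 := by
    intro a b c
    rw [s34, e13, neg_zero]
  have hb := finBasisOfFinrankEq k (S.Eg 1) h3
  have hsp : ∀ x : S.Eg 1, x ∈ Submodule.span k (Set.range hb) := fun x => by
    rw [hb.span_eq]
    exact Submodule.mem_top
  have key : ∀ i j l n : Fin 3, φ (hb i) (hb j) (hb l) (hb n) = 0 := by
    intro i j l n
    have h : i = j ∨ i = l ∨ i = n ∨ j = l ∨ j = n ∨ l = n := by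
      revert i j l n
      decide
    rcases h with rfl | rfl | rfl | rfl | rfl | rfl
    · exact e12 _ _ _
    · exact e13 _ _ _
    · exact e14 _ _ _
    · exact e23 _ _ _
    · exact e24 _ _ _
    · exact e34 _ _ _
  have k1 : ∀ (i j l : Fin 3) (d : S.Eg 1), φ (hb i) (hb j) (hb l) d = 0 := by
    intro i j l d
    refine Submodule.span_induction (p := fun d _ => φ (hb i) (hb j) (hb l) d = 0) ?_ ?_ ?_ ?_ (hsp d)
    · rintro _ ⟨n, rfl⟩
      exact key i j l n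
    · simp [φ]
    · intro x y _ _ hx hy
      simp only [φ, map_add, Submodule.coe_add, mul_add] at hx hy ⊢
      rw [hx, hy, add_zero]
    · intro c x _ hx
      simp only [φ, map_smul, Submodule.coe_smul, mul_smul_comm] at hx ⊢
      rw [hx, smul_zero]
  have k2 : ∀ (i j : Fin 3) (c d : S.Eg 1), φ (hb i) (hb j) c d = 0 := by
    intro i j c d
    refine Submodule.span_induction (p := fun c _ => φ (hb i) (hb j) c d = 0) ?_ ?_ ?_ ?_ (hsp c)
    · rintro _ ⟨n, rfl⟩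
      exact k1 i j n d
    · simp [φ]
    · intro x y _ _ hx hy
      simp only [φ, map_add, Submodule.coe_add, mul_add, add_mul] at hx hy ⊢
      rw [hx, hy, add_zero]
    · intro c x _ hx
      simp only [φ, map_smul, Submodule.coe_smul, mul_smul_comm, smul_mul_assoc] at hx ⊢
      rw [hx, smul_zero]
  have k3 : ∀ (i : Fin 3) (b c d : S.Eg 1), φ (hb i) b c d = 0 := by
    intro i b c d
    refine Submodule.span_induction (p := fun b _ => φ (hb i) b c d = 0) ?_ ?_ ?_ ?_ (hsp b)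
    · rintro _ ⟨n, rfl⟩
      exact k2 i n c d
    · simp [φ]
    · intro x y _ _ hx hy
      simp only [φ, map_add, Submodule.coe_add, mul_add, add_mul] at hx hy ⊢
      rw [hx, hy, add_zero]
    · intro c x _ hx
      simp only [φ, map_smul, Submodule.coe_smul, mul_smul_comm, smul_mul_assoc] at hx ⊢
      rw [hx, smul_zero]
  have k4 : ∀ a b c d : S.Eg 1, φ a b c d = 0 := by
    intro a b c d
    refine Submodule.span_induction (p := fun a _ => φ a b c d = 0) ?_ ?_ ?_ ?_ (hsp a)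
    · rintro _ ⟨n, rfl⟩
      exact k3 n b c d
    · simp [φ]
    · intro x y _ _ hx hy
      simp only [φ, Submodule.coe_add, add_mul] at hx hy ⊢
      rw [hx, hy, add_zero]
    · intro c x _ hx
      simp only [φ, Submodule.coe_smul, smul_mul_assoc] at hx ⊢
      rw [hx, smul_zero]
  refine S.four_products ht fun a ha b hb' c hc d hd => ?_
  have := k4 ⟨a, ha⟩ (θ.symm ⟨b, hb'⟩) (θ.symm (θ.symm ⟨c, hc⟩)) (θ.symm (θ.symm (θ.symm ⟨d, hd⟩)))
  simpa [φ] using this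


/-- The case of two planes. -/
theorem sing_c (ht : 4 ≤ t) (h3 : finrank k (S.Eg 1) = 3) (he : finrank k (S.Eg 2) = 3) (hc : S.HC 1)
    {Q Q' : Submodule k (S.Eg 1)} (hQ : finrank k Q = 2) (hQ' : finrank k Q' = 2) {w w' : S.Eg 2}
    (hw : ∀ y : S.Eg 1, ∀ q ∈ Q, S.prodL y q ∈ Submodule.span k {w})
    (hw' : ∀ y : S.Eg 1, ∀ q ∈ Q', S.prodL q y ∈ Submodule.span k {w'}) : False := by
  have hwE : ∀ y : S.Eg 1, ∀ q ∈ Q, ∃ c : k, (y : E) * (q : E) = c • (w : E) := by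
    intro y q hq
    obtain ⟨c, hc'⟩ := Submodule.mem_span_singleton.mp (hw y q hq)
    exact ⟨c, (congrArg Subtype.val hc').symm⟩
  have hwE' : ∀ y : S.Eg 1, ∀ q ∈ Q', ∃ c : k, (q : E) * (y : E) = c • (w' : E) := by
    intro y q hq
    obtain ⟨c, hc'⟩ := Submodule.mem_span_singleton.mp (hw' y q hq)
    exact ⟨c, (congrArg Subtype.val hc').symm⟩
  -- a common vector
  obtain ⟨u, huI, hu0⟩ : ∃ u ∈ Q ⊓ Q', u ≠ 0 := by
    have h1 := Submodule.finrank_sup_add_finrank_inf_eq Q Q'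
    have h2 := Submodule.finrank_le (Q ⊔ Q')
    have h4 : Q ⊓ Q' ≠ ⊥ := by
      intro h
      rw [h, finrank_bot] at h1
      omega
    exact Submodule.exists_mem_ne_zero_of_ne_bot h4
  have huQ : u ∈ Q := huI.1
  have huQ' : u ∈ Q' := huI.2
  have hspu : finrank k (Submodule.span k {u}) = 1 := finrank_span_singleton hu0
  have hleu : Submodule.span k {u} ≤ Q := by simpa [Submodule.span_le] using huQ
  obtain ⟨q, hqQ, hqu⟩ : ∃ q ∈ Q, q ∉ Submodule.span k {u} := by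
    by_contra hcon
    push Not at hcon
    have h5 : Q ≤ Submodule.span k {u} := hcon
    have h6 := Submodule.finrank_mono h5
    omega
  obtain ⟨r, hrQ⟩ : ∃ r, r ∉ Q := by
    by_contra hcon
    push Not at hcon
    have h5 : Q = ⊤ := by
      rw [eq_top_iff]
      intro x _
      exact hcon x
    rw [h5, finrank_top] at hQ
    omega
  obtain ⟨r', hrQ'⟩ : ∃ r, r ∉ Q' := by
    by_contra hcon
    push Not at hcon
    have h5 : Q' = ⊤ := by
      rw [eq_top_iff]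
      intro x _
      exact hcon x
    rw [h5, finrank_top] at hQ'
    omega
  have hdec : ∀ x : S.Eg 1, ∃ c₀ c₁ c₂ : k, x = c₀ • u + c₁ • q + c₂ • r := by
    intro x
    obtain ⟨c₂, p, hp, rfl⟩ := exists_decomp (Q₀ := Q) (Q₁ := ⊤) le_top (by rw [finrank_top]; omega) (r := r)
      Submodule.mem_top hrQ (x := x) Submodule.mem_top
    obtain ⟨c₁, p₀, hp₀, rfl⟩ := exists_decomp (Q₀ := Submodule.span k {u}) (Q₁ := Q) hleu (by omega) hqQ hqu hp
    obtain ⟨c₀, rfl⟩ := Submodule.mem_span_singleton.mp hp₀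
    exact ⟨c₀, c₁, c₂, rfl⟩
  -- the two lines are different
  have hne : ¬ ∃ e : k, (w' : E) = e • (w : E) := by
    rintro ⟨e, he'⟩
    obtain ⟨α, hα⟩ := hwE u q hqQ
    obtain ⟨β, hβ⟩ := hwE q u huQ
    obtain ⟨γ, hγ⟩ := hwE' r u huQ'
    obtain ⟨δ, hδ⟩ := hwE r u huQ
    set z : E := (q : E) * r - r * q with hz
    have hle : S.Eg 2 ≤ Submodule.span k {(w : E), z} := by
      refine (hc : S.Eg 2 ≤ _).trans ?_
      rw [Submodule.span_le]
      rintro s ⟨a, ha, b, hb, rfl⟩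
      obtain ⟨c₀, c₁, c₂, e1⟩ := hdec ⟨a, ha⟩
      obtain ⟨d₀, d₁, d₂, e2⟩ := hdec ⟨b, hb⟩
      have e1' : a = c₀ • (u : E) + c₁ • (q : E) + c₂ • (r : E) := congrArg Subtype.val e1
      have e2' : b = d₀ • (u : E) + d₁ • (q : E) + d₂ • (r : E) := congrArg Subtype.val e2
      have e3 : a * b - b * a = ((c₀ * d₁ - c₁ * d₀) * (α - β) + (c₀ * d₂ - c₂ * d₀) * (γ * e - δ)) • (w : E)
          + (c₁ * d₂ - c₂ * d₁) • z := by
        have hh : (a * b - b * a) = (c₀ * d₁ - c₁ * d₀) • ((u : E) * q - q * u) +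
            (c₀ * d₂ - c₂ * d₀) • ((u : E) * r - r * u) + (c₁ * d₂ - c₂ * d₁) • z := by
          rw [e1', e2', hz]
          exact comm_expand3 _ _ _ _ _ _ _ _ _
        rw [hh, hα, hβ, hγ, hδ, he']
        module
      rw [SetLike.mem_coe, e3]
      refine Submodule.add_mem _ (Submodule.smul_mem _ _ (Submodule.subset_span ?_))
        (Submodule.smul_mem _ _ (Submodule.subset_span ?_)) <;> simp
    haveI : FiniteDimensional k (Submodule.span k {(w : E), z}) := FiniteDimensional.span_of_finite k (Set.toFinite _)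
    have h2 := Submodule.finrank_mono hle
    have h4 : finrank k (Submodule.span k {(w : E), z}) ≤ 2 := by
      classical
      have h5 : (({(w : E), z} : Finset E) : Set E) = {(w : E), z} := by simp
      rw [← h5]
      exact (finrank_span_finset_le_card _).trans Finset.card_le_two
    omega
  -- the product of the two planes vanishes
  have hzero : ∀ p ∈ Q', ∀ x ∈ Q, (p : E) * (x : E) = 0 := by
    intro p hp x hx
    obtain ⟨α, hα⟩ := hwE p x hx
    obtain ⟨β, hβ⟩ := hwE' x p hp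
    by_cases hβ0 : β = 0
    · rw [hβ, hβ0, zero_smul]
    · exfalso
      apply hne
      refine ⟨α / β, ?_⟩
      have h1 : β • (w' : E) = α • (w : E) := hβ.symm.trans hα
      have h2 : (w' : E) = β⁻¹ • (β • (w' : E)) := by
        rw [smul_smul, inv_mul_cancel₀ hβ0, one_smul]
      rw [h2, h1, smul_smul, div_eq_inv_mul]
  -- a common annihilated vector
  obtain ⟨α, hα⟩ := hwE r' u huQ
  obtain ⟨β, hβ⟩ := hwE r' q hqQ
  obtain ⟨q₀, hq₀Q, hq₀0, hq₀'⟩ : ∃ q₀ ∈ Q, q₀ ≠ 0 ∧ (r' : E) * (q₀ : E) = 0 := by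
    by_cases hαβ : α = 0 ∧ β = 0
    · refine ⟨u, huQ, hu0, ?_⟩
      rw [hα, hαβ.1, zero_smul]
    · refine ⟨β • u - α • q, Submodule.sub_mem _ (Submodule.smul_mem _ _ huQ) (Submodule.smul_mem _ _ hqQ), ?_, ?_⟩
      · intro h0
        by_cases hα0 : α = 0
        · have hβ0 : β ≠ 0 := fun h => hαβ ⟨hα0, h⟩
          rw [hα0, zero_smul, sub_zero] at h0
          exact hu0 ((smul_eq_zero.mp h0).resolve_left hβ0)
        · apply hqu
          have h1 : q = (β / α) • u := by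
            have h2 : α • q = β • u := (sub_eq_zero.mp h0).symm
            have h4 : q = α⁻¹ • (α • q) := by
              rw [smul_smul, inv_mul_cancel₀ hα0, one_smul]
            rw [h4, h2, smul_smul, div_eq_inv_mul]
          rw [h1]
          exact Submodule.smul_mem _ _ (Submodule.mem_span_singleton_self u)
      · rw [Submodule.coe_sub, Submodule.coe_smul, Submodule.coe_smul, mul_sub, mul_smul_comm, mul_smul_comm, hα, hβ,
          smul_smul, smul_smul, mul_comm, sub_self]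
  apply hq₀0
  apply Subtype.ext
  refine S.no_left_ann (by omega) q₀.2 fun y hy => ?_
  obtain ⟨c, p, hp, e⟩ := exists_decomp (Q₀ := Q') (Q₁ := ⊤) le_top (by rw [finrank_top]; omega) (r := r')
    Submodule.mem_top hrQ' (x := (⟨y, hy⟩ : S.Eg 1)) Submodule.mem_top
  have e' : y = (p : E) + c • (r' : E) := congrArg Subtype.val e
  rw [e', add_mul, smul_mul_assoc, hq₀', smul_zero, add_zero]
  exact hzero p hp q₀ hq₀Q

variable [IsAlgClosed k] in
/-- The case without good elements. -/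
theorem gs3_caseB (ht : 4 ≤ t) (hV : finrank k (S.Eg 1) ≤ 3) (hc : S.HC 1)
    (hnoL : ∀ y : S.Eg 1, ¬ Function.Surjective (S.prodL y))
    (hnoR : ∀ y : S.Eg 1, ¬ Function.Surjective (S.prodL.flip y)) : False := by
  by_cases he : finrank k (S.Eg 2) ≤ 2
  · exact S.rank_small (by omega) he hnoL
  have hle3 := S.finrank_le_three hV hc
  have he3 : finrank k (S.Eg 2) = 3 := by omega
  have h3 : finrank k (S.Eg 1) = 3 := by
    by_contra hne
    have := S.finrank_le_one_of_two (by omega) hc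
    omega
  haveI : Infinite k := IsAlgClosed.instInfinite
  have hspan2 : ∀ ω : S.Eg 2 →ₗ[k] k, ω ≠ 0 → (∀ y z, ω (S.prodL y z) = 0) → False := by
    intro ω hω h0
    apply hω
    ext ⟨u, hu⟩
    have hu' := S.genL 1 le_rfl (hu : u ∈ S.Eg (1 + 1))
    have hle : Submodule.span k {s | ∃ a ∈ S.Eg 1, ∃ b ∈ S.Eg 1, s = a * b} ≤
        (LinearMap.ker ω).map (S.Eg 2).subtype := by
      rw [Submodule.span_le]
      rintro s ⟨a, ha, b, hb, rfl⟩
      exact ⟨S.prodL ⟨a, ha⟩ ⟨b, hb⟩, h0 _ _, rfl⟩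
    obtain ⟨u', hu'1, hu'2⟩ := hle hu'
    have e : u' = ⟨u, hu⟩ := Subtype.ext hu'2
    rw [← e]
    exact hu'1
  rcases Sing.classify h3 he3 S.prodL hnoL with ⟨z, hz0, hz⟩ | ⟨ω, hω, h0⟩ | ⟨Q, hQ, w, hw⟩ | ⟨θ, hθ⟩
  · apply hz0
    apply Subtype.ext
    refine S.no_left_ann (by omega) z.2 fun y hy => ?_
    exact congrArg Subtype.val (hz ⟨y, hy⟩)
  · exact hspan2 ω hω h0
  · rcases Sing.classify h3 he3 S.prodL.flip hnoR with ⟨z, hz0, hz⟩ | ⟨ω, hω, h0⟩ | ⟨Q', hQ', w', hw'⟩ | ⟨θ', hθ'⟩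
    · apply hz0
      apply Subtype.ext
      refine S.no_right_ann (by omega) z.2 fun y hy => ?_
      exact congrArg Subtype.val (hz ⟨y, hy⟩)
    · exact hspan2 ω hω (fun y z => h0 z y)
    · exact S.sing_c ht h3 he3 hc hQ hQ' hw hw'
    · refine S.sing_d ht h3 θ'.symm fun y => ?_
      have h1 := hθ' (θ'.symm y)
      rw [LinearEquiv.apply_symm_apply] at h1
      exact congrArg Subtype.val h1
  · exact S.sing_d ht h3 θ fun y => congrArg Subtype.val (hθ y)

variable [IsAlgClosed k] in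
/-- **The three generator theorem**: a graded symmetric structure with at most three generators cannot have
all its middle degrees spanned by commutators. -/
theorem gs3 (ht : 4 ≤ t) (hV : finrank k (S.Eg 1) ≤ 3) (hc : ∀ j, 1 ≤ j → j + 2 ≤ t → S.HC j) : False := by
  have hc1 := hc 1 le_rfl (by omega)
  by_cases hA : ∃ y : S.Eg 1, Function.Surjective (S.prodL y)
  · obtain ⟨y, hy⟩ := hA
    refine S.gs3_caseA ht hV hc y.2 fun u hu => ?_
    obtain ⟨b, hb⟩ := hy ⟨u, hu⟩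
    exact ⟨b, b.2, (congrArg Subtype.val hb).symm⟩
  by_cases hA' : ∃ y : S.Eg 1, Function.Surjective (S.prodL.flip y)
  · obtain ⟨y, hy⟩ := hA'
    have hy' : ∀ u ∈ S.Eg 2, ∃ b ∈ S.Eg 1, u = b * (y : E) := by
      intro u hu
      obtain ⟨b, hb⟩ := hy ⟨u, hu⟩
      exact ⟨b, b.2, (congrArg Subtype.val hb).symm⟩
    exact S.gs3_caseA ht hV hc y.2 (S.mirror_of_right (by omega) y.2 hy')
  · push Not at hA hA'
    exact S.gs3_caseB ht hV hc1 hA hA'

variable [IsAlgClosed k] in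
/-- **The two generator theorem**. -/
theorem gs2 (ht : 4 ≤ t) (hV : finrank k (S.Eg 1) ≤ 2) (he : finrank k (S.Eg 2) ≤ 2)
    (hc : ∀ j, 2 ≤ j → j + 2 ≤ t → S.HC j) :
    t = 4 ∧ finrank k (S.Eg 1) = 2 ∧ finrank k (S.Eg 2) = 2 ∧ ∃ a ∈ S.Eg 1, ∃ b ∈ S.Eg 1, a * a = 0 ∧ b * b = 0 ∧
      (∀ x ∈ S.Eg 1, ∃ c d : k, x = c • a + d • b) ∧
      (∀ x ∈ S.Eg 2, ∃ c d : k, x = c • (a * b) + d • (b * a)) ∧
      (∀ c d : k, c • (a * b * a) + d • (b * a * b) = 0 → c = 0 ∧ d = 0) := by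
  by_cases hA : ∃ y : S.Eg 1, Function.Surjective (S.prodL y)
  swap
  · push Not at hA
    exact (S.rank_small (by omega) he hA).elim
  obtain ⟨⟨y, hy1⟩, hyS⟩ := hA
  have hy : ∀ u ∈ S.Eg 2, ∃ b ∈ S.Eg 1, u = y * b := by
    intro u hu
    obtain ⟨b, hb⟩ := hyS ⟨u, hu⟩
    exact ⟨b, b.2, (congrArg Subtype.val hb).symm⟩
  have hL1 : ∀ {u : E}, u ∈ S.Eg 1 → y * u = 0 → u = 0 :=
    fun hu h => S.left_inj hy1 hy (j := 1) le_rfl (by omega) hu h
  have hL2 : ∀ {u : E}, u ∈ S.Eg 2 → y * u = 0 → u = 0 :=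
    fun hu h => S.left_inj hy1 hy (j := 2) (by omega) (by omega) hu h
  have hb2 : S.Eg 2 ≠ ⊥ := S.eg_ne_bot (by omega) (by omega)
  have hb3 : S.Eg 3 ≠ ⊥ := S.eg_ne_bot (by omega) (by omega)
  have hy0 : y ≠ 0 := by
    rintro rfl
    apply hb2
    rw [eq_bot_iff]
    intro u hu
    obtain ⟨b, -, rfl⟩ := hy u hu
    simp
  have hn2 : finrank k (S.Eg 1) = 2 := by
    by_contra hne
    have hle1 : finrank k (S.Eg 1) ≤ 1 := by omega
    have hone : ∀ x ∈ S.Eg 1, ∃ c : k, x = c • y := by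
      intro x hx
      have hne0 : (⟨y, hy1⟩ : S.Eg 1) ≠ 0 := fun h => hy0 (congrArg Subtype.val h)
      haveI : Nontrivial (S.Eg 1) := ⟨⟨_, _, hne0⟩⟩
      have h1 : finrank k (S.Eg 1) = 1 := le_antisymm hle1 (Nat.one_le_iff_ne_zero.mpr (by
        exact finrank_pos.ne'))
      obtain ⟨c, hc'⟩ := (finrank_eq_one_iff_of_nonzero' (⟨y, hy1⟩ : S.Eg 1) hne0).mp h1 ⟨x, hx⟩
      exact ⟨c, (congrArg Subtype.val hc').symm⟩
    apply hb3
    rw [eq_bot_iff]
    refine (hc 2 le_rfl (by omega)).trans ?_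
    rw [Submodule.span_le]
    rintro s ⟨a, ha, b, hb, rfl⟩
    obtain ⟨c, rfl⟩ := hone a ha
    obtain ⟨b', hb', rfl⟩ := hy b hb
    obtain ⟨d, rfl⟩ := hone b' hb'
    simp [smul_smul, mul_assoc, mul_comm c d]
  obtain ⟨τ, m, hτ, hab, hl, hr, hassoc, hcompat⟩ := S.exists_dstr hy1 hy ht
  obtain ⟨a0, a1, hsum, hsp, hτ0, hτ1, hm0, hm1, hind⟩ := Chars.orbit2 hn2 m ⟨y, hy1⟩ hl hr hassoc τ hcompat
    (S.span3 hy1 hy ht (hc 2 le_rfl (by omega)) hτ hab)
  have hsumE : y = (a0 : E) + a1 := congrArg Subtype.val hsum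
  have h00 : (a0 : E) * a0 = 0 := by
    rw [hab, hm0]
    simp
  have h11 : (a1 : E) * a1 = 0 := by
    rw [hab, hm1]
    simp
  have hya0 : y * a0 = a1 * a0 := by
    rw [hsumE, add_mul, h00, zero_add]
  have hya1 : y * a1 = a0 * a1 := by
    rw [hsumE, add_mul, h11, add_zero]
  have hcomm0 : (a0 : E) * y = y * a1 := by
    rw [hτ, hτ0]
  have hcomm1 : (a1 : E) * y = y * a0 := by
    rw [hτ, hτ1]
  have ht4 : t = 4 := by
    by_contra hne
    have ht5 : 5 ≤ t := by omega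
    have hcomm : ∀ x ∈ S.Eg 1, y ^ 2 * x = x * y ^ 2 := by
      intro x hx
      obtain ⟨c0, c1, e⟩ := hsp ⟨x, hx⟩
      have e' : x = c0 • (a0 : E) + c1 • (a1 : E) := congrArg Subtype.val e
      have h0 : y ^ 2 * (a0 : E) = a0 * y ^ 2 := by
        rw [pow_two, mul_assoc, ← hcomm1, ← mul_assoc, ← hcomm0, mul_assoc]
      have h1 : y ^ 2 * (a1 : E) = a1 * y ^ 2 := by
        rw [pow_two, mul_assoc, ← hcomm0, ← mul_assoc, ← hcomm1, mul_assoc]
      rw [e', mul_add, add_mul, mul_smul_comm, mul_smul_comm, smul_mul_assoc, smul_mul_assoc, h0, h1]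
    have hy2 : y ^ 2 ∈ S.Eg 2 := S.pow_mem_eg hy1 1
    have hy20 : y ^ 2 = 0 := by
      refine S.nd (by omega) hy2 fun v hv => ?_
      have e : t - 2 = (t - 3) + 1 := by omega
      rw [e] at hv
      have hv' := hc (t - 3) (by omega) (by omega) hv
      refine Submodule.span_induction (p := fun v _ => S.lam (y ^ 2 * v) = 0) ?_ ?_ ?_ ?_ hv'
      · rintro s ⟨x, hx, b, hb, rfl⟩
        have h1 : y ^ 2 * b ∈ S.Eg (2 + (t - 3)) := S.mul_mem hy2 hb
        have h2 := S.tr (i := 1) (j := 2 + (t - 3)) (by omega) hx h1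
        rw [mul_sub, map_sub, sub_eq_zero, ← mul_assoc, hcomm x hx, mul_assoc, h2, mul_assoc]
      · simp
      · intro u v _ _ hu hv
        rw [mul_add, map_add, hu, hv, add_zero]
      · intro c u _ hu
        rw [mul_smul_comm, map_smul, hu, smul_zero]
    rw [pow_two] at hy20
    exact hy0 (hL1 hy1 hy20)
  have hn22 : finrank k (S.Eg 2) = 2 := by
    have h0 : finrank k (S.Eg 1) = finrank k (S.Eg (1 + 1)) := S.finrank_eq_succ hy1 hy (j := 1) le_rfl (by omega)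
    rw [hn2] at h0
    exact h0.symm
  refine ⟨ht4, hn2, hn22, a0, a0.2, a1, a1.2, h00, h11, ?_, ?_, ?_⟩
  · intro x hx
    obtain ⟨c0, c1, e⟩ := hsp ⟨x, hx⟩
    exact ⟨c0, c1, congrArg Subtype.val e⟩
  · intro x hx
    obtain ⟨b, hb, rfl⟩ := hy x hx
    obtain ⟨c0, c1, e⟩ := hsp ⟨b, hb⟩
    have e' : b = c0 • (a0 : E) + c1 • (a1 : E) := congrArg Subtype.val e
    refine ⟨c1, c0, ?_⟩
    rw [e', mul_add, mul_smul_comm, mul_smul_comm, hya0, hya1, add_comm]
  · intro c d h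
    have hLI := LinearIndependent.pair_iff.mp hind
    have h1 : y * (y * ((c • a0 + d • a1 : S.Eg 1) : E)) = c • ((a0 : E) * a1 * a0) + d • ((a1 : E) * a0 * a1) := by
      have e1 : y * ((a1 : E) * a0) = a0 * a1 * a0 := by
        rw [← mul_assoc, hya1]
      have e2 : y * ((a0 : E) * a1) = a1 * a0 * a1 := by
        rw [← mul_assoc, hya0]
      have e0 : y * ((c • a0 + d • a1 : S.Eg 1) : E) = c • ((a1 : E) * a0) + d • ((a0 : E) * a1) := by
        rw [Submodule.coe_add, Submodule.coe_smul, Submodule.coe_smul, mul_add, mul_smul_comm, mul_smul_comm,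
          hya0, hya1]
      rw [e0, mul_add, mul_smul_comm, mul_smul_comm, e1, e2]
    rw [h] at h1
    have h6 : y * ((c • a0 + d • a1 : S.Eg 1) : E) ∈ S.Eg 2 := S.mul_mem hy1 (c • a0 + d • a1).2
    have h2 := hL1 (c • a0 + d • a1).2 (hL2 h6 h1)
    have h3 : c • a0 + d • a1 = 0 := Subtype.ext h2
    exact hLI c d h3

end GS

end Cfsg.Agent.Lib.KS84
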