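import Mathlib
import Cfsg.Agent.Lib.KS84.GS

/-!
# The graded symmetric structure attached to a functional on a power of an ideal

For a subspace `J` of an algebra `A` and a functional `θ` vanishing above degree `r` and cyclic in total degree `r`,
the Rees construction yields a graded symmetric structure of total degree `r`.
-/

set_option autoImplicit false
set_option linter.unusedSectionVars false
set_option linter.style.haveILetI false

namespace Cfsg.Agent.Lib.KS84.Rees

open Module Polynomial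

noncomputable section

variable {k A : Type*} [Field k] [Ring A] [Algebra k A]

/-- The data of the Rees construction. -/
structure Data (k A : Type*) [Field k] [Ring A] [Algebra k A] where
  J : Submodule k A
  θ : A →ₗ[k] k
  r : ℕ
  hvan : ∀ m, r < m → ∀ a ∈ J ^ m, θ a = 0
  cyc : ∀ i j, i + j = r → ∀ u ∈ J ^ i, ∀ v ∈ J ^ j, θ (u * v) = θ (v * u)
  top : ∃ a ∈ J ^ r, θ a ≠ 0

/-- The commutators of `J` with `J ^ j`. -/
def Kc (J : Submodule k A) (j : ℕ) : Submodule k A :=
  Submodule.span k {s | ∃ x ∈ J, ∃ y ∈ J ^ j, s = x * y - y * x}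

namespace Data

variable (D : Data k A)

theorem pow_mul_mem {i j : ℕ} {a b : A} (ha : a ∈ D.J ^ i) (hb : b ∈ D.J ^ j) : a * b ∈ D.J ^ (i + j) := by
  rw [pow_add]
  exact Submodule.mul_mem_mul ha hb

/-- The radical of the graded form in degree `j`. -/
def Rr (j : ℕ) : Submodule k A where
  carrier := {a | a ∈ D.J ^ j ∧ ∀ b ∈ D.J ^ (D.r - j), D.θ (a * b) = 0}
  add_mem' := by
    rintro a b ⟨ha, ha'⟩ ⟨hb, hb'⟩
    refine ⟨Submodule.add_mem _ ha hb, fun c hc => ?_⟩
    rw [add_mul, map_add, ha' c hc, hb' c hc, add_zero]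
  zero_mem' := ⟨Submodule.zero_mem _, fun c _ => by simp⟩
  smul_mem' := by
    rintro c a ⟨ha, ha'⟩
    refine ⟨Submodule.smul_mem _ c ha, fun b hb => ?_⟩
    rw [smul_mul_assoc, map_smul, ha' b hb, smul_zero]

theorem mem_Rr {j : ℕ} {a : A} : a ∈ D.Rr j ↔ a ∈ D.J ^ j ∧ ∀ b ∈ D.J ^ (D.r - j), D.θ (a * b) = 0 := Iff.rfl

theorem Rr_mul_right {i j : ℕ} {a b : A} (ha : a ∈ D.Rr i) (hb : b ∈ D.J ^ j) : a * b ∈ D.Rr (i + j) := by
  refine ⟨D.pow_mul_mem ha.1 hb, fun c hc => ?_⟩
  by_cases h : i + j ≤ D.r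
  · rw [mul_assoc]
    refine ha.2 _ ?_
    have := D.pow_mul_mem hb hc
    have e : j + (D.r - (i + j)) = D.r - i := by omega
    rwa [e] at this
  · have e : D.r - (i + j) = 0 := by omega
    rw [e, pow_zero] at hc
    obtain ⟨γ, rfl⟩ := Submodule.mem_one.mp hc
    have h1 := D.hvan (i + j) (by omega) (a * b) (D.pow_mul_mem ha.1 hb)
    rw [← Algebra.commutes, ← Algebra.smul_def, map_smul, h1, smul_zero]

theorem Rr_mul_left {i j : ℕ} {a b : A} (ha : a ∈ D.J ^ i) (hb : b ∈ D.Rr j) : a * b ∈ D.Rr (i + j) := by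
  refine ⟨D.pow_mul_mem ha hb.1, fun c hc => ?_⟩
  by_cases h : i + j ≤ D.r
  · have h1 : b * c ∈ D.J ^ (D.r - i) := by
      have := D.pow_mul_mem hb.1 hc
      have e : j + (D.r - (i + j)) = D.r - i := by omega
      rwa [e] at this
    rw [mul_assoc, D.cyc i (D.r - i) (by omega) a ha _ h1, mul_assoc]
    refine hb.2 _ ?_
    have := D.pow_mul_mem hc ha
    have e : D.r - (i + j) + i = D.r - j := by omega
    rwa [e] at this
  · have e : D.r - (i + j) = 0 := by omega
    rw [e, pow_zero] at hc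
    obtain ⟨γ, rfl⟩ := Submodule.mem_one.mp hc
    have h1 := D.hvan (i + j) (by omega) (a * b) (D.pow_mul_mem ha hb.1)
    rw [← Algebra.commutes, ← Algebra.smul_def, map_smul, h1, smul_zero]

/-- The Rees algebra. -/
def RA : Subalgebra k A[X] where
  carrier := {p | ∀ i, p.coeff i ∈ D.J ^ i}
  mul_mem' := by
    intro p q hp hq n
    rw [coeff_mul]
    refine Submodule.sum_mem _ fun x hx => ?_
    have h1 := D.pow_mul_mem (hp x.1) (hq x.2)
    rwa [Finset.HasAntidiagonal.mem_antidiagonal.mp hx] at h1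
  add_mem' := by
    intro p q hp hq n
    rw [coeff_add]
    exact Submodule.add_mem _ (hp n) (hq n)
  algebraMap_mem' := by
    intro c n
    rw [Polynomial.algebraMap_apply, coeff_C]
    split_ifs with h
    · subst h
      rw [pow_zero]
      exact Submodule.algebraMap_mem c
    · exact Submodule.zero_mem _

/-- The congruence by the radicals. -/
def con : RingCon D.RA where
  r p q := ∀ i, ((p : A[X]) - q).coeff i ∈ D.Rr i
  iseqv := {
    refl := fun p i => by simp
    symm := fun {p q} h i => by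
      have := Submodule.neg_mem _ (h i)
      rwa [← coeff_neg, neg_sub] at this
    trans := fun {p q r} h1 h2 i => by
      have := Submodule.add_mem _ (h1 i) (h2 i)
      rwa [← coeff_add, sub_add_sub_cancel] at this }
  mul' := by
    intro p p' q q' h1 h2 n
    have e : ((p * q : D.RA) : A[X]) - ((p' * q' : D.RA) : A[X]) =
        ((p : A[X]) - p') * q + (p' : A[X]) * ((q : A[X]) - q') := by
      simp only [MulMemClass.coe_mul]
      noncomm_ring
    rw [e, coeff_add, coeff_mul, coeff_mul]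
    refine Submodule.add_mem _ (Submodule.sum_mem _ fun x hx => ?_) (Submodule.sum_mem _ fun x hx => ?_)
    · have h3 := D.Rr_mul_right (h1 x.1) (q.2 x.2)
      rwa [Finset.HasAntidiagonal.mem_antidiagonal.mp hx] at h3
    · have h3 := D.Rr_mul_left (p'.2 x.1) (h2 x.2)
      rwa [Finset.HasAntidiagonal.mem_antidiagonal.mp hx] at h3
  add' := by
    intro p p' q q' h1 h2 n
    have e : ((p + q : D.RA) : A[X]) - ((p' + q' : D.RA) : A[X]) =
        ((p : A[X]) - p') + ((q : A[X]) - q') := by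
      simp only [AddMemClass.coe_add]
      abel
    rw [e, coeff_add]
    exact Submodule.add_mem _ (h1 n) (h2 n)

/-- The graded algebra. -/
def Et : Type _ := D.con.Quotient

instance : Ring D.Et := inferInstanceAs (Ring D.con.Quotient)

instance : Algebra k D.Et := inferInstanceAs (Algebra k D.con.Quotient)

/-- The quotient map as a linear map. -/
def pr : D.RA →ₗ[k] D.Et where
  toFun p := (p : D.con.Quotient)
  map_add' _ _ := rfl
  map_smul' _ _ := rfl

theorem pr_mul (p q : D.RA) : D.pr (p * q) = D.pr p * D.pr q := rfl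

theorem pr_one : D.pr 1 = 1 := rfl

theorem pr_eq {p q : D.RA} : D.pr p = D.pr q ↔ D.con p q := RingCon.eq _

/-- The inclusion of degree `j` into the Rees algebra. -/
def mono (j : ℕ) : (D.J ^ j : Submodule k A) →ₗ[k] D.RA where
  toFun a := ⟨monomial j (a : A), fun i => by
    rw [coeff_monomial]
    split_ifs with h
    · subst h
      exact a.2
    · exact Submodule.zero_mem _⟩
  map_add' a b := Subtype.ext (by simp)
  map_smul' c a := Subtype.ext (by
    simp only [Submodule.coe_smul, RingHom.id_apply, SetLike.val_smul]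
    ext n
    simp [coeff_monomial])

/-- The degree `j` map. -/
def iota (j : ℕ) : (D.J ^ j : Submodule k A) →ₗ[k] D.Et := D.pr ∘ₗ D.mono j

theorem iota_mul {i j : ℕ} (a : (D.J ^ i : Submodule k A)) (b : (D.J ^ j : Submodule k A)) :
    D.iota i a * D.iota j b = D.iota (i + j) ⟨(a : A) * b, D.pow_mul_mem a.2 b.2⟩ := by
  change D.pr (D.mono i a) * D.pr (D.mono j b) = D.pr (D.mono (i + j) _)
  rw [← pr_mul]
  congr 1
  apply Subtype.ext
  simp [mono, monomial_mul_monomial]

theorem iota_eq_zero_of_mem {j : ℕ} (a : (D.J ^ j : Submodule k A)) (h : (a : A) ∈ D.Rr j) : D.iota j a = 0 := by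
  rw [iota, LinearMap.comp_apply, ← map_zero D.pr, pr_eq]
  intro i
  have e : (((D.mono j a : D.RA) : A[X]) - ((0 : D.RA) : A[X])).coeff i = if j = i then (a : A) else 0 := by
    simp [mono, coeff_monomial]
  rw [e]
  split_ifs with hi
  · subst hi
    exact h
  · exact Submodule.zero_mem _

/-- The form on the graded algebra. -/
def lam : D.Et →ₗ[k] k where
  toFun x := Quotient.liftOn' (show D.con.Quotient from x) (fun p : D.RA => D.θ ((p : A[X]).coeff D.r)) (by
    intro p q h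
    have h1 : D.θ (((p : A[X]) - q).coeff D.r) = 0 := by
      have h2 := (h D.r).2 1 (by
        rw [Nat.sub_self, pow_zero]
        exact Submodule.one_le.mp le_rfl)
      rwa [mul_one] at h2
    rw [coeff_sub, map_sub, sub_eq_zero] at h1
    exact h1)
  map_add' := by
    intro x y
    obtain ⟨p, rfl⟩ : ∃ p, x = D.pr p := ⟨_, (Quotient.out_eq' (show D.con.Quotient from x)).symm⟩
    obtain ⟨q, rfl⟩ : ∃ q, y = D.pr q := ⟨_, (Quotient.out_eq' (show D.con.Quotient from y)).symm⟩
    change D.θ (((p + q : D.RA) : A[X]).coeff D.r) = D.θ ((p : A[X]).coeff D.r) + D.θ ((q : A[X]).coeff D.r)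
    simp only [AddMemClass.coe_add, coeff_add, map_add]
  map_smul' := by
    intro c x
    obtain ⟨p, rfl⟩ : ∃ p, x = D.pr p := ⟨_, (Quotient.out_eq' (show D.con.Quotient from x)).symm⟩
    change D.θ (((c • p : D.RA) : A[X]).coeff D.r) = c • D.θ ((p : A[X]).coeff D.r)
    simp only [SetLike.val_smul, coeff_smul, map_smul]

theorem lam_iota (j : ℕ) (a : (D.J ^ j : Submodule k A)) :
    D.lam (D.iota j a) = D.θ ((monomial j (a : A)).coeff D.r) := rfl

theorem lam_iota_eq {j : ℕ} (h : j = D.r) (a : (D.J ^ j : Submodule k A)) : D.lam (D.iota j a) = D.θ a := by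
  rw [lam_iota, coeff_monomial, if_pos h]

theorem iota_eq_zero_iff {j : ℕ} (a : (D.J ^ j : Submodule k A)) : D.iota j a = 0 ↔ (a : A) ∈ D.Rr j := by
  refine ⟨fun h => ?_, D.iota_eq_zero_of_mem a⟩
  have h1 : D.pr (D.mono j a) = D.pr 0 := by rw [map_zero]; exact h
  rw [pr_eq] at h1
  have h2 := h1 j
  simpa [mono] using h2

theorem iota_congr {i j : ℕ} (h : i = j) (a : A) (ha : a ∈ D.J ^ i) (hb : a ∈ D.J ^ j) :
    D.iota i ⟨a, ha⟩ = D.iota j ⟨a, hb⟩ := by
  subst h
  rfl

theorem Rr_of_high {j : ℕ} (hj : j ≤ D.r) {a : A} (ha : a ∈ D.J ^ j) (ha' : a ∈ D.J ^ (j + 1)) : a ∈ D.Rr j := by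
  refine ⟨ha, fun b hb => ?_⟩
  refine D.hvan (j + 1 + (D.r - j)) (by omega) _ (D.pow_mul_mem ha' hb)

/-- The graded symmetric structure of the data. -/
def toGS [FiniteDimensional k A] : GS k D.Et D.r where
  Eg j := LinearMap.range (D.iota j)
  lam := D.lam
  mul_mem := by
    rintro i j _ _ ⟨a, rfl⟩ ⟨b, rfl⟩
    rw [iota_mul]
    exact ⟨_, rfl⟩
  fd j := inferInstance
  zero_le := by
    rintro _ ⟨⟨a, ha⟩, rfl⟩
    have ha' := ha
    rw [pow_zero] at ha'
    obtain ⟨γ, rfl⟩ := Submodule.mem_one.mp ha'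
    have e : D.iota 0 ⟨algebraMap k A γ, ha⟩ = γ • (1 : D.Et) := by
      have e1 : (⟨algebraMap k A γ, ha⟩ : (D.J ^ 0 : Submodule k A)) =
          γ • (⟨1, by rw [pow_zero]; exact Submodule.one_le.mp le_rfl⟩ : (D.J ^ 0 : Submodule k A)) := by
        apply Subtype.ext
        simp [Algebra.smul_def]
      rw [e1, map_smul]
      congr 1
    rw [e]
    exact Submodule.smul_mem _ _ (Submodule.mem_span_singleton_self _)
  genL := by
    intro j hj
    set Sp := Submodule.span k {s : D.Et | ∃ a ∈ LinearMap.range (D.iota 1), ∃ b ∈ LinearMap.range (D.iota j), s = a * b} with hSp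
    have hU : D.J * D.J ^ j ≤ (Sp.comap (D.iota (j + 1))).map (D.J ^ (j + 1)).subtype := by
      rw [Submodule.mul_le]
      intro x hx y hy
      have hx1 : x ∈ D.J ^ 1 := by rwa [pow_one]
      have hxy : x * y ∈ D.J ^ (j + 1) := by
        rw [pow_succ']
        exact Submodule.mul_mem_mul hx hy
      refine ⟨⟨x * y, hxy⟩, ?_, rfl⟩
      refine Submodule.subset_span ⟨D.iota 1 ⟨x, hx1⟩, ⟨_, rfl⟩, D.iota j ⟨y, hy⟩, ⟨_, rfl⟩, ?_⟩
      rw [iota_mul]
      exact D.iota_congr (by omega) _ _ _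
    rintro _ ⟨⟨a, ha⟩, rfl⟩
    obtain ⟨a', ha', e⟩ := hU (by rwa [← pow_succ'])
    have e' : a' = ⟨a, ha⟩ := Subtype.ext e
    rw [← e']
    exact ha'
  genR := by
    intro j hj
    set Sp := Submodule.span k {s : D.Et | ∃ a ∈ LinearMap.range (D.iota j), ∃ b ∈ LinearMap.range (D.iota 1), s = a * b} with hSp
    have hU : D.J ^ j * D.J ≤ (Sp.comap (D.iota (j + 1))).map (D.J ^ (j + 1)).subtype := by
      rw [Submodule.mul_le]
      intro x hx y hy
      have hy1 : y ∈ D.J ^ 1 := by rwa [pow_one]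
      have hxy : x * y ∈ D.J ^ (j + 1) := by
        rw [pow_succ]
        exact Submodule.mul_mem_mul hx hy
      refine ⟨⟨x * y, hxy⟩, ?_, rfl⟩
      refine Submodule.subset_span ⟨D.iota j ⟨x, hx⟩, ⟨_, rfl⟩, D.iota 1 ⟨y, hy1⟩, ⟨_, rfl⟩, ?_⟩
      rw [iota_mul]
    rintro _ ⟨⟨a, ha⟩, rfl⟩
    obtain ⟨a', ha', e⟩ := hU (by rwa [← pow_succ])
    have e' : a' = ⟨a, ha⟩ := Subtype.ext e
    rw [← e']
    exact ha'
  tr := by
    rintro i j _ _ h ⟨a, rfl⟩ ⟨b, rfl⟩
    rw [iota_mul, iota_mul, lam_iota_eq D h, lam_iota_eq D (by omega)]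
    exact D.cyc i j h a a.2 b b.2
  nd := by
    rintro i _ hi ⟨a, rfl⟩ h
    refine D.iota_eq_zero_of_mem a ⟨a.2, fun b hb => ?_⟩
    have h1 := h (D.iota (D.r - i) ⟨b, hb⟩) ⟨_, rfl⟩
    rw [iota_mul, lam_iota_eq D (by omega)] at h1
    exact h1
  top := by
    obtain ⟨a, ha, hθ⟩ := D.top
    intro h
    have h1 : D.iota D.r ⟨a, ha⟩ ∈ (⊥ : Submodule k D.Et) := by
      rw [← h]
      exact ⟨_, rfl⟩
    rw [Submodule.mem_bot] at h1
    have h2 := D.lam_iota_eq rfl ⟨a, ha⟩
    rw [h1, map_zero] at h2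
    exact hθ h2.symm

@[simp] theorem toGS_Eg [FiniteDimensional k A] (j : ℕ) : D.toGS.Eg j = LinearMap.range (D.iota j) := rfl

/-- The commutator hypothesis from a statement in the algebra. -/
theorem hc_of [FiniteDimensional k A] {j : ℕ} (hj : j + 1 ≤ D.r) (hsub : D.J ^ (j + 2) ≤ D.J ^ (j + 1))
    (h : D.J ^ (j + 1) ≤ Kc D.J j ⊔ D.J ^ (j + 2)) : D.toGS.HC j := by
  set Sp := Submodule.span k {s : D.Et | ∃ a ∈ LinearMap.range (D.iota 1), ∃ b ∈ LinearMap.range (D.iota j), s = a * b - b * a}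
    with hSp
  have hU : Kc D.J j ≤ (Sp.comap (D.iota (j + 1))).map (D.J ^ (j + 1)).subtype := by
    rw [Kc, Submodule.span_le]
    rintro _ ⟨x, hx, y, hy, rfl⟩
    have hx1 : x ∈ D.J ^ 1 := by rwa [pow_one]
    have hxy : x * y ∈ D.J ^ (j + 1) := by
      rw [pow_succ']
      exact Submodule.mul_mem_mul hx hy
    have hyx : y * x ∈ D.J ^ (j + 1) := by
      rw [pow_succ]
      exact Submodule.mul_mem_mul hy hx
    refine ⟨⟨x * y, hxy⟩ - ⟨y * x, hyx⟩, ?_, rfl⟩
    refine Submodule.subset_span ⟨D.iota 1 ⟨x, hx1⟩, ⟨_, rfl⟩, D.iota j ⟨y, hy⟩, ⟨_, rfl⟩, ?_⟩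
    rw [map_sub, iota_mul, iota_mul]
    have e := D.iota_congr (i := j + 1) (j := 1 + j) (by omega) (x * y) hxy (D.pow_mul_mem hx1 hy)
    rw [e]
  change LinearMap.range (D.iota (j + 1)) ≤ _
  rintro _ ⟨⟨a, ha⟩, rfl⟩
  obtain ⟨p, hp, q, hq, rfl⟩ := Submodule.mem_sup.mp (h ha)
  obtain ⟨p', hp', e⟩ := hU hp
  have hq1 : q ∈ D.J ^ (j + 1) := hsub hq
  have e1 : (⟨p + q, ha⟩ : (D.J ^ (j + 1) : Submodule k A)) = p' + ⟨q, hq1⟩ := by
    apply Subtype.ext
    simp [← e]
  have hq0 : D.iota (j + 1) ⟨q, hq1⟩ = 0 := D.iota_eq_zero_of_mem _ (D.Rr_of_high hj hq1 hq)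
  rw [e1, map_add, hq0, add_zero]
  exact hp'

/-- A bound for the rank in degree `j` by the number of generators. -/
theorem finrank_Eg_le [FiniteDimensional k A] {j n : ℕ} (v : Fin n → (D.J ^ j : Submodule k A))
    (h : ∀ a ∈ D.J ^ j, ∃ c : Fin n → k, a - ∑ i, c i • (v i : A) ∈ D.Rr j) : finrank k (D.toGS.Eg j) ≤ n := by
  have hle : D.toGS.Eg j ≤ Submodule.span k (Set.range fun i => D.iota j (v i)) := by
    change LinearMap.range (D.iota j) ≤ _
    rintro _ ⟨⟨a, ha⟩, rfl⟩
    obtain ⟨c, hc⟩ := h a ha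
    have e : (⟨a, ha⟩ : (D.J ^ j : Submodule k A)) = (⟨a, ha⟩ - ∑ i, c i • v i) + ∑ i, c i • v i := by
      abel
    have h0 : D.iota j (⟨a, ha⟩ - ∑ i, c i • v i) = 0 := by
      apply D.iota_eq_zero_of_mem
      simpa using hc
    rw [e, map_add, h0, zero_add, map_sum]
    refine Submodule.sum_mem _ fun i _ => ?_
    rw [map_smul]
    exact Submodule.smul_mem _ _ (Submodule.subset_span ⟨i, rfl⟩)
  haveI : FiniteDimensional k (Submodule.span k (Set.range fun i => D.iota j (v i))) :=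
    FiniteDimensional.span_of_finite k (Set.finite_range _)
  refine (Submodule.finrank_mono hle).trans ?_
  refine (finrank_range_le_card _).trans ?_
  simp

/-- The rank in degree `j` is the codimension of the radical. -/
theorem finrank_Eg_add [FiniteDimensional k A] {j : ℕ} (hle : D.Rr j ≤ D.J ^ j) :
    finrank k (D.toGS.Eg j) + finrank k (D.Rr j) = finrank k (D.J ^ j : Submodule k A) := by
  have h1 : finrank k (LinearMap.range (D.iota j)) + finrank k (LinearMap.ker (D.iota j)) =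
      finrank k (D.J ^ j : Submodule k A) := LinearMap.finrank_range_add_finrank_ker _
  have h2 : finrank k (LinearMap.ker (D.iota j)) = finrank k (D.Rr j) := by
    have e : (LinearMap.ker (D.iota j)).map (D.J ^ j).subtype = D.Rr j := by
      ext a
      constructor
      · rintro ⟨b, hb, rfl⟩
        exact (D.iota_eq_zero_iff b).mp hb
      · intro ha
        exact ⟨⟨a, hle ha⟩, (D.iota_eq_zero_iff _).mpr ha, rfl⟩
    rw [← e]
    exact (LinearEquiv.finrank_eq (Submodule.equivMapOfInjective _ (Submodule.subtype_injective _) _))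
  rw [← h2]
  exact h1

end Data

end

end Cfsg.Agent.Lib.KS84.Rees
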