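import Mathlib
import Cfsg.Agent.Lib.KS84.Rees

/-!
# Local symmetric algebras: preliminaries
-/

set_option autoImplicit false
set_option linter.unusedSectionVars false
set_option linter.style.haveILetI false

namespace Cfsg.Agent.Lib.KS84

open Module

open Rees (Kc)

variable {k A : Type*} [Field k] [Ring A] [Algebra k A]

/-- A local symmetric algebra. -/
structure LSA (k A : Type*) [Field k] [Ring A] [Algebra k A] where
  J : Submodule k A
  lam : A →ₗ[k] k
  J_mul : ∀ a ∈ J, ∀ b, a * b ∈ J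
  mul_J : ∀ a ∈ J, ∀ b, b * a ∈ J
  split : ∀ a : A, ∃ c : k, a - algebraMap k A c ∈ J
  one_not : (1 : A) ∉ J
  nil : ∃ n, J ^ n = ⊥
  sym : ∀ a b, lam (a * b) = lam (b * a)
  nd : ∀ a, (∀ b, lam (a * b) = 0) → a = 0

namespace LSA

variable (L : LSA k A)

theorem pm {i j : ℕ} {a b : A} (ha : a ∈ L.J ^ i) (hb : b ∈ L.J ^ j) : a * b ∈ L.J ^ (i + j) := by
  rw [pow_add]
  exact Submodule.mul_mem_mul ha hb

theorem pm' {i j n : ℕ} (h : i + j = n) {a b : A} (ha : a ∈ L.J ^ i) (hb : b ∈ L.J ^ j) : a * b ∈ L.J ^ n := by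
  rw [← h]
  exact L.pm ha hb

theorem pow_J_mul {j : ℕ} (hj : 1 ≤ j) {a : A} (ha : a ∈ L.J ^ j) (b : A) : a * b ∈ L.J ^ j := by
  induction j, hj using Nat.le_induction generalizing a b with
  | base =>
    rw [pow_one] at ha ⊢
    exact L.J_mul a ha b
  | succ j hj ih =>
    have h1 : L.J ^ j * L.J ≤ (L.J ^ (j + 1)).comap (LinearMap.mulRight k b) := by
      rw [Submodule.mul_le]
      intro x hx y hy
      rw [Submodule.mem_comap, LinearMap.mulRight_apply, mul_assoc, pow_succ]
      exact Submodule.mul_mem_mul hx (L.J_mul y hy b)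
    rw [pow_succ] at ha
    exact h1 ha

theorem pow_mul_J {j : ℕ} (hj : 1 ≤ j) {a : A} (ha : a ∈ L.J ^ j) (b : A) : b * a ∈ L.J ^ j := by
  induction j, hj using Nat.le_induction generalizing a b with
  | base =>
    rw [pow_one] at ha ⊢
    exact L.mul_J a ha b
  | succ j hj ih =>
    have h1 : L.J * L.J ^ j ≤ (L.J ^ (j + 1)).comap (LinearMap.mulLeft k b) := by
      rw [Submodule.mul_le]
      intro x hx y hy
      rw [Submodule.mem_comap, LinearMap.mulLeft_apply, ← mul_assoc, pow_succ']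
      exact Submodule.mul_mem_mul (L.mul_J x hx b) hy
    rw [pow_succ'] at ha
    exact h1 ha

theorem pow_succ_le {j : ℕ} (hj : 1 ≤ j) : L.J ^ (j + 1) ≤ L.J ^ j := by
  rw [pow_succ, Submodule.mul_le]
  intro x hx y _
  exact L.pow_J_mul hj hx y

theorem pow_anti {i j : ℕ} (hi : 1 ≤ i) (hij : i ≤ j) : L.J ^ j ≤ L.J ^ i := by
  induction j, hij using Nat.le_induction with
  | base => exact le_rfl
  | succ j hj ih => exact (L.pow_succ_le (by omega)).trans ih

theorem pow_eq_bot_of_le {i j : ℕ} (hi : 1 ≤ i) (hij : i ≤ j) (h : L.J ^ i = ⊥) : L.J ^ j = ⊥ := by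
  rw [eq_bot_iff, ← h]
  exact L.pow_anti hi hij

theorem mem_J_of_pow {j : ℕ} (hj : 1 ≤ j) {a : A} (ha : a ∈ L.J ^ j) : a ∈ L.J := by
  have := L.pow_anti le_rfl hj ha
  rwa [pow_one] at this

/-- The orthogonal of a subspace. -/
def perp (S : Submodule k A) : Submodule k A where
  carrier := {a | ∀ s ∈ S, L.lam (a * s) = 0}
  add_mem' := by
    intro a b ha hb s hs
    rw [add_mul, map_add, ha s hs, hb s hs, add_zero]
  zero_mem' := fun s _ => by simp
  smul_mem' := by
    intro c a ha s hs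
    rw [smul_mul_assoc, map_smul, ha s hs, smul_zero]

theorem mem_perp {S : Submodule k A} {a : A} : a ∈ L.perp S ↔ ∀ s ∈ S, L.lam (a * s) = 0 := Iff.rfl

/-- The trace form. -/
def form : LinearMap.BilinForm k A := (LinearMap.mul k A).compr₂ L.lam

theorem form_apply (a b : A) : L.form a b = L.lam (a * b) := rfl

theorem form_nondeg [FiniteDimensional k A] : L.form.Nondegenerate := by
  have hl : LinearMap.SeparatingLeft L.form := by
    intro a h
    exact L.nd a h
  refine ⟨hl, ?_⟩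
  intro a h
  refine L.nd a fun b => ?_
  rw [L.sym]
  exact h b

theorem finrank_perp [FiniteDimensional k A] (S : Submodule k A) :
    finrank k (L.perp S) + finrank k S = finrank k A := by
  have h1 := LinearMap.BilinForm.finrank_orthogonal L.form_nondeg S
  have h2 : L.form.orthogonal S = L.perp S := by
    ext a
    constructor
    · intro h s hs
      rw [L.sym]
      exact h s hs
    · intro h s hs
      change L.lam (s * a) = 0
      rw [L.sym]
      exact h s hs
  rw [h2] at h1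
  have h3 := Submodule.finrank_le S
  omega

theorem finrank_J [FiniteDimensional k A] : finrank k L.J + 1 = finrank k A := by
  have h0 : (1 : A) ≠ 0 := fun h => L.one_not (h ▸ L.J.zero_mem)
  have h1 := Submodule.finrank_sup_add_finrank_inf_eq L.J (Submodule.span k {(1 : A)})
  have h2 : L.J ⊔ Submodule.span k {(1 : A)} = ⊤ := by
    rw [eq_top_iff]
    intro a _
    obtain ⟨c, hc⟩ := L.split a
    have e : a = (a - algebraMap k A c) + c • 1 := by
      rw [Algebra.algebraMap_eq_smul_one]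
      abel
    rw [e]
    exact Submodule.add_mem_sup hc (Submodule.smul_mem _ _ (Submodule.mem_span_singleton_self _))
  have h3 : L.J ⊓ Submodule.span k {(1 : A)} = ⊥ := by
    rw [eq_bot_iff]
    rintro a ⟨ha, ha'⟩
    obtain ⟨c, rfl⟩ := Submodule.mem_span_singleton.mp ha'
    by_cases hc : c = 0
    · simp [hc]
    · exfalso
      apply L.one_not
      have := L.J.smul_mem c⁻¹ ha
      rwa [smul_smul, inv_mul_cancel₀ hc, one_smul] at this
  rw [h2, h3, finrank_top, finrank_bot, finrank_span_singleton h0] at h1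
  omega

theorem exists_decomp_one (a : A) : ∃ c : k, ∃ a' ∈ L.J, a = c • 1 + a' := by
  obtain ⟨c, hc⟩ := L.split a
  refine ⟨c, _, hc, ?_⟩
  rw [Algebra.algebraMap_eq_smul_one]
  abel

/-- Commutators with a power lie in the next power. -/
theorem Kc_le (j : ℕ) : Kc L.J j ≤ L.J ^ (j + 1) := by
  rw [Kc, Submodule.span_le]
  rintro _ ⟨x, hx, y, hy, rfl⟩
  have hx1 : x ∈ L.J ^ 1 := by rwa [pow_one]
  exact Submodule.sub_mem _ (L.pm' (by omega) hx1 hy) (L.pm' (by omega) hy hx1)

theorem lam_Kc {j : ℕ} {s : A} (hs : s ∈ Kc L.J j) : L.lam s = 0 := by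
  have h : Kc L.J j ≤ LinearMap.ker L.lam := by
    rw [Kc, Submodule.span_le]
    rintro _ ⟨x, _, y, _, rfl⟩
    rw [SetLike.mem_coe, LinearMap.mem_ker, map_sub, L.sym, sub_self]
  exact h hs

theorem comm_mem_Kc' {j : ℕ} {x y : A} (hx : x ∈ L.J) (hy : y ∈ L.J ^ j) : x * y - y * x ∈ Kc L.J j :=
  Submodule.subset_span ⟨x, hx, y, hy, rfl⟩

theorem comm_mem_Kc'' {j : ℕ} {x y : A} (hx : x ∈ L.J) (hy : y ∈ L.J ^ j) : y * x - x * y ∈ Kc L.J j := by
  have := Submodule.neg_mem _ (L.comm_mem_Kc' hx hy)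
  rwa [neg_sub] at this

/-- **The bracket lemma**: `[J^{i+1}, J^{j+1}]` lies in `[J, J^{i+j+1}]`. -/
theorem comm_mem_Kc {i j : ℕ} {u v : A} (hu : u ∈ L.J ^ (i + 1)) (hv : v ∈ L.J ^ (j + 1)) :
    u * v - v * u ∈ Kc L.J (i + j + 1) := by
  induction i generalizing u v j with
  | zero =>
    rw [zero_add, pow_one] at hu
    have e : 0 + j + 1 = j + 1 := by omega
    rw [e]
    exact L.comm_mem_Kc' hu hv
  | succ i ih =>
    have h1 : L.J * L.J ^ (i + 1) ≤ (Kc L.J (i + 1 + j + 1)).comap ((LinearMap.mulRight k v) - (LinearMap.mulLeft k v)) := by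
      rw [Submodule.mul_le]
      intro a ha b hb
      rw [Submodule.mem_comap, LinearMap.sub_apply, LinearMap.mulRight_apply, LinearMap.mulLeft_apply]
      have e : a * b * v - v * (a * b) = (a * (b * v) - (b * v) * a) + (b * (v * a) - (v * a) * b) := by
        noncomm_ring
      rw [e]
      have ha1 : a ∈ L.J ^ 1 := by rwa [pow_one]
      refine Submodule.add_mem _ (L.comm_mem_Kc' ha (L.pm' (by omega) hb hv)) ?_
      have h2 := ih (j := j + 1) hb (L.pm (i := j + 1) (j := 1) hv ha1)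
      have e2 : i + (j + 1) + 1 = i + 1 + j + 1 := by omega
      rwa [e2] at h2
    rw [pow_succ'] at hu
    exact h1 hu

/-- Commutators of an element of `J^i` and an element of `J^j`, in the form that we need. -/
theorem comm_mem_Kc_of {i j n : ℕ} (hi : 1 ≤ i) (hj : 1 ≤ j) (hn : i + j = n + 1) {u v : A} (hu : u ∈ L.J ^ i)
    (hv : v ∈ L.J ^ j) : u * v - v * u ∈ Kc L.J n := by
  obtain ⟨i', rfl⟩ : ∃ i', i = i' + 1 := ⟨i - 1, by omega⟩
  obtain ⟨j', rfl⟩ : ∃ j', j = j' + 1 := ⟨j - 1, by omega⟩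
  have h := L.comm_mem_Kc hu hv
  have e : i' + j' + 1 = n := by omega
  rwa [e] at h

/-- The center is the orthogonal of the commutators. -/
theorem center_eq_perp : Subalgebra.toSubmodule (Subalgebra.center k A) = L.perp (Kc L.J 1) := by
  ext a
  constructor
  · intro ha
    have ha' : ∀ b, a * b = b * a := fun b => ((Subalgebra.mem_center_iff (R := k)).mp ha b).symm
    refine fun s hs => ?_
    have h1 : Kc L.J 1 ≤ LinearMap.ker (L.lam ∘ₗ LinearMap.mulLeft k a) := by
      rw [Kc, Submodule.span_le]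
      rintro _ ⟨x, _, y, _, rfl⟩
      rw [SetLike.mem_coe, LinearMap.mem_ker, LinearMap.comp_apply, LinearMap.mulLeft_apply, mul_sub, map_sub,
        sub_eq_zero, ← mul_assoc, ha' x, mul_assoc, L.sym x, mul_assoc]
    exact h1 hs
  · intro ha
    rw [Subalgebra.mem_toSubmodule, Subalgebra.mem_center_iff]
    intro b
    symm
    rw [← sub_eq_zero]
    refine L.nd _ fun c => ?_
    have e0 : L.lam ((a * b - b * a) * c) = L.lam (a * (b * c - c * b)) := by
      rw [sub_mul, mul_sub, map_sub, map_sub, mul_assoc, mul_assoc, L.sym b, mul_assoc]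
    rw [e0]
    obtain ⟨β, b', hb', rfl⟩ := L.exists_decomp_one b
    obtain ⟨γ, c', hc', rfl⟩ := L.exists_decomp_one c
    have e1 : (β • (1 : A) + b') * (γ • (1 : A) + c') - (γ • (1 : A) + c') * (β • (1 : A) + b') = b' * c' - c' * b' := by
      simp only [add_mul, mul_add, smul_mul_assoc, mul_smul_comm, one_mul, mul_one]
      module
    rw [e1]
    refine ha _ (L.comm_mem_Kc' hb' ?_)
    rwa [pow_one]

theorem finrank_center_add [FiniteDimensional k A] :
    finrank k (Subalgebra.toSubmodule (Subalgebra.center k A)) + finrank k (Kc L.J 1) = finrank k A := by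
  rw [L.center_eq_perp]
  exact L.finrank_perp _

/-- If the commutators vanish, the algebra is commutative, so the dimension is that of the center. -/
theorem finrank_of_Kc_eq_bot [FiniteDimensional k A] (h : Kc L.J 1 = ⊥) :
    finrank k A = finrank k (Subalgebra.toSubmodule (Subalgebra.center k A)) := by
  have := L.finrank_center_add
  rw [h, finrank_bot] at this
  omega

/-- The socle. -/
theorem exists_socle [FiniteDimensional k A] (hJ : L.J ≠ ⊥) :
    ∃ σ : A, σ ≠ 0 ∧ L.lam σ ≠ 0 ∧ (∀ a ∈ L.J, σ * a = 0 ∧ a * σ = 0) ∧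
      (∀ a, (∀ b ∈ L.J, L.lam (a * b) = 0) → ∃ c : k, a = c • σ) ∧
      ∀ j, 1 ≤ j → L.J ^ j ≠ ⊥ → σ ∈ L.J ^ j := by
  classical
  obtain ⟨n, hn⟩ := L.nil
  have hex : ∃ n, L.J ^ (n + 1) = ⊥ := ⟨n, L.pow_eq_bot_of_le (i := n + 1) (by omega) (by omega) (by
    by_cases hn0 : n = 0
    · subst hn0
      exfalso
      rw [pow_zero] at hn
      apply L.one_not
      have h1 : (1 : A) ∈ (1 : Submodule k A) := Submodule.one_le.mp le_rfl
      rw [hn, Submodule.mem_bot] at h1
      rw [h1]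
      exact L.J.zero_mem
    · exact L.pow_eq_bot_of_le (i := n) (by omega) (by omega) hn)⟩
  let T := Nat.find hex
  have hT : L.J ^ (T + 1) = ⊥ := Nat.find_spec hex
  have hT0 : T ≠ 0 := by
    intro h0
    rw [h0, zero_add, pow_one] at hT
    exact hJ hT
  have hT1 : L.J ^ T ≠ ⊥ := by
    obtain ⟨q, hq⟩ : ∃ q, T = q + 1 := ⟨T - 1, by omega⟩
    rw [hq]
    exact Nat.find_min hex (m := q) (by omega)
  obtain ⟨σ, hσ, hσ0⟩ := Submodule.exists_mem_ne_zero_of_ne_bot hT1
  have h1T : 1 ≤ T := by omega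
  have hz : ∀ a ∈ L.J, σ * a = 0 ∧ a * σ = 0 := by
    intro a ha
    have ha1 : a ∈ L.J ^ 1 := by rwa [pow_one]
    constructor
    · have := L.pm hσ ha1
      rwa [hT, Submodule.mem_bot] at this
    · have := L.pm' (add_comm 1 T) ha1 hσ
      rwa [hT, Submodule.mem_bot] at this
  have hlam : L.lam σ ≠ 0 := by
    intro h0
    apply hσ0
    refine L.nd σ fun b => ?_
    obtain ⟨β, b', hb', rfl⟩ := L.exists_decomp_one b
    rw [mul_add, map_add, mul_smul_comm, mul_one, map_smul, h0, smul_zero, (hz b' hb').1, map_zero, add_zero]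
  have hperp : finrank k (L.perp L.J) = 1 := by
    have h1 := L.finrank_perp L.J
    have h2 := L.finrank_J
    omega
  have hσm : σ ∈ L.perp L.J := fun s hs => by
    rw [(hz s hs).1, map_zero]
  have hsp : L.perp L.J = Submodule.span k {σ} := by
    symm
    apply Submodule.eq_of_le_of_finrank_le
    · rw [Submodule.span_le]
      simpa using hσm
    · rw [hperp, finrank_span_singleton hσ0]
  refine ⟨σ, hσ0, hlam, hz, ?_, ?_⟩
  · intro a ha
    have h1 : a ∈ L.perp L.J := ha
    rw [hsp] at h1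
    obtain ⟨c, rfl⟩ := Submodule.mem_span_singleton.mp h1
    exact ⟨c, rfl⟩
  · intro j hj hj0
    have hjT : j ≤ T := by
      by_contra hlt
      exact hj0 (L.pow_eq_bot_of_le (i := T + 1) (by omega) (by omega) hT)
    exact L.pow_anti hj hjT hσ

/-- If a power lies in the next power, it vanishes. -/
theorem pow_eq_bot_of_le_succ {j : ℕ} (hj : 1 ≤ j) (h : L.J ^ j ≤ L.J ^ (j + 1)) : L.J ^ j = ⊥ := by
  obtain ⟨n, hn⟩ := L.nil
  have h1 : ∀ m, L.J ^ j ≤ L.J ^ (j + m) := by
    intro m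
    induction m with
    | zero => exact le_rfl
    | succ m ih =>
      refine ih.trans ?_
      have e : L.J ^ (j + m) = L.J ^ j * L.J ^ m := pow_add _ _ _
      have e' : L.J ^ (j + (m + 1)) = L.J ^ (j + 1) * L.J ^ m := by
        rw [← pow_add]
        congr 1
        omega
      rw [e, e']
      exact mul_le_mul' h le_rfl
  have h2 := h1 n
  rw [add_comm, pow_add, hn, Submodule.bot_mul] at h2
  exact le_bot_iff.mp h2

/-- Generators modulo the square of the radical. -/
def Gens {n : ℕ} (v : Fin n → A) : Prop :=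
  (∀ i, v i ∈ L.J) ∧ ∀ a ∈ L.J, ∃ c : Fin n → k, a - ∑ i, c i • v i ∈ L.J ^ 2

theorem gens_ind {n : ℕ} {v : Fin n → A} (hv : L.Gens v) (U : Submodule k A) (h1 : ∀ i, v i ∈ U)
    (h2 : L.J ^ 2 ≤ U) : L.J ≤ U := by
  intro a ha
  obtain ⟨c, hc⟩ := hv.2 a ha
  have e : a = (a - ∑ i, c i • v i) + ∑ i, c i • v i := by abel
  rw [e]
  exact Submodule.add_mem _ (h2 hc) (Submodule.sum_mem _ fun i _ => Submodule.smul_mem _ _ (h1 i))

/-- Generators exist. -/
theorem exists_gens [FiniteDimensional k A] :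
    ∃ v : Fin (finrank k L.J - finrank k (L.J ^ 2 : Submodule k A)) → A, L.Gens v := by
  classical
  set Q : Submodule k L.J := (L.J ^ 2).comap L.J.subtype with hQ
  have hle : L.J ^ 2 ≤ L.J := by
    have := L.pow_anti (i := 1) (j := 2) le_rfl (by omega)
    rwa [pow_one] at this
  have h1 : finrank k Q = finrank k (L.J ^ 2 : Submodule k A) := by
    have h2 : Q.map L.J.subtype = L.J ^ 2 := by
      rw [hQ, Submodule.map_comap_subtype]
      exact inf_eq_right.mpr hle
    rw [← h2]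
    exact (Submodule.finrank_map_subtype_eq _ _).symm
  have h3 := Submodule.finrank_quotient_add_finrank Q
  have h4 : finrank k (L.J ⧸ Q) = finrank k L.J - finrank k (L.J ^ 2 : Submodule k A) := by omega
  have hb := finBasisOfFinrankEq k (L.J ⧸ Q) h4
  choose lift hlift using fun i => Submodule.mkQ_surjective Q (hb i)
  refine ⟨fun i => (lift i : A), fun i => (lift i).2, ?_⟩
  intro a ha
  refine ⟨hb.repr (Q.mkQ ⟨a, ha⟩), ?_⟩
  have h5 : Q.mkQ ⟨a, ha⟩ = ∑ i, hb.repr (Q.mkQ ⟨a, ha⟩) i • Q.mkQ (lift i) := by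
    conv_lhs => rw [← hb.sum_repr (Q.mkQ ⟨a, ha⟩)]
    refine Finset.sum_congr rfl fun i _ => ?_
    rw [hlift]
  have h6 : Q.mkQ (⟨a, ha⟩ - ∑ i, hb.repr (Q.mkQ ⟨a, ha⟩) i • lift i) = 0 := by
    rw [map_sub, map_sum, sub_eq_zero, h5]
    refine Finset.sum_congr rfl fun i _ => ?_
    rw [map_smul, ← h5]
  have h7 := (Submodule.Quotient.mk_eq_zero Q).mp h6
  have h8 : L.J.subtype (⟨a, ha⟩ - ∑ i, hb.repr (Q.mkQ ⟨a, ha⟩) i • lift i) ∈ L.J ^ 2 := h7
  simpa using h8

/-- The commutators modulo higher commutators. -/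
theorem Kc_one_le {n : ℕ} {v : Fin n → A} (hv : L.Gens v) :
    Kc L.J 1 ≤ Submodule.span k (Set.range fun p : Fin n × Fin n => v p.1 * v p.2 - v p.2 * v p.1) ⊔ Kc L.J 2 := by
  set W := Submodule.span k (Set.range fun p : Fin n × Fin n => v p.1 * v p.2 - v p.2 * v p.1) ⊔ Kc L.J 2 with hW
  have hK2 : Kc L.J 2 ≤ W := le_sup_right
  have s1 : ∀ i, ∀ a ∈ L.J, a * v i - v i * a ∈ W := by
    intro i
    refine L.gens_ind hv (W.comap (LinearMap.mulRight k (v i) - LinearMap.mulLeft k (v i))) (fun j => ?_) ?_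
    · exact Submodule.mem_sup_left (Submodule.subset_span ⟨(j, i), rfl⟩)
    · intro a ha
      exact hK2 (L.comm_mem_Kc'' (hv.1 i) ha)
  rw [Kc, Submodule.span_le]
  rintro _ ⟨a, ha, b, hb, rfl⟩
  rw [pow_one] at hb
  refine L.gens_ind hv (W.comap (LinearMap.mulLeft k a - LinearMap.mulRight k a)) (fun j => s1 j a ha) ?_ hb
  intro b hb
  exact hK2 (L.comm_mem_Kc' ha hb)

/-- The descent property in degree `j + 1`. -/
def H (j : ℕ) : Prop := L.J ^ (j + 1) ≤ Kc L.J j ⊔ L.J ^ (j + 2)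

/-- The descent property fails above any degree in which the power does not vanish. -/
theorem exists_not_H [FiniteDimensional k A] {m : ℕ} (hJ' : L.J ≠ ⊥) (h : L.J ^ (m + 1) ≠ ⊥) :
    ∃ q, m ≤ q ∧ ¬ L.H q := by
  classical
  obtain ⟨σ, hσ0, hlam, hz, hsoc, hσ⟩ := L.exists_socle hJ'
  obtain ⟨n, hn⟩ := L.nil
  have hex : ∃ n, L.J ^ (n + 2) = ⊥ := ⟨n, L.pow_eq_bot_of_le (i := n + 2) (by omega) (by omega) (by
    by_cases hn0 : n = 0
    · subst hn0
      exfalso
      rw [pow_zero] at hn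
      apply L.one_not
      have h1 : (1 : A) ∈ (1 : Submodule k A) := Submodule.one_le.mp le_rfl
      rw [hn, Submodule.mem_bot] at h1
      rw [h1]
      exact L.J.zero_mem
    · exact L.pow_eq_bot_of_le (i := n) (by omega) (by omega) hn)⟩
  let q := Nat.find hex
  have hq : L.J ^ (q + 2) = ⊥ := Nat.find_spec hex
  have hqm : m ≤ q := by
    by_contra hlt
    exact h (L.pow_eq_bot_of_le (i := q + 2) (by omega) (by omega) hq)
  have hq1 : L.J ^ (q + 1) ≠ ⊥ := by
    by_cases hq0 : q = 0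
    · rw [hq0, zero_add, pow_one]
      exact hJ'
    · obtain ⟨q', hq'⟩ : ∃ q', q = q' + 1 := ⟨q - 1, by omega⟩
      rw [hq']
      exact Nat.find_min hex (m := q') (by omega)
  refine ⟨q, hqm, fun hH => ?_⟩
  have h1 := hH (hσ (q + 1) (by omega) hq1)
  rw [hq, sup_bot_eq] at h1
  exact hlam (L.lam_Kc h1)

/-- The least degree in which the descent property fails. -/
theorem exists_least_not_H {m : ℕ} (hex : ∃ q, m ≤ q ∧ ¬ L.H q) :
    ∃ q, m ≤ q ∧ ¬ L.H q ∧ ∀ j, m ≤ j → j < q → L.H j := by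
  classical
  refine ⟨Nat.find hex, (Nat.find_spec hex).1, (Nat.find_spec hex).2, fun j hmj hj => ?_⟩
  by_contra hcon
  exact Nat.find_min hex hj ⟨hmj, hcon⟩

/-- The data for the Rees construction from a failure of the descent property. -/
def mkData (q : ℕ) (θ : A →ₗ[k] k) (h1 : ∀ s ∈ Kc L.J q, θ s = 0) (h2 : ∀ s ∈ L.J ^ (q + 2), θ s = 0)
    (h3 : ∃ a ∈ L.J ^ (q + 1), θ a ≠ 0) : Rees.Data k A where
  J := L.J
  θ := θ
  r := q + 1
  hvan := fun m hm a ha => h2 a (L.pow_anti (by omega) (by omega) ha)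
  cyc := by
    intro i j hij u hu v hv
    by_cases hi : i = 0
    · subst hi
      rw [pow_zero] at hu
      obtain ⟨γ, rfl⟩ := Submodule.mem_one.mp hu
      rw [Algebra.commutes]
    by_cases hj : j = 0
    · subst hj
      rw [pow_zero] at hv
      obtain ⟨γ, rfl⟩ := Submodule.mem_one.mp hv
      rw [Algebra.commutes]
    have h4 := L.comm_mem_Kc_of (by omega) (by omega) hij hu hv
    have h5 := h1 _ h4
    rw [map_sub, sub_eq_zero] at h5
    exact h5
  top := h3

theorem exists_functional [FiniteDimensional k A] {U W : Submodule k A} (h : ¬ W ≤ U) :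
    ∃ θ : A →ₗ[k] k, (∀ u ∈ U, θ u = 0) ∧ ∃ a ∈ W, θ a ≠ 0 := by
  obtain ⟨a, ha, haU⟩ := SetLike.not_le_iff_exists.mp h
  obtain ⟨f, hf, hU⟩ := Submodule.exists_le_ker_of_notMem haU
  exact ⟨f, fun u hu => hU hu, a, ha, hf⟩

end LSA

end Cfsg.Agent.Lib.KS84
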