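import Mathlib
import Cfsg.Agent.Lib.KS84.Loc

/-!
# Local symmetric algebras with three generators
-/

set_option autoImplicit false
set_option linter.unusedSectionVars false
set_option linter.style.haveILetI false

namespace Cfsg.Agent.Lib.KS84

open Module

open Rees (Kc)

variable {k A : Type*} [Field k] [Ring A] [Algebra k A]

namespace LSA

variable (L : LSA k A)

theorem mem1 {a : A} (ha : a ∈ L.J) : a ∈ L.J ^ 1 := by rwa [pow_one]

/-- Coefficients of a commutator for three generators. -/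
theorem Kc_one_three {v : Fin 3 → A} (hv : L.Gens v) {s : A} (hs : s ∈ Kc L.J 1) :
    ∃ α β γ : k, ∃ s₂ ∈ Kc L.J 2, s = α • (v 0 * v 1 - v 1 * v 0) + β • (v 0 * v 2 - v 2 * v 0) +
      γ • (v 1 * v 2 - v 2 * v 1) + s₂ := by
  have h1 := L.Kc_one_le hv hs
  obtain ⟨p, hp, s₂, hs₂, rfl⟩ := Submodule.mem_sup.mp h1
  have h2 : Submodule.span k (Set.range fun p : Fin 3 × Fin 3 => v p.1 * v p.2 - v p.2 * v p.1) ≤
      Submodule.span k {v 0 * v 1 - v 1 * v 0, v 0 * v 2 - v 2 * v 0, v 1 * v 2 - v 2 * v 1} := by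
    rw [Submodule.span_le]
    rintro _ ⟨⟨i, j⟩, rfl⟩
    have m0 : v 0 * v 1 - v 1 * v 0 ∈ Submodule.span k {v 0 * v 1 - v 1 * v 0, v 0 * v 2 - v 2 * v 0, v 1 * v 2 - v 2 * v 1} :=
      Submodule.subset_span (by simp)
    have m1 : v 0 * v 2 - v 2 * v 0 ∈ Submodule.span k {v 0 * v 1 - v 1 * v 0, v 0 * v 2 - v 2 * v 0, v 1 * v 2 - v 2 * v 1} :=
      Submodule.subset_span (by simp)
    have m2 : v 1 * v 2 - v 2 * v 1 ∈ Submodule.span k {v 0 * v 1 - v 1 * v 0, v 0 * v 2 - v 2 * v 0, v 1 * v 2 - v 2 * v 1} :=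
      Submodule.subset_span (by simp)
    have m0' := Submodule.neg_mem _ m0
    have m1' := Submodule.neg_mem _ m1
    have m2' := Submodule.neg_mem _ m2
    rw [neg_sub] at m0' m1' m2'
    have z : ∀ a : A, a * a - a * a ∈ Submodule.span k {v 0 * v 1 - v 1 * v 0, v 0 * v 2 - v 2 * v 0, v 1 * v 2 - v 2 * v 1} := by
      intro a
      rw [sub_self]
      exact Submodule.zero_mem _
    fin_cases i <;> fin_cases j
    · exact z _
    · exact m0
    · exact m1
    · exact m0'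
    · exact z _
    · exact m2
    · exact m1'
    · exact m2'
    · exact z _
  obtain ⟨α, β, γ, e⟩ := Submodule.mem_span_triple.mp (h2 hp)
  exact ⟨α, β, γ, s₂, hs₂, by rw [← e]⟩

/-- **The descent in degree three**. -/
theorem h2_of_d3 {v : Fin 3 → A} (hv : L.Gens v) {σ : A} (hz : ∀ a ∈ L.J, σ * a = 0 ∧ a * σ = 0)
    (hJ2 : L.J ^ 2 ≤ Kc L.J 1 ⊔ Submodule.span k {σ}) (hσ4 : σ ∈ L.J ^ 4) : L.H 2 := by
  change L.J ^ 3 ≤ Kc L.J 2 ⊔ L.J ^ 4
  set M := Kc L.J 2 ⊔ L.J ^ 4 with hM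
  have hK2M : Kc L.J 2 ≤ M := le_sup_left
  have hJ4M : L.J ^ 4 ≤ M := le_sup_right
  have hvJ : ∀ i, v i ∈ L.J := hv.1
  have hv1 : ∀ i, v i ∈ L.J ^ 1 := fun i => L.mem1 (hv.1 i)
  let T : A → A → A → A := fun a b c => (a * b - b * a) * c
  have hT2 : ∀ {a b : A}, a ∈ L.J → b ∈ L.J → a * b - b * a ∈ L.J ^ 2 := fun ha hb =>
    Submodule.sub_mem _ (L.pm' rfl (L.mem1 ha) (L.mem1 hb)) (L.pm' rfl (L.mem1 hb) (L.mem1 ha))
  have t1 : ∀ {a b c : A}, a ∈ L.J → b ∈ L.J → c ∈ L.J → T a b c - T b c a ∈ Kc L.J 2 := by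
    intro a b c ha hb hc
    have e : T a b c - T b c a = (a * (b * c) - (b * c) * a) + (c * (b * a) - (b * a) * c) := by
      simp only [T]
      noncomm_ring
    rw [e]
    exact Submodule.add_mem _ (L.comm_mem_Kc' ha (L.pm' rfl (L.mem1 hb) (L.mem1 hc)))
      (L.comm_mem_Kc' hc (L.pm' rfl (L.mem1 hb) (L.mem1 ha)))
  have hcyc : ∀ i j l, T (v i) (v j) (v l) ∈ M → T (v j) (v l) (v i) ∈ M := by
    intro i j l h
    have e : T (v j) (v l) (v i) = T (v i) (v j) (v l) - (T (v i) (v j) (v l) - T (v j) (v l) (v i)) := by abel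
    rw [e]
    exact Submodule.sub_mem _ h (hK2M (t1 (hvJ i) (hvJ j) (hvJ l)))
  have hswap : ∀ i j l, T (v i) (v j) (v l) ∈ M → T (v j) (v i) (v l) ∈ M := by
    intro i j l h
    have e : T (v j) (v i) (v l) = - T (v i) (v j) (v l) := by
      simp only [T]
      noncomm_ring
    rw [e]
    exact Submodule.neg_mem _ h
  have hdiag : ∀ i l, T (v i) (v i) (v l) ∈ M := by
    intro i l
    have e : T (v i) (v i) (v l) = 0 := by
      simp [T]
    rw [e]
    exact Submodule.zero_mem _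
  have hcyc2 : ∀ i j l, T (v i) (v j) (v l) ∈ M → T (v l) (v i) (v j) ∈ M :=
    fun i j l h => hcyc _ _ _ (hcyc _ _ _ h)
  -- the main point
  have h012 : T (v 0) (v 1) (v 2) ∈ M := by
    set τ := T (v 0) (v 1) (v 2) with hτ
    have hτ3 : τ ∈ L.J ^ 3 := L.pm' rfl (hT2 (hvJ 0) (hvJ 1)) (hv1 2)
    have hτ2 : τ ∈ L.J ^ 2 := L.pow_anti (i := 2) (j := 3) (by omega) (by omega) hτ3
    obtain ⟨s₀, hs₀, s₁, hs₁, e⟩ := Submodule.mem_sup.mp (hJ2 hτ2)
    obtain ⟨c, rfl⟩ := Submodule.mem_span_singleton.mp hs₁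
    obtain ⟨α, β, γ, s₂, hs₂, rfl⟩ := L.Kc_one_three hv hs₀
    have hσ3 : σ ∈ L.J ^ 3 := L.pow_anti (i := 3) (j := 4) (by omega) (by omega) hσ4
    have hs₂3 : s₂ ∈ L.J ^ 3 := L.Kc_le 2 hs₂
    set u := α • (v 0 * v 1 - v 1 * v 0) + β • (v 0 * v 2 - v 2 * v 0) + γ • (v 1 * v 2 - v 2 * v 1) with hu
    have hu3 : u ∈ L.J ^ 3 := by
      have e2 : u = τ - c • σ - s₂ := by
        rw [← e]
        abel
      rw [e2]
      exact Submodule.sub_mem _ (Submodule.sub_mem _ hτ3 (Submodule.smul_mem _ _ hσ3)) hs₂3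
    have hul : ∀ l, u * v l ∈ M := fun l => hJ4M (L.pm' rfl hu3 (hv1 l))
    by_cases hα : α = 0 ∧ β = 0 ∧ γ = 0
    · have hu0 : u = 0 := by
        rw [hu, hα.1, hα.2.1, hα.2.2]
        simp
      have e2 : τ = s₂ + c • σ := by
        rw [← e, hu0, zero_add]
      rw [e2]
      exact Submodule.add_mem _ (hK2M hs₂) (hJ4M (Submodule.smul_mem _ _ hσ4))
    · have h1 : α • τ ∈ M := by
        have e2 : u * v 2 = α • τ + β • T (v 0) (v 2) (v 2) + γ • T (v 1) (v 2) (v 2) := by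
          simp only [hu, hτ, T, add_mul, smul_mul_assoc]
        have h2 := hul 2
        rw [e2] at h2
        have h3 : T (v 0) (v 2) (v 2) ∈ M := hcyc2 _ _ _ (hdiag 2 0)
        have h4 : T (v 1) (v 2) (v 2) ∈ M := hcyc2 _ _ _ (hdiag 2 1)
        have h5 := Submodule.sub_mem _ (Submodule.sub_mem _ h2 (Submodule.smul_mem _ β h3)) (Submodule.smul_mem _ γ h4)
        have e6 : α • τ = α • τ + β • T (v 0) (v 2) (v 2) + γ • T (v 1) (v 2) (v 2) - β • T (v 0) (v 2) (v 2) -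
            γ • T (v 1) (v 2) (v 2) := by abel
        rw [e6]
        exact h5
      have h2' : β • τ ∈ M := by
        have e2 : u * v 1 = α • T (v 0) (v 1) (v 1) + β • T (v 0) (v 2) (v 1) + γ • T (v 1) (v 2) (v 1) := by
          simp only [hu, T, add_mul, smul_mul_assoc]
        have h2 := hul 1
        rw [e2] at h2
        have h3 : T (v 0) (v 1) (v 1) ∈ M := hcyc2 _ _ _ (hdiag 1 0)
        have h4 : T (v 1) (v 2) (v 1) ∈ M := hcyc _ _ _ (hdiag 1 2)
        have h5 := Submodule.sub_mem _ (Submodule.add_mem _ h2 (Submodule.neg_mem _ (Submodule.smul_mem _ α h3)))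
          (Submodule.smul_mem _ γ h4)
        have h6 : T (v 0) (v 1) (v 2) + T (v 0) (v 2) (v 1) ∈ M := by
          have h7 := t1 (hvJ 0) (hvJ 1) (hvJ 2)
          have h8 := t1 (hvJ 1) (hvJ 2) (hvJ 0)
          have h9 := Submodule.add_mem _ h7 h8
          have e3 : T (v 0) (v 1) (v 2) + T (v 0) (v 2) (v 1) =
              T (v 0) (v 1) (v 2) - T (v 1) (v 2) (v 0) + (T (v 1) (v 2) (v 0) - T (v 2) (v 0) (v 1)) := by
            simp only [T]
            noncomm_ring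
          rw [e3]
          exact hK2M h9
        have e4 : β • τ = β • (T (v 0) (v 1) (v 2) + T (v 0) (v 2) (v 1)) -
            (α • T (v 0) (v 1) (v 1) + β • T (v 0) (v 2) (v 1) + γ • T (v 1) (v 2) (v 1) +
              - α • T (v 0) (v 1) (v 1) - γ • T (v 1) (v 2) (v 1)) := by
          rw [hτ]
          module
        rw [e4]
        have h10 := Submodule.smul_mem _ β h6
        have e5 : - α • T (v 0) (v 1) (v 1) = - (α • T (v 0) (v 1) (v 1)) := neg_smul _ _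
        rw [e5]
        exact Submodule.sub_mem _ h10 h5
      have h3' : γ • τ ∈ M := by
        have e2 : u * v 0 = α • T (v 0) (v 1) (v 0) + β • T (v 0) (v 2) (v 0) + γ • T (v 1) (v 2) (v 0) := by
          simp only [hu, T, add_mul, smul_mul_assoc]
        have h2 := hul 0
        rw [e2] at h2
        have h3 : T (v 0) (v 1) (v 0) ∈ M := hcyc _ _ _ (hdiag 0 1)
        have h4 : T (v 0) (v 2) (v 0) ∈ M := hcyc _ _ _ (hdiag 0 2)
        have h5 := Submodule.sub_mem _ (Submodule.sub_mem _ h2 (Submodule.smul_mem _ α h3)) (Submodule.smul_mem _ β h4)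
        have h6 := t1 (hvJ 0) (hvJ 1) (hvJ 2)
        have e3 : γ • τ = (α • T (v 0) (v 1) (v 0) + β • T (v 0) (v 2) (v 0) + γ • T (v 1) (v 2) (v 0) -
            α • T (v 0) (v 1) (v 0) - β • T (v 0) (v 2) (v 0)) + γ • (T (v 0) (v 1) (v 2) - T (v 1) (v 2) (v 0)) := by
          rw [hτ]
          module
        rw [e3]
        exact Submodule.add_mem _ h5 (Submodule.smul_mem _ γ (hK2M h6))
      have hne : α ≠ 0 ∨ β ≠ 0 ∨ γ ≠ 0 := by
        by_contra hcon
        push Not at hcon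
        exact hα hcon
      rcases hne with h | h | h
      · exact (Submodule.smul_mem_iff _ h).mp h1
      · exact (Submodule.smul_mem_iff _ h).mp h2'
      · exact (Submodule.smul_mem_iff _ h).mp h3'
  have hall : ∀ i j l, T (v i) (v j) (v l) ∈ M := by
    have h1 := h012
    have h2 := hcyc _ _ _ h012
    have h3 := hcyc _ _ _ h2
    have h4 := hswap _ _ _ h012
    have h5 := hswap _ _ _ h2
    have h6 := hswap _ _ _ h3
    intro i j l
    fin_cases i <;> fin_cases j <;> fin_cases l <;>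
    first
      | exact hdiag _ _
      | exact hcyc2 _ _ _ (hdiag _ _)
      | exact hcyc _ _ _ (hdiag _ _)
      | exact h1
      | exact h2
      | exact h3
      | exact h4
      | exact h5
      | exact h6
  -- extension by linearity
  have s3 : ∀ i j, ∀ c ∈ L.J, T (v i) (v j) c ∈ M := by
    intro i j
    refine L.gens_ind hv (M.comap (LinearMap.mulLeft k (v i * v j - v j * v i))) (fun l => hall i j l) ?_
    intro c hc
    exact hJ4M (L.pm' rfl (hT2 (hvJ i) (hvJ j)) hc)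
  have s2 : ∀ i, ∀ b ∈ L.J, ∀ c ∈ L.J, T (v i) b c ∈ M := by
    intro i b hb c hc
    refine L.gens_ind hv (M.comap ((LinearMap.mulRight k c) ∘ₗ (LinearMap.mulLeft k (v i) - LinearMap.mulRight k (v i))))
      (fun j => s3 i j c hc) ?_ hb
    intro b hb
    have h1 : v i * b - b * v i ∈ L.J ^ 3 :=
      Submodule.sub_mem _ (L.pm' rfl (hv1 i) hb) (L.pm' rfl hb (hv1 i))
    exact hJ4M (L.pm' rfl h1 (L.mem1 hc))
  have s1 : ∀ a ∈ L.J, ∀ b ∈ L.J, ∀ c ∈ L.J, T a b c ∈ M := by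
    intro a ha b hb c hc
    refine L.gens_ind hv (M.comap ((LinearMap.mulRight k c) ∘ₗ (LinearMap.mulRight k b - LinearMap.mulLeft k b)))
      (fun i => s2 i b hb c hc) ?_ ha
    intro a ha
    have h1 : a * b - b * a ∈ L.J ^ 3 :=
      Submodule.sub_mem _ (L.pm' rfl ha (L.mem1 hb)) (L.pm' rfl (L.mem1 hb) ha)
    exact hJ4M (L.pm' rfl h1 (L.mem1 hc))
  -- the conclusion
  have hfin : L.J ^ 2 * L.J ≤ M := by
    rw [Submodule.mul_le]
    intro p hp c hc
    obtain ⟨s₀, hs₀, s₁, hs₁, rfl⟩ := Submodule.mem_sup.mp (hJ2 hp)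
    obtain ⟨d, rfl⟩ := Submodule.mem_span_singleton.mp hs₁
    rw [add_mul, smul_mul_assoc, (hz c hc).1, smul_zero, add_zero]
    have h1 : Kc L.J 1 ≤ M.comap (LinearMap.mulRight k c) := by
      rw [Kc, Submodule.span_le]
      rintro _ ⟨a, ha, b, hb, rfl⟩
      rw [pow_one] at hb
      exact s1 a ha b hb c hc
    exact h1 hs₀
  rw [pow_succ]
  exact hfin


section Data

variable {q : ℕ} {θ : A →ₗ[k] k} (h1 : ∀ s ∈ Kc L.J q, θ s = 0) (h2 : ∀ s ∈ L.J ^ (q + 2), θ s = 0)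
  (h3 : ∃ a ∈ L.J ^ (q + 1), θ a ≠ 0)

theorem mkData_Rr_one {a : A} (ha : a ∈ L.J ^ 2) : a ∈ (L.mkData q θ h1 h2 h3).Rr 1 :=
  Rees.Data.Rr_of_high (L.mkData q θ h1 h2 h3) (j := 1) (by change 1 ≤ q + 1; omega)
    (L.pow_anti (i := 1) (j := 2) le_rfl (by omega) ha) ha

theorem mkData_Rr_of {j : ℕ} (hj : 1 ≤ j) (hjq : j ≤ q + 1) {a : A} (ha : a ∈ L.J ^ (j + 1)) :
    a ∈ (L.mkData q θ h1 h2 h3).Rr j :=
  Rees.Data.Rr_of_high (L.mkData q θ h1 h2 h3) (j := j) hjq (L.pow_succ_le hj ha) ha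

theorem mkData_rank_one [FiniteDimensional k A] {n : ℕ} {v : Fin n → A} (hv : L.Gens v) :
    finrank k ((L.mkData q θ h1 h2 h3).toGS.Eg 1) ≤ n := by
  refine Rees.Data.finrank_Eg_le (L.mkData q θ h1 h2 h3) (fun i => ⟨v i, L.mem1 (hv.1 i)⟩) ?_
  intro a ha
  obtain ⟨c, hc⟩ := hv.2 a (by
    have h4 : a ∈ L.J ^ 1 := ha
    rwa [pow_one] at h4)
  exact ⟨c, L.mkData_Rr_one h1 h2 h3 hc⟩

theorem mkData_HC [FiniteDimensional k A] {j : ℕ} (hj : 1 ≤ j) (hjq : j ≤ q) (hH : L.H j) :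
    (L.mkData q θ h1 h2 h3).toGS.HC j :=
  Rees.Data.hc_of (L.mkData q θ h1 h2 h3) (j := j) (by change j + 1 ≤ q + 1; omega)
    (L.pow_succ_le (by omega)) hH

end Data

variable [FiniteDimensional k A]

/-- The descent property can only fail in degree at most three, for at most three generators. -/
theorem no_gs3 [IsAlgClosed k] {v : Fin 3 → A} (hv : L.Gens v) {q : ℕ} (hq : 3 ≤ q)
    (hH : ∀ j, 1 ≤ j → j < q → L.H j) (hnH : ¬ L.H q) : False := by
  obtain ⟨θ, h0, h3⟩ := LSA.exists_functional (U := Kc L.J q ⊔ L.J ^ (q + 2)) (W := L.J ^ (q + 1)) hnH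
  have h1 : ∀ s ∈ Kc L.J q, θ s = 0 := fun s hs => h0 s (Submodule.mem_sup_left hs)
  have h2 : ∀ s ∈ L.J ^ (q + 2), θ s = 0 := fun s hs => h0 s (Submodule.mem_sup_right hs)
  refine GS.gs3 ((L.mkData q θ h1 h2 h3).toGS) (by change 4 ≤ q + 1; omega) (L.mkData_rank_one h1 h2 h3 hv) ?_
  intro j hj hjq
  have hjq' : j + 2 ≤ q + 1 := hjq
  exact L.mkData_HC h1 h2 h3 hj (by omega) (hH j hj (by omega))

end LSA

end Cfsg.Agent.Lib.KS84
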