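import Mathlib
import Cfsg.Agent.Lib.KS84.D3

/-!
# Local symmetric algebras with two generators
-/

set_option autoImplicit false
set_option linter.unusedSectionVars false
set_option linter.style.haveILetI false

namespace Cfsg.Agent.Lib.KS84

open Module

open Rees (Kc)

variable {k A : Type*} [Field k] [Ring A] [Algebra k A]

namespace LSA

variable (L : LSA k A)

theorem exists_nil_pos : ∃ n, 1 ≤ n ∧ L.J ^ n = ⊥ := by
  obtain ⟨n, hn⟩ := L.nil
  refine ⟨n + 1, by omega, L.pow_eq_bot_of_le (i := n + 1) (by omega) le_rfl ?_⟩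
  by_cases hn0 : n = 0
  · subst hn0
    exfalso
    rw [pow_zero] at hn
    apply L.one_not
    have h1 : (1 : A) ∈ (1 : Submodule k A) := Submodule.one_le.mp le_rfl
    rw [hn, Submodule.mem_bot] at h1
    rw [h1]
    exact L.J.zero_mem
  · exact L.pow_eq_bot_of_le (i := n) (by omega) (by omega) hn

/-- The expansion with two generators. -/
theorem gens_two {x y : A} (hv : L.Gens ![x, y]) {a : A} (ha : a ∈ L.J) :
    ∃ c d : k, ∃ a' ∈ L.J ^ 2, a = c • x + d • y + a' := by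
  obtain ⟨c, hc⟩ := hv.2 a ha
  refine ⟨c 0, c 1, _, hc, ?_⟩
  simp only [Fin.sum_univ_two, Matrix.cons_val_zero, Matrix.cons_val_one]
  abel

theorem gens_mem_left {x y : A} (hv : L.Gens ![x, y]) : x ∈ L.J := hv.1 0

theorem gens_mem_right {x y : A} (hv : L.Gens ![x, y]) : y ∈ L.J := hv.1 1

/-- The span of powers of `x` beyond `j`. -/
def Xp (x : A) (j : ℕ) : Submodule k A := Submodule.span k {s | ∃ i, j ≤ i ∧ s = x ^ i}

omit L in
theorem pow_mem_Xp (x : A) {i j : ℕ} (h : j ≤ i) : x ^ i ∈ (Xp x j : Submodule k A) :=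
  Submodule.subset_span ⟨i, h, rfl⟩

omit L in
theorem Xp_mono (x : A) {i j : ℕ} (h : i ≤ j) : (Xp x j : Submodule k A) ≤ Xp x i := by
  rw [Xp, Submodule.span_le]
  rintro _ ⟨l, hl, rfl⟩
  exact pow_mem_Xp x (h.trans hl)

omit L in
theorem Xp_le_succ (x : A) (j : ℕ) : (Xp x j : Submodule k A) ≤ Submodule.span k {x ^ j} ⊔ Xp x (j + 1) := by
  rw [Xp, Submodule.span_le]
  rintro _ ⟨l, hl, rfl⟩
  rcases eq_or_lt_of_le hl with rfl | h
  · exact Submodule.mem_sup_left (Submodule.mem_span_singleton_self _)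
  · exact Submodule.mem_sup_right (pow_mem_Xp x h)

omit L in
theorem pow_mul_Xp (x : A) (i : ℕ) {j : ℕ} {t : A} (ht : t ∈ (Xp x j : Submodule k A)) :
    x ^ i * t ∈ (Xp x (i + j) : Submodule k A) := by
  have h : (Xp x j : Submodule k A) ≤ (Xp x (i + j)).comap (LinearMap.mulLeft k (x ^ i)) := by
    rw [Xp, Submodule.span_le]
    rintro _ ⟨l, hl, rfl⟩
    rw [SetLike.mem_coe, Submodule.mem_comap, LinearMap.mulLeft_apply, ← pow_add]
    exact pow_mem_Xp x (by omega)
  exact h ht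

omit L in
theorem Xp_mul_pow (x : A) (i : ℕ) {j : ℕ} {t : A} (ht : t ∈ (Xp x j : Submodule k A)) :
    t * x ^ i ∈ (Xp x (j + i) : Submodule k A) := by
  have h : (Xp x j : Submodule k A) ≤ (Xp x (j + i)).comap (LinearMap.mulRight k (x ^ i)) := by
    rw [Xp, Submodule.span_le]
    rintro _ ⟨l, hl, rfl⟩
    rw [SetLike.mem_coe, Submodule.mem_comap, LinearMap.mulRight_apply, ← pow_add]
    exact pow_mem_Xp x (by omega)
  exact h ht

theorem pow_mem_pow' {x : A} (hx : x ∈ L.J) (i : ℕ) : x ^ i ∈ L.J ^ i := Submodule.pow_mem_pow L.J hx i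

/-- All higher powers of the radical are spanned by powers of `x`. -/
theorem le_Xp {x : A} (hx : x ∈ L.J) {m : ℕ} (hm : 1 ≤ m)
    (hpow : ∀ j, m ≤ j → L.J ^ j ≤ Submodule.span k {x ^ j} ⊔ L.J ^ (j + 1)) :
    ∀ j, m ≤ j → L.J ^ j ≤ Xp x j := by
  obtain ⟨n, hn1, hn⟩ := L.exists_nil_pos
  have key : ∀ l j, m ≤ j → n ≤ j + l → L.J ^ j ≤ Xp x j := by
    intro l
    induction l with
    | zero =>
      intro j _ hj
      rw [L.pow_eq_bot_of_le hn1 (by omega) hn]
      exact bot_le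
    | succ l ih =>
      intro j hmj hj
      refine (hpow j hmj).trans (sup_le ?_ ?_)
      · rw [Submodule.span_le]
        simpa using pow_mem_Xp (k := k) x (le_refl j)
      · exact (ih (j + 1) (by omega) (by omega)).trans (Xp_mono x (by omega))
  intro j hj
  exact key n j hj (by omega)

/-- **The rank one case.** -/
theorem rank_one_comm {x y : A} (hv : L.Gens ![x, y]) (hxy : x * y ∈ L.J ^ 3) (hyx : y * x ∈ L.J ^ 3)
    (hyy : y * y ∈ L.J ^ 3) : Kc L.J 1 = ⊥ := by
  have hx := L.gens_mem_left hv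
  have hy := L.gens_mem_right hv
  have hx1 := L.mem1 hx
  have hy1 := L.mem1 hy
  have h32 : L.J ^ 3 ≤ L.J ^ 2 := L.pow_anti (by omega) (by omega)
  -- the powers
  have hpow : ∀ j, 2 ≤ j → L.J ^ j ≤ Submodule.span k {x ^ j} ⊔ L.J ^ (j + 1) := by
    intro j hj
    induction j, hj using Nat.le_induction with
    | base =>
      rw [pow_two L.J, Submodule.mul_le]
      intro a ha b hb
      obtain ⟨a₁, a₂, a', ha', rfl⟩ := L.gens_two hv ha
      obtain ⟨b₁, b₂, b', hb', rfl⟩ := L.gens_two hv hb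
      have ha1 : a₁ • x + a₂ • y ∈ L.J ^ 1 := Submodule.add_mem _ (Submodule.smul_mem _ _ hx1) (Submodule.smul_mem _ _ hy1)
      have hb1 : b₁ • x + b₂ • y ∈ L.J ^ 1 := Submodule.add_mem _ (Submodule.smul_mem _ _ hx1) (Submodule.smul_mem _ _ hy1)
      have e : (a₁ • x + a₂ • y + a') * (b₁ • x + b₂ • y + b') =
          (a₁ * b₁) • x ^ 2 + ((a₁ * b₂) • (x * y) + (a₂ * b₁) • (y * x) + (a₂ * b₂) • (y * y) +
            (a₁ • x + a₂ • y) * b' + a' * (b₁ • x + b₂ • y) + a' * b') := by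
        rw [pow_two]
        simp only [add_mul, mul_add, smul_mul_assoc, mul_smul_comm]
        module
      rw [e]
      refine Submodule.add_mem_sup (Submodule.smul_mem _ _ (Submodule.mem_span_singleton_self _)) ?_
      refine Submodule.add_mem _ (Submodule.add_mem _ (Submodule.add_mem _ (Submodule.add_mem _
        (Submodule.add_mem _ (Submodule.smul_mem _ _ hxy) (Submodule.smul_mem _ _ hyx)) (Submodule.smul_mem _ _ hyy)) ?_) ?_) ?_
      · exact L.pm' (by omega) ha1 hb'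
      · exact L.pm' (by omega) ha' hb1
      · exact L.pow_anti (i := 3) (j := 4) (by omega) (by omega) (L.pm' (by omega) ha' hb')
    | succ j hj ih =>
      rw [pow_succ L.J j, Submodule.mul_le]
      intro p hp c hc
      obtain ⟨p₁, hp₁, p', hp', rfl⟩ := Submodule.mem_sup.mp (ih hp)
      obtain ⟨ζ, rfl⟩ := Submodule.mem_span_singleton.mp hp₁
      obtain ⟨c₁, c₂, c', hc', rfl⟩ := L.gens_two hv hc
      have hxj1 : x ^ (j - 1) ∈ L.J ^ (j - 1) := L.pow_mem_pow' hx _
      have hxj : x ^ j ∈ L.J ^ j := L.pow_mem_pow' hx _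
      have e1 : x ^ j * y = x ^ (j - 1) * (x * y) := by
        rw [← mul_assoc, ← pow_succ]
        congr 2
        omega
      have e : (ζ • x ^ j + p') * (c₁ • x + c₂ • y + c') = (ζ * c₁) • x ^ (j + 1) +
          ((ζ * c₂) • (x ^ j * y) + ζ • (x ^ j * c') + p' * (c₁ • x + c₂ • y + c')) := by
        rw [pow_succ]
        simp only [add_mul, mul_add, smul_mul_assoc, mul_smul_comm]
        module
      rw [e]
      refine Submodule.add_mem_sup (Submodule.smul_mem _ _ (Submodule.mem_span_singleton_self _)) ?_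
      refine Submodule.add_mem _ (Submodule.add_mem _ (Submodule.smul_mem _ _ ?_) (Submodule.smul_mem _ _ ?_)) ?_
      · rw [e1]
        exact L.pm' (by omega) hxj1 hxy
      · exact L.pm' (by omega) hxj hc'
      · exact L.pm' (by omega) hp' (L.mem1 hc)
  have hX := L.le_Xp hx (by omega) hpow
  -- the top power
  obtain ⟨n, hn1, hn⟩ := L.exists_nil_pos
  have hexn : ∃ l, x ^ (l + 1) = 0 := by
    refine ⟨n, ?_⟩
    have h1 := L.pow_mem_pow' hx (n + 1)
    rw [L.pow_eq_bot_of_le hn1 (by omega) hn, Submodule.mem_bot] at h1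
    exact h1
  classical
  let l := Nat.find hexn
  have hl : x ^ (l + 1) = 0 := Nat.find_spec hexn
  have hXbot : ∀ j, l + 1 ≤ j → (Xp x j : Submodule k A) = ⊥ := by
    intro j hj
    rw [eq_bot_iff, Xp, Submodule.span_le]
    rintro _ ⟨i, hi, rfl⟩
    have e : i = (l + 1) + (i - (l + 1)) := by omega
    rw [e, pow_add, hl, zero_mul]
    exact Submodule.zero_mem _
  have hcomm : x * y = y * x := by
    by_cases hl2 : l ≤ 1
    · have h1 := hX 2 le_rfl
      rw [hXbot 2 (by omega), le_bot_iff] at h1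
      have h2 : x * y - y * x ∈ L.J ^ 2 := h32 (Submodule.sub_mem _ hxy hyx)
      rw [h1, Submodule.mem_bot] at h2
      exact sub_eq_zero.mp h2
    · -- the socle power
      have hxl : x ^ l ≠ 0 := by
        obtain ⟨l', hl'⟩ : ∃ l', l = l' + 1 := ⟨l - 1, by omega⟩
        rw [hl']
        exact Nat.find_min hexn (m := l') (by omega)
      have hann : ∀ b ∈ L.J, x ^ l * b = 0 := by
        have h1 : L.J ≤ (⊥ : Submodule k A).comap (LinearMap.mulLeft k (x ^ l)) := by
          refine L.gens_ind hv _ (fun i => ?_) ?_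
          · fin_cases i
            · change x ^ l * x = 0
              rw [← pow_succ, hl]
            · change x ^ l * y = 0
              have h2 : x * y ∈ (Xp x 3 : Submodule k A) := hX 3 (by omega) hxy
              have h3 := pow_mul_Xp x (l - 1) h2
              rw [hXbot _ (by omega), Submodule.mem_bot] at h3
              have e : x ^ l * y = x ^ (l - 1) * (x * y) := by
                rw [← mul_assoc, ← pow_succ]
                congr 2
                omega
              rw [e, h3]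
          · intro b hb
            have h2 := hX 2 le_rfl hb
            have h3 := pow_mul_Xp x l h2
            rw [hXbot _ (by omega), Submodule.mem_bot] at h3
            exact h3
        intro b hb
        exact h1 hb
      have hlamx : L.lam (x ^ l) ≠ 0 := by
        intro h0
        apply hxl
        refine L.nd _ fun b => ?_
        obtain ⟨β, b', hb', rfl⟩ := L.exists_decomp_one b
        rw [mul_add, map_add, mul_smul_comm, mul_one, map_smul, h0, smul_zero, hann b' hb', map_zero, add_zero]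
      -- nondegeneracy on powers of x
      have hnd : ∀ t ∈ (Xp x 3 : Submodule k A), (∀ i, L.lam (t * x ^ i) = 0) → t = 0 := by
        intro t ht h0
        have h1 : ∀ m, 3 ≤ m → t ∈ (Xp x m : Submodule k A) := by
          intro m hm
          induction m, hm using Nat.le_induction with
          | base => exact ht
          | succ m hm ih =>
            obtain ⟨t₁, ht₁, t', ht', rfl⟩ := Submodule.mem_sup.mp (Xp_le_succ x m ih)
            obtain ⟨c, rfl⟩ := Submodule.mem_span_singleton.mp ht₁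
            by_cases hml : m ≤ l
            · have h2 := h0 (l - m)
              have h3 := Xp_mul_pow x (l - m) ht'
              rw [hXbot _ (by omega), Submodule.mem_bot] at h3
              rw [add_mul, h3, add_zero, smul_mul_assoc, ← pow_add, map_smul] at h2
              have e : m + (l - m) = l := by omega
              rw [e] at h2
              have hc : c = 0 := (smul_eq_zero.mp h2).resolve_right hlamx
              rw [hc, zero_smul, zero_add]
              exact ht'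
            · have e : x ^ m = 0 := by
                have e2 : m = (l + 1) + (m - (l + 1)) := by omega
                rw [e2, pow_add, hl, zero_mul]
              rw [e, smul_zero, zero_add]
              exact ht'
        have h2 := h1 (l + 3) (by omega)
        rwa [hXbot _ (by omega), Submodule.mem_bot] at h2
      have hw : x * y - y * x = 0 := by
        refine hnd _ (hX 3 (by omega) (Submodule.sub_mem _ hxy hyx)) fun i => ?_
        rw [sub_mul, map_sub, sub_eq_zero, mul_assoc, L.sym x, mul_assoc, mul_assoc, ← pow_succ, ← pow_succ']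
      exact sub_eq_zero.mp hw
  -- commutativity
  have hcx : ∀ a ∈ L.J, a * x = x * a := by
    have h1 : L.J ≤ (⊥ : Submodule k A).comap (LinearMap.mulRight k x - LinearMap.mulLeft k x) := by
      refine L.gens_ind hv _ (fun i => ?_) ?_
      · fin_cases i
        · change x * x - x * x = 0
          rw [sub_self]
        · change y * x - x * y = 0
          rw [hcomm, sub_self]
      · intro b hb
        have h2 := hX 2 le_rfl hb
        have h3 : (Xp x 2 : Submodule k A) ≤ (⊥ : Submodule k A).comap (LinearMap.mulRight k x - LinearMap.mulLeft k x) := by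
          rw [Xp, Submodule.span_le]
          rintro _ ⟨i, -, rfl⟩
          change x ^ i * x - x * x ^ i = 0
          rw [← pow_succ, ← pow_succ', sub_self]
        exact h3 h2
    intro a ha
    have h2 : a * x - x * a = 0 := h1 ha
    exact sub_eq_zero.mp h2
  have hcpow : ∀ a ∈ L.J, ∀ i, a * x ^ i = x ^ i * a := by
    intro a ha i
    have h : Commute a x := hcx a ha
    exact (h.pow_right i).eq
  have hcy : ∀ a ∈ L.J, a * y = y * a := by
    have h1 : L.J ≤ (⊥ : Submodule k A).comap (LinearMap.mulRight k y - LinearMap.mulLeft k y) := by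
      refine L.gens_ind hv _ (fun i => ?_) ?_
      · fin_cases i
        · change x * y - y * x = 0
          rw [hcomm, sub_self]
        · change y * y - y * y = 0
          rw [sub_self]
      · intro b hb
        have h2 := hX 2 le_rfl hb
        have h3 : (Xp x 2 : Submodule k A) ≤ (⊥ : Submodule k A).comap (LinearMap.mulRight k y - LinearMap.mulLeft k y) := by
          rw [Xp, Submodule.span_le]
          rintro _ ⟨i, -, rfl⟩
          change x ^ i * y - y * x ^ i = 0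
          rw [← hcpow y hy i, sub_eq_zero]
        exact h3 h2
    intro a ha
    have h2 : a * y - y * a = 0 := h1 ha
    exact sub_eq_zero.mp h2
  rw [eq_bot_iff, Kc, Submodule.span_le]
  rintro _ ⟨a, ha, b, hb, rfl⟩
  rw [pow_one] at hb
  have h1 : L.J ≤ (⊥ : Submodule k A).comap (LinearMap.mulLeft k a - LinearMap.mulRight k a) := by
    refine L.gens_ind hv _ (fun i => ?_) ?_
    · fin_cases i
      · change a * x - x * a = 0
        rw [hcx a ha, sub_self]
      · change a * y - y * a = 0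
        rw [hcy a ha, sub_self]
    · intro b hb
      have h2 := hX 2 le_rfl hb
      have h3 : (Xp x 2 : Submodule k A) ≤ (⊥ : Submodule k A).comap (LinearMap.mulLeft k a - LinearMap.mulRight k a) := by
        rw [Xp, Submodule.span_le]
        rintro _ ⟨i, -, rfl⟩
        change a * x ^ i - x ^ i * a = 0
        rw [hcpow a ha i, sub_self]
      exact h3 h2
  exact h1 hb


/-- Associativity modulo the fourth power. -/
theorem assoc_mod {a b c u : A} {f g : k} (ha : a ∈ L.J) (hc : c ∈ L.J) (h1 : a * b - f • u ∈ L.J ^ 3)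
    (h2 : b * c - g • u ∈ L.J ^ 3) : f • (u * c) - g • (a * u) ∈ L.J ^ 4 := by
  have e : f • (u * c) - g • (a * u) = a * (b * c - g • u) - (a * b - f • u) * c := by
    simp only [mul_sub, sub_mul, mul_smul_comm, smul_mul_assoc, mul_assoc]
    abel
  rw [e]
  exact Submodule.sub_mem _ (L.pm' (by omega) (L.mem1 ha) h2) (L.pm' (by omega) h1 (L.mem1 hc))

/-- If `u` spans the square modulo the cube and `u J` is in the fourth power, the cube vanishes. -/
theorem J3_bot_of {x y u : A} (hv : L.Gens ![x, y]) (hu : u ∈ L.J ^ 2) (hspan : L.J ^ 2 ≤ Submodule.span k {u} ⊔ L.J ^ 3)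
    (hux : u * x ∈ L.J ^ 4) (huy : u * y ∈ L.J ^ 4) : L.J ^ 3 = ⊥ := by
  apply L.pow_eq_bot_of_le_succ (j := 3) (by omega)
  have huc : ∀ c ∈ L.J, u * c ∈ L.J ^ 4 := by
    have h1 : L.J ≤ (L.J ^ 4).comap (LinearMap.mulLeft k u) := by
      refine L.gens_ind hv _ (fun i => ?_) ?_
      · fin_cases i
        · exact hux
        · exact huy
      · intro b hb
        exact L.pm' (n := 4) (by omega) hu hb
    exact fun c hc => h1 hc
  have h2 : L.J ^ 2 * L.J ≤ L.J ^ 4 := by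
    rw [Submodule.mul_le]
    intro p hp c hc
    obtain ⟨p₁, hp₁, p', hp', rfl⟩ := Submodule.mem_sup.mp (hspan hp)
    obtain ⟨ζ, rfl⟩ := Submodule.mem_span_singleton.mp hp₁
    rw [add_mul, smul_mul_assoc]
    exact Submodule.add_mem _ (Submodule.smul_mem _ _ (huc c hc)) (L.pm' (by omega) hp' (L.mem1 hc))
  have e : L.J ^ 3 = L.J ^ 2 * L.J := pow_succ _ _
  rw [e]
  exact h2

theorem gens_of_two {x y : A} (hx : x ∈ L.J) (hy : y ∈ L.J)
    (h : ∀ a ∈ L.J, ∃ c d : k, ∃ a' ∈ L.J ^ 2, a = c • x + d • y + a') : L.Gens ![x, y] := by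
  refine ⟨fun i => ?_, fun a ha => ?_⟩
  · fin_cases i
    · exact hx
    · exact hy
  · obtain ⟨c, d, a', ha', rfl⟩ := h a ha
    refine ⟨![c, d], ?_⟩
    simp only [Fin.sum_univ_two, Matrix.cons_val_zero, Matrix.cons_val_one]
    have e : c • x + d • y + a' - (c • x + d • y) = a' := by abel
    rw [e]
    exact ha'

theorem gens_swap {x y : A} (hv : L.Gens ![x, y]) : L.Gens ![y, x] := by
  refine L.gens_of_two (L.gens_mem_right hv) (L.gens_mem_left hv) fun a ha => ?_
  obtain ⟨c, d, a', ha', rfl⟩ := L.gens_two hv ha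
  exact ⟨d, c, a', ha', by abel⟩

theorem gens_shear {x y : A} (hv : L.Gens ![x, y]) (e : k) : L.Gens ![x, y - e • x] := by
  have hx := L.gens_mem_left hv
  refine L.gens_of_two hx (Submodule.sub_mem _ (L.gens_mem_right hv) (Submodule.smul_mem _ _ hx)) fun a ha => ?_
  obtain ⟨c, d, a', ha', rfl⟩ := L.gens_two hv ha
  exact ⟨c + d * e, d, a', ha', by module⟩

/-- Coefficient of a commutator for two generators. -/
theorem Kc_one_two {x y : A} (hv : L.Gens ![x, y]) {s : A} (hs : s ∈ Kc L.J 1) :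
    ∃ α : k, ∃ s₂ ∈ Kc L.J 2, s = α • (x * y - y * x) + s₂ := by
  have h1 := L.Kc_one_le hv hs
  obtain ⟨p, hp, s₂, hs₂, rfl⟩ := Submodule.mem_sup.mp h1
  have h2 : Submodule.span k (Set.range fun p : Fin 2 × Fin 2 => (![x, y] : Fin 2 → A) p.1 * (![x, y] : Fin 2 → A) p.2 -
      (![x, y] : Fin 2 → A) p.2 * (![x, y] : Fin 2 → A) p.1) ≤ Submodule.span k {x * y - y * x} := by
    rw [Submodule.span_le]
    rintro _ ⟨⟨i, j⟩, rfl⟩
    have m0 : x * y - y * x ∈ Submodule.span k {x * y - y * x} := Submodule.mem_span_singleton_self _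
    have m0' := Submodule.neg_mem _ m0
    rw [neg_sub] at m0'
    have z : ∀ a : A, a * a - a * a ∈ Submodule.span k {x * y - y * x} := by
      intro a
      rw [sub_self]
      exact Submodule.zero_mem _
    fin_cases i <;> fin_cases j
    · exact z _
    · exact m0
    · exact m0'
    · exact z _
  obtain ⟨α, e⟩ := Submodule.mem_span_singleton.mp (h2 hp)
  exact ⟨α, s₂, hs₂, by rw [← e]⟩

/-- **The case of a commutator in the cube**. -/
theorem case_I {x y v₀ : A} (hv : L.Gens ![x, y]) (hw : x * y - y * x ∈ L.J ^ 3) (hv₀ : v₀ ∉ L.J ^ 3)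
    (hv₀2 : v₀ ∈ L.J ^ 2) (hspan : L.J ^ 2 ≤ Submodule.span k {v₀} ⊔ L.J ^ 3) (hJ3 : L.J ^ 3 ≠ ⊥) :
    Kc L.J 1 = ⊥ := by
  have hx := L.gens_mem_left hv
  have hy := L.gens_mem_right hv
  have hx1 := L.mem1 hx
  have hy1 := L.mem1 hy
  have hcoef : ∀ a ∈ L.J ^ 2, ∃ f : k, a - f • v₀ ∈ L.J ^ 3 := by
    intro a ha
    obtain ⟨p₁, hp₁, p', hp', rfl⟩ := Submodule.mem_sup.mp (hspan ha)
    obtain ⟨ζ, rfl⟩ := Submodule.mem_span_singleton.mp hp₁
    refine ⟨ζ, ?_⟩
    have e : ζ • v₀ + p' - ζ • v₀ = p' := by abel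
    rwa [e]
  obtain ⟨α, hα⟩ := hcoef _ (L.pm' (by omega) hx1 hx1 : x * x ∈ L.J ^ 2)
  obtain ⟨β, hβ⟩ := hcoef _ (L.pm' (by omega) hx1 hy1 : x * y ∈ L.J ^ 2)
  obtain ⟨γ, hγ⟩ := hcoef _ (L.pm' (by omega) hy1 hx1 : y * x ∈ L.J ^ 2)
  obtain ⟨δ, hδ⟩ := hcoef _ (L.pm' (by omega) hy1 hy1 : y * y ∈ L.J ^ 2)
  have hβγ : β = γ := by
    by_contra hne
    apply hv₀
    have hne' : β - γ ≠ 0 := sub_ne_zero.mpr hne
    have e : (β - γ) • v₀ = (x * y - y * x) - (x * y - β • v₀) + (y * x - γ • v₀) := by module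
    have h1 : (β - γ) • v₀ ∈ L.J ^ 3 := by
      rw [e]
      exact Submodule.add_mem _ (Submodule.sub_mem _ hw hβ) hγ
    exact (Submodule.smul_mem_iff _ hne').mp h1
  subst hβγ
  by_cases hdet : α * δ - β * β = 0
  · by_cases hα0 : α = 0
    · have hβ0 : β = 0 := by
        rw [hα0, zero_mul, zero_sub, neg_eq_zero] at hdet
        exact mul_self_eq_zero.mp hdet
      rw [hβ0, zero_smul, sub_zero] at hβ hγ
      rw [hα0, zero_smul, sub_zero] at hα
      exact L.rank_one_comm (L.gens_swap hv) hγ hβ hα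
    · set c := β / α with hc
      have hcα : c * α = β := by
        rw [hc]
        field_simp
      have hco : δ - 2 * c * β + c * c * α = 0 := by
        have e1 : c * c * α = c * β := by rw [mul_assoc, hcα]
        have e3 : β * β = α * δ := by linear_combination - hdet
        have e2 : c * β = δ := by
          rw [hc, div_mul_eq_mul_div, e3]
          field_simp
        rw [e1]
        linear_combination (-1 : k) * e2
      refine L.rank_one_comm (L.gens_shear hv c) ?_ ?_ ?_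
      · have e : x * (y - c • x) = (x * y - β • v₀) - c • (x * x - α • v₀) + (β - c * α) • v₀ := by
          simp only [mul_sub, mul_smul_comm, smul_sub, sub_smul, smul_smul]
          module
        rw [e, hcα, sub_self, zero_smul, add_zero]
        exact Submodule.sub_mem _ hβ (Submodule.smul_mem _ _ hα)
      · have e : (y - c • x) * x = (y * x - β • v₀) - c • (x * x - α • v₀) + (β - c * α) • v₀ := by
          simp only [sub_mul, smul_mul_assoc, smul_sub, sub_smul, smul_smul]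
          module
        rw [e, hcα, sub_self, zero_smul, add_zero]
        exact Submodule.sub_mem _ hγ (Submodule.smul_mem _ _ hα)
      · have e : (y - c • x) * (y - c • x) = (y * y - δ • v₀) - c • (x * y - β • v₀) - c • (y * x - β • v₀) +
            (c * c) • (x * x - α • v₀) + (δ - 2 * c * β + c * c * α) • v₀ := by
          simp only [mul_sub, sub_mul, smul_mul_assoc, mul_smul_comm]
          module
        rw [e, hco, zero_smul, add_zero]
        exact Submodule.add_mem _ (Submodule.sub_mem _ (Submodule.sub_mem _ hδ (Submodule.smul_mem _ _ hβ))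
          (Submodule.smul_mem _ _ hγ)) (Submodule.smul_mem _ _ hα)
  · exfalso
    have R1 := L.assoc_mod hx hy hα hβ
    have R2 := L.assoc_mod hx hy hβ hδ
    have R3 := L.assoc_mod hy hx hγ hα
    have R4 := L.assoc_mod hy hx hδ hγ
    have h1 : v₀ * y ∈ L.J ^ 4 := by
      have e : (α * δ - β * β) • (v₀ * y) = δ • (α • (v₀ * y) - β • (x * v₀)) - β • (β • (v₀ * y) - δ • (x * v₀)) := by
        module
      have h2 : (α * δ - β * β) • (v₀ * y) ∈ L.J ^ 4 := by
        rw [e]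
        exact Submodule.sub_mem _ (Submodule.smul_mem _ _ R1) (Submodule.smul_mem _ _ R2)
      exact (Submodule.smul_mem_iff _ hdet).mp h2
    have h2 : v₀ * x ∈ L.J ^ 4 := by
      have e : (α * δ - β * β) • (v₀ * x) = α • (δ • (v₀ * x) - β • (y * v₀)) - β • (β • (v₀ * x) - α • (y * v₀)) := by
        module
      have h3 : (α * δ - β * β) • (v₀ * x) ∈ L.J ^ 4 := by
        rw [e]
        exact Submodule.sub_mem _ (Submodule.smul_mem _ _ R4) (Submodule.smul_mem _ _ R3)
      exact (Submodule.smul_mem_iff _ hdet).mp h3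
    exact hJ3 (L.J3_bot_of hv hv₀2 hspan h2 h1)

/-- **The case of one dimensional `J^2/J^3` spanned by a commutator**. -/
theorem case_II1 {x y : A} (hv : L.Gens ![x, y]) (hw : x * y - y * x ∉ L.J ^ 3)
    (hspan : L.J ^ 2 ≤ Submodule.span k {x * y - y * x} ⊔ L.J ^ 3) : L.J ^ 3 = ⊥ := by
  have hx := L.gens_mem_left hv
  have hy := L.gens_mem_right hv
  have hx1 := L.mem1 hx
  have hy1 := L.mem1 hy
  set w := x * y - y * x with hwdef
  have hw2 : w ∈ L.J ^ 2 := Submodule.sub_mem _ (L.pm' (by omega) hx1 hy1) (L.pm' (by omega) hy1 hx1)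
  have hcoef : ∀ a ∈ L.J ^ 2, ∃ f : k, a - f • w ∈ L.J ^ 3 := by
    intro a ha
    obtain ⟨p₁, hp₁, p', hp', rfl⟩ := Submodule.mem_sup.mp (hspan ha)
    obtain ⟨ζ, rfl⟩ := Submodule.mem_span_singleton.mp hp₁
    refine ⟨ζ, ?_⟩
    have e : ζ • w + p' - ζ • w = p' := by abel
    rwa [e]
  obtain ⟨α, hα⟩ := hcoef _ (L.pm' (by omega) hx1 hx1 : x * x ∈ L.J ^ 2)
  obtain ⟨β, hβ⟩ := hcoef _ (L.pm' (by omega) hx1 hy1 : x * y ∈ L.J ^ 2)
  obtain ⟨γ, hγ⟩ := hcoef _ (L.pm' (by omega) hy1 hx1 : y * x ∈ L.J ^ 2)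
  obtain ⟨δ, hδ⟩ := hcoef _ (L.pm' (by omega) hy1 hy1 : y * y ∈ L.J ^ 2)
  have hβγ : β - γ = 1 := by
    by_contra hne
    apply hw
    have hne' : 1 - (β - γ) ≠ 0 := fun h => hne (sub_eq_zero.mp h).symm
    have e : (1 - (β - γ)) • w = (x * y - β • w) - (y * x - γ • w) := by
      rw [hwdef]
      module
    have h1 : (1 - (β - γ)) • w ∈ L.J ^ 3 := by
      rw [e]
      exact Submodule.sub_mem _ hβ hγ
    exact (Submodule.smul_mem_iff _ hne').mp h1
  have E1 := L.assoc_mod hx hx hα hα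
  have E2 := L.assoc_mod hx hy hα hβ
  have E3 := L.assoc_mod hx hx hβ hγ
  have E4 := L.assoc_mod hx hy hβ hδ
  have E5 := L.assoc_mod hy hx hγ hα
  have E6 := L.assoc_mod hy hy hγ hβ
  have E7 := L.assoc_mod hy hx hδ hγ
  have E8 := L.assoc_mod hy hy hδ hδ
  set π := (L.J ^ 4).mkQ with hπ
  have hπ0 : ∀ {a : A}, a ∈ L.J ^ 4 → π a = 0 := fun ha => (Submodule.Quotient.mk_eq_zero _).mpr ha
  set u := π (w * x) with hu
  set v := π (w * y) with hv'
  set u' := π (x * w) with hu'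
  set v' := π (y * w) with hv''
  have F1 : α • u - α • u' = 0 := by have := hπ0 E1; simpa [map_sub, map_smul] using this
  have F2 : α • v - β • u' = 0 := by have := hπ0 E2; simpa [map_sub, map_smul] using this
  have F3 : β • u - γ • u' = 0 := by have := hπ0 E3; simpa [map_sub, map_smul] using this
  have F4 : β • v - δ • u' = 0 := by have := hπ0 E4; simpa [map_sub, map_smul] using this
  have F5 : γ • u - α • v' = 0 := by have := hπ0 E5; simpa [map_sub, map_smul] using this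
  have F6 : γ • v - β • v' = 0 := by have := hπ0 E6; simpa [map_sub, map_smul] using this
  have F7 : δ • u - γ • v' = 0 := by have := hπ0 E7; simpa [map_sub, map_smul] using this
  have F8 : δ • v - δ • v' = 0 := by have := hπ0 E8; simpa [map_sub, map_smul] using this
  have hβ' : β = γ + 1 := by linear_combination hβγ
  have sm : ∀ (c : k) (z : A ⧸ L.J ^ 4), c ≠ 0 → c • z = 0 → z = 0 :=
    fun c z hc h => (smul_eq_zero.mp h).resolve_left hc
  have key : u = 0 ∧ v = 0 := by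
    by_cases hα0 : α = 0
    · by_cases hδ0 : δ = 0
      · by_cases hβ0 : β = 0
        · have hγ0 : γ ≠ 0 := by
            intro h
            rw [hβ0, h] at hβ'
            simp at hβ'
          rw [hα0, zero_smul, sub_zero] at F5
          rw [hβ0, zero_smul, sub_zero] at F6
          exact ⟨sm _ _ hγ0 F5, sm _ _ hγ0 F6⟩
        · rw [hδ0, zero_smul, sub_zero] at F4
          rw [hα0, zero_smul, zero_sub, neg_eq_zero] at F2
          have hu0' := sm _ _ hβ0 F2
          rw [hu0', smul_zero, sub_zero] at F3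
          exact ⟨sm _ _ hβ0 F3, sm _ _ hβ0 F4⟩
      · have h1 : v - v' = 0 := by
          apply sm δ _ hδ0
          rw [smul_sub]
          exact F8
        have h2 : v = v' := sub_eq_zero.mp h1
        have h3 : v = 0 := by
          rw [← h2] at F6
          have h4 : (γ - β) • v = 0 := by
            rw [sub_smul]
            exact F6
          have h5 : γ - β ≠ 0 := by
            rw [hβ']
            simp
          exact sm _ _ h5 h4
        rw [← h2, h3, smul_zero, sub_zero] at F7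
        exact ⟨sm _ _ hδ0 F7, h3⟩
    · have h1 : u - u' = 0 := by
        apply sm α _ hα0
        rw [smul_sub]
        exact F1
      have h2 : u = u' := sub_eq_zero.mp h1
      have h3 : u = 0 := by
        rw [← h2] at F3
        have h4 : (β - γ) • u = 0 := by
          rw [sub_smul]
          exact F3
        rwa [hβγ, one_smul] at h4
      rw [← h2, h3, smul_zero, sub_zero] at F2
      exact ⟨h3, sm _ _ hα0 F2⟩
  refine L.J3_bot_of hv hw2 hspan ?_ ?_
  · exact (Submodule.Quotient.mk_eq_zero _).mp key.1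
  · exact (Submodule.Quotient.mk_eq_zero _).mp key.2


/-- Elements of the commutators in the fourth power are higher commutators, in the exceptional configuration. -/
theorem k4_lemma {P Q : A} (hv : L.Gens ![P, Q]) (hPP : P * P ∈ L.J ^ 3) (hQQ : Q * Q ∈ L.J ^ 3)
    (hgen2 : ∀ u ∈ L.J ^ 2, ∃ c d : k, u - (c • (P * Q) + d • (Q * P)) ∈ L.J ^ 3)
    (hind : ∀ c d : k, c • (P * Q * P) + d • (Q * P * Q) ∈ L.J ^ 4 → c = 0 ∧ d = 0)
    (hw : P * Q - Q * P ∉ L.J ^ 3) {s : A} (hs : s ∈ Kc L.J 1) (hs4 : s ∈ L.J ^ 4) : s ∈ Kc L.J 3 := by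
  have hP := L.gens_mem_left hv
  have hQ := L.gens_mem_right hv
  have hP1 := L.mem1 hP
  have hQ1 := L.mem1 hQ
  have hPQ : P * Q ∈ L.J ^ 2 := L.pm' (by omega) hP1 hQ1
  have hQP : Q * P ∈ L.J ^ 2 := L.pm' (by omega) hQ1 hP1
  have h43 : L.J ^ 4 ≤ L.J ^ 3 := L.pow_anti (by omega) (by omega)
  let f : Fin 5 → A := ![P * Q - Q * P, P * (P * Q) - (P * Q) * P, P * (Q * P) - (Q * P) * P,
    Q * (P * Q) - (P * Q) * Q, Q * (Q * P) - (Q * P) * Q]
  set W := Submodule.span k (Set.range f) ⊔ Kc L.J 3 with hW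
  have hf : ∀ i, f i ∈ W := fun i => Submodule.mem_sup_left (Submodule.subset_span ⟨i, rfl⟩)
  have hK3 : Kc L.J 3 ≤ W := le_sup_right
  have s1P : ∀ b ∈ L.J ^ 2, P * b - b * P ∈ W := by
    intro b hb
    obtain ⟨c, d, hb'⟩ := hgen2 b hb
    have e : P * b - b * P = c • (P * (P * Q) - (P * Q) * P) + d • (P * (Q * P) - (Q * P) * P) +
        (P * (b - (c • (P * Q) + d • (Q * P))) - (b - (c • (P * Q) + d • (Q * P))) * P) := by
      simp only [mul_sub, sub_mul, mul_add, add_mul, smul_mul_assoc, mul_smul_comm]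
      module
    rw [e]
    exact Submodule.add_mem _ (Submodule.add_mem _ (Submodule.smul_mem _ _ (hf 1)) (Submodule.smul_mem _ _ (hf 2)))
      (hK3 (L.comm_mem_Kc' hP hb'))
  have s1Q : ∀ b ∈ L.J ^ 2, Q * b - b * Q ∈ W := by
    intro b hb
    obtain ⟨c, d, hb'⟩ := hgen2 b hb
    have e : Q * b - b * Q = c • (Q * (P * Q) - (P * Q) * Q) + d • (Q * (Q * P) - (Q * P) * Q) +
        (Q * (b - (c • (P * Q) + d • (Q * P))) - (b - (c • (P * Q) + d • (Q * P))) * Q) := by
      simp only [mul_sub, sub_mul, mul_add, add_mul, smul_mul_assoc, mul_smul_comm]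
      module
    rw [e]
    exact Submodule.add_mem _ (Submodule.add_mem _ (Submodule.smul_mem _ _ (hf 3)) (Submodule.smul_mem _ _ (hf 4)))
      (hK3 (L.comm_mem_Kc' hQ hb'))
  have s2 : ∀ a ∈ L.J ^ 2, ∀ b ∈ L.J, a * b - b * a ∈ W := by
    intro a ha b hb
    refine L.gens_ind hv (W.comap (LinearMap.mulLeft k a - LinearMap.mulRight k a)) (fun i => ?_) ?_ hb
    · have e1 := Submodule.neg_mem _ (s1P a ha)
      have e2 := Submodule.neg_mem _ (s1Q a ha)
      rw [neg_sub] at e1 e2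
      fin_cases i
      · exact e1
      · exact e2
    · intro b hb
      exact hK3 (L.comm_mem_Kc_of (n := 3) (by omega) (by omega) (by omega) ha hb)
  have s3P : ∀ b ∈ L.J, P * b - b * P ∈ W := by
    intro b hb
    refine L.gens_ind hv (W.comap (LinearMap.mulLeft k P - LinearMap.mulRight k P)) (fun i => ?_) ?_ hb
    · fin_cases i
      · change P * P - P * P ∈ W
        rw [sub_self]
        exact Submodule.zero_mem _
      · exact hf 0
    · exact s1P
  have s3Q : ∀ b ∈ L.J, Q * b - b * Q ∈ W := by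
    intro b hb
    refine L.gens_ind hv (W.comap (LinearMap.mulLeft k Q - LinearMap.mulRight k Q)) (fun i => ?_) ?_ hb
    · fin_cases i
      · have e := Submodule.neg_mem _ (hf 0)
        have e' : - f 0 = Q * P - P * Q := by simp [f]
        rw [e'] at e
        exact e
      · change Q * Q - Q * Q ∈ W
        rw [sub_self]
        exact Submodule.zero_mem _
    · exact s1Q
  have s4 : Kc L.J 1 ≤ W := by
    rw [Kc, Submodule.span_le]
    rintro _ ⟨a, ha, b, hb, rfl⟩
    rw [pow_one] at hb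
    refine L.gens_ind hv (W.comap (LinearMap.mulRight k b - LinearMap.mulLeft k b)) (fun i => ?_) ?_ ha
    · fin_cases i
      · exact s3P b hb
      · exact s3Q b hb
    · intro a ha
      exact s2 a ha b hb
  obtain ⟨p, hp, k₃, hk₃, rfl⟩ := Submodule.mem_sup.mp (s4 hs)
  obtain ⟨c, rfl⟩ := (Submodule.mem_span_range_iff_exists_fun k).mp hp
  rw [Fin.sum_univ_five] at hs4 ⊢
  simp only [f, Matrix.cons_val_zero, Matrix.cons_val_one, Matrix.cons_val] at hs4 ⊢
  have hk₃4 : k₃ ∈ L.J ^ 4 := L.Kc_le 3 hk₃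
  set α := c 0
  set g₁ := c 1
  set g₂ := c 2
  set h₁ := c 3
  set h₂ := c 4
  have hPPQ : (P * P) * Q ∈ L.J ^ 4 := L.pm' (by omega) hPP hQ1
  have hQPP : Q * (P * P) ∈ L.J ^ 4 := L.pm' (by omega) hQ1 hPP
  have hPQQ : P * (Q * Q) ∈ L.J ^ 4 := L.pm' (by omega) hP1 hQQ
  have hQQP : (Q * Q) * P ∈ L.J ^ 4 := L.pm' (by omega) hQQ hP1
  have hPQP : P * Q * P ∈ L.J ^ 3 := L.pm' (by omega) hPQ hP1
  have hQPQ : Q * P * Q ∈ L.J ^ 3 := L.pm' (by omega) hQP hQ1
  have expand : α • (P * Q - Q * P) + g₁ • (P * (P * Q) - P * Q * P) + g₂ • (P * (Q * P) - Q * P * P) +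
      h₁ • (Q * (P * Q) - P * Q * Q) + h₂ • (Q * (Q * P) - Q * P * Q) =
      α • (P * Q - Q * P) + (g₂ - g₁) • (P * Q * P) + (h₁ - h₂) • (Q * P * Q) +
        (g₁ • ((P * P) * Q) - g₂ • (Q * (P * P)) - h₁ • (P * (Q * Q)) + h₂ • ((Q * Q) * P)) := by
    simp only [mul_sub, sub_mul, mul_assoc]
    module
  have hrest : g₁ • ((P * P) * Q) - g₂ • (Q * (P * P)) - h₁ • (P * (Q * Q)) + h₂ • ((Q * Q) * P) ∈ L.J ^ 4 :=
    Submodule.add_mem _ (Submodule.sub_mem _ (Submodule.sub_mem _ (Submodule.smul_mem _ _ hPPQ)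
      (Submodule.smul_mem _ _ hQPP)) (Submodule.smul_mem _ _ hPQQ)) (Submodule.smul_mem _ _ hQQP)
  rw [expand] at hs4
  -- the first coefficient
  have hα : α = 0 := by
    by_contra hne
    apply hw
    refine (Submodule.smul_mem_iff _ hne).mp ?_
    have e : α • (P * Q - Q * P) = (α • (P * Q - Q * P) + (g₂ - g₁) • (P * Q * P) + (h₁ - h₂) • (Q * P * Q) +
        (g₁ • ((P * P) * Q) - g₂ • (Q * (P * P)) - h₁ • (P * (Q * Q)) + h₂ • ((Q * Q) * P)) + k₃) -
        (g₂ - g₁) • (P * Q * P) - (h₁ - h₂) • (Q * P * Q) -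
        (g₁ • ((P * P) * Q) - g₂ • (Q * (P * P)) - h₁ • (P * (Q * Q)) + h₂ • ((Q * Q) * P)) - k₃ := by abel
    rw [e]
    exact Submodule.sub_mem _ (Submodule.sub_mem _ (Submodule.sub_mem _ (Submodule.sub_mem _ (h43 hs4)
      (Submodule.smul_mem _ _ hPQP)) (Submodule.smul_mem _ _ hQPQ)) (h43 hrest)) (h43 hk₃4)
  -- the next coefficients
  have hgh : g₂ - g₁ = 0 ∧ h₁ - h₂ = 0 := by
    apply hind
    have e : (g₂ - g₁) • (P * Q * P) + (h₁ - h₂) • (Q * P * Q) = (α • (P * Q - Q * P) + (g₂ - g₁) • (P * Q * P) +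
        (h₁ - h₂) • (Q * P * Q) + (g₁ • ((P * P) * Q) - g₂ • (Q * (P * P)) - h₁ • (P * (Q * Q)) + h₂ • ((Q * Q) * P)) + k₃) -
        (g₁ • ((P * P) * Q) - g₂ • (Q * (P * P)) - h₁ • (P * (Q * Q)) + h₂ • ((Q * Q) * P)) - k₃ := by
      rw [hα]
      simp only [zero_smul, zero_add]
      abel
    rw [e]
    exact Submodule.sub_mem _ (Submodule.sub_mem _ hs4 hrest) hk₃4
  have hg : g₂ = g₁ := sub_eq_zero.mp hgh.1
  have hh : h₂ = h₁ := (sub_eq_zero.mp hgh.2).symm
  have efinal : α • (P * Q - Q * P) + g₁ • (P * (P * Q) - P * Q * P) + g₂ • (P * (Q * P) - Q * P * P) +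
      h₁ • (Q * (P * Q) - P * Q * Q) + h₂ • (Q * (Q * P) - Q * P * Q) + k₃ =
      g₁ • ((P * P) * Q - Q * (P * P)) + h₁ • ((Q * Q) * P - P * (Q * Q)) + k₃ := by
    rw [hα, hg, hh]
    simp only [mul_sub, sub_mul, mul_assoc]
    module
  rw [efinal]
  exact Submodule.add_mem _ (Submodule.add_mem _ (Submodule.smul_mem _ _ (L.comm_mem_Kc'' hQ hPP))
    (Submodule.smul_mem _ _ (L.comm_mem_Kc'' hP hQQ))) hk₃


section Exc

variable [FiniteDimensional k A]

/-- The exceptional configuration forces the fifth power of the radical to vanish. -/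
theorem exc_J5 {θ : A →ₗ[k] k} (h1 : ∀ s ∈ Kc L.J 3, θ s = 0) (h2 : ∀ s ∈ L.J ^ (3 + 2), θ s = 0)
    (h3 : ∃ a ∈ L.J ^ (3 + 1), θ a ≠ 0) {x y : A} (hv : L.Gens ![x, y]) (hw3 : x * y - y * x ∉ L.J ^ 3)
    (hf1 : finrank k L.J = finrank k (L.J ^ 2 : Submodule k A) + 2)
    (hf23 : finrank k (L.J ^ 2 : Submodule k A) ≤ finrank k (L.J ^ 3 : Submodule k A) + 2)
    {σ : A} (hσ : ∀ j, 1 ≤ j → L.J ^ j ≠ ⊥ → σ ∈ L.J ^ j) (hJ3P : L.J ^ 3 ≤ Kc L.J 1 ⊔ Submodule.span k {σ})
    (hn1 : finrank k ((L.mkData 3 θ h1 h2 h3).toGS.Eg 1) = 2) (hn2 : finrank k ((L.mkData 3 θ h1 h2 h3).toGS.Eg 2) = 2)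
    {a b : (L.mkData 3 θ h1 h2 h3).Et} (ha : a ∈ (L.mkData 3 θ h1 h2 h3).toGS.Eg 1)
    (hb : b ∈ (L.mkData 3 θ h1 h2 h3).toGS.Eg 1) (haa : a * a = 0) (hbb : b * b = 0)
    (hsp1 : ∀ x ∈ (L.mkData 3 θ h1 h2 h3).toGS.Eg 1, ∃ c d : k, x = c • a + d • b)
    (hsp2 : ∀ x ∈ (L.mkData 3 θ h1 h2 h3).toGS.Eg 2, ∃ c d : k, x = c • (a * b) + d • (b * a))
    (hind : ∀ c d : k, c • (a * b * a) + d • (b * a * b) = 0 → c = 0 ∧ d = 0) : L.J ^ 5 = ⊥ := by
  set D := L.mkData 3 θ h1 h2 h3 with hD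
  have hDJ : D.J = L.J := rfl
  have hRo : ∀ {j : ℕ} (_ : 1 ≤ j) (_ : j ≤ 4) {u : A}, u ∈ L.J ^ (j + 1) → u ∈ D.Rr j :=
    fun hj hj4 _ hu => L.mkData_Rr_of h1 h2 h3 hj hj4 hu
  have hR2 : D.Rr 2 ≤ L.J ^ 3 := by
    have hle : D.Rr 2 ≤ D.J ^ 2 := fun u hu => hu.1
    have e := D.finrank_Eg_add hle
    have hJ3R : L.J ^ 3 ≤ D.Rr 2 := fun u hu => hRo (j := 2) (by omega) (by omega) hu
    have e' : finrank k (D.toGS.Eg 2) + finrank k (D.Rr 2) = finrank k (L.J ^ 2 : Submodule k A) := e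
    have h4 : L.J ^ 3 = D.Rr 2 := Submodule.eq_of_le_of_finrank_le hJ3R (by omega)
    exact h4.ge
  have hR1 : D.Rr 1 ≤ L.J ^ 2 := by
    have hle : D.Rr 1 ≤ D.J ^ 1 := fun u hu => hu.1
    have e := D.finrank_Eg_add hle
    have hJ2R : L.J ^ 2 ≤ D.Rr 1 := fun u hu => hRo (j := 1) (by omega) (by omega) hu
    have e0 : finrank k (D.J ^ 1 : Submodule k A) = finrank k L.J := by
      rw [hDJ, pow_one]
    rw [e0] at e
    have h4 : L.J ^ 2 = D.Rr 1 := Submodule.eq_of_le_of_finrank_le hJ2R (by omega)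
    exact h4.ge
  obtain ⟨⟨P, hP⟩, rfl⟩ := ha
  obtain ⟨⟨Q, hQ⟩, rfl⟩ := hb
  have hPJ1 : P ∈ L.J ^ 1 := hP
  have hQJ1 : Q ∈ L.J ^ 1 := hQ
  have hPJ : P ∈ L.J := by rwa [pow_one] at hPJ1
  have hQJ : Q ∈ L.J := by rwa [pow_one] at hQJ1
  -- products
  have hPP : P * P ∈ L.J ^ 3 := by
    rw [D.iota_mul, D.iota_eq_zero_iff] at haa
    exact hR2 haa
  have hQQ : Q * Q ∈ L.J ^ 3 := by
    rw [D.iota_mul, D.iota_eq_zero_iff] at hbb
    exact hR2 hbb
  have hgens : L.Gens ![P, Q] := by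
    refine L.gens_of_two hPJ hQJ fun u hu => ?_
    have hu1 : u ∈ D.J ^ 1 := L.mem1 hu
    obtain ⟨c, d, e⟩ := hsp1 (D.iota 1 ⟨u, hu1⟩) ⟨_, rfl⟩
    have e1 : D.iota 1 (⟨u, hu1⟩ - (c • ⟨P, hP⟩ + d • ⟨Q, hQ⟩)) = 0 := by
      rw [map_sub, map_add, map_smul, map_smul, e, sub_self]
    rw [D.iota_eq_zero_iff] at e1
    have e2 := hR1 e1
    refine ⟨c, d, _, e2, ?_⟩
    simp only [Submodule.coe_sub, Submodule.coe_add, Submodule.coe_smul]
    abel
  have hgen2 : ∀ u ∈ L.J ^ 2, ∃ c d : k, u - (c • (P * Q) + d • (Q * P)) ∈ L.J ^ 3 := by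
    intro u hu
    have hu2 : u ∈ D.J ^ 2 := hu
    obtain ⟨c, d, e⟩ := hsp2 (D.iota 2 ⟨u, hu2⟩) ⟨_, rfl⟩
    rw [D.iota_mul, D.iota_mul] at e
    have e1 : D.iota 2 (⟨u, hu2⟩ - (c • ⟨P * Q, D.pow_mul_mem hP hQ⟩ + d • ⟨Q * P, D.pow_mul_mem hQ hP⟩)) = 0 := by
      rw [map_sub, map_add, map_smul, map_smul]
      exact sub_eq_zero.mpr e
    rw [D.iota_eq_zero_iff] at e1
    have e2 := hR2 e1
    exact ⟨c, d, by simpa using e2⟩
  have hind' : ∀ c d : k, c • (P * Q * P) + d • (Q * P * Q) ∈ L.J ^ 4 → c = 0 ∧ d = 0 := by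
    intro c d hcd
    apply hind
    rw [D.iota_mul, D.iota_mul, D.iota_mul, D.iota_mul]
    have hm1 : P * Q * P ∈ D.J ^ 3 := D.pow_mul_mem (D.pow_mul_mem hP hQ) hP
    have hm2 : Q * P * Q ∈ D.J ^ 3 := D.pow_mul_mem (D.pow_mul_mem hQ hP) hQ
    have e1 : c • D.iota 3 ⟨P * Q * P, hm1⟩ + d • D.iota 3 ⟨Q * P * Q, hm2⟩ =
        D.iota 3 (c • ⟨P * Q * P, hm1⟩ + d • ⟨Q * P * Q, hm2⟩) := by
      rw [map_add, map_smul, map_smul]
    refine e1.trans ?_
    rw [D.iota_eq_zero_iff]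
    exact hRo (j := 3) (by omega) (by omega) (by simpa using hcd)
  have hK2 : Kc L.J 2 ≤ L.J ^ 3 := L.Kc_le 2
  have hw' : P * Q - Q * P ∉ L.J ^ 3 := by
    intro hin
    apply hw3
    obtain ⟨α, s₂, hs₂, e⟩ := L.Kc_one_two hgens (L.comm_mem_Kc' (L.gens_mem_left hv) (L.mem1 (L.gens_mem_right hv)))
    rw [e]
    exact Submodule.add_mem _ (Submodule.smul_mem _ _ hin) (hK2 hs₂)
  -- the conclusion
  by_contra h5
  have hσ5 : σ ∈ L.J ^ 5 := hσ 5 (by omega) h5
  have hσ4 : σ ∈ L.J ^ 4 := L.pow_anti (i := 4) (j := 5) (by omega) (by omega) hσ5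
  obtain ⟨a₀, ha₀, hθ⟩ := h3
  apply hθ
  have ha₀4 : a₀ ∈ L.J ^ 4 := ha₀
  have ha₀3 : a₀ ∈ L.J ^ 3 := L.pow_anti (i := 3) (j := 4) (by omega) (by omega) ha₀4
  obtain ⟨s, hs, s₁, hs₁, rfl⟩ := Submodule.mem_sup.mp (hJ3P ha₀3)
  obtain ⟨c, rfl⟩ := Submodule.mem_span_singleton.mp hs₁
  have hs4 : s ∈ L.J ^ 4 := by
    have e : s = s + c • σ - c • σ := by abel
    rw [e]
    exact Submodule.sub_mem _ ha₀4 (Submodule.smul_mem _ _ hσ4)
  have hs3 := L.k4_lemma hgens hPP hQQ hgen2 hind' hw' hs hs4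
  rw [map_add, map_smul, h1 s hs3, h2 σ hσ5, smul_zero, add_zero]

end Exc

/-- **The two generator case.** -/
theorem case_d2 [IsAlgClosed k] [FiniteDimensional k A] {x y : A} (hv : L.Gens ![x, y])
    (hdim : finrank k L.J = finrank k (L.J ^ 2 : Submodule k A) + 2) (hK : Kc L.J 1 ≠ ⊥) {σ : A}
    (hlam : L.lam σ ≠ 0) (hsoc : ∀ a, (∀ b ∈ L.J, L.lam (a * b) = 0) → ∃ c : k, a = c • σ)
    (hσ : ∀ j, 1 ≤ j → L.J ^ j ≠ ⊥ → σ ∈ L.J ^ j)
    (hs : finrank k (L.J ^ 2 : Submodule k A) ≤ finrank k (Kc L.J 1 ⊔ Submodule.span k {σ} : Submodule k A) + 1) :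
    finrank k A ≤ 8 := by
  have hx := L.gens_mem_left hv
  have hy := L.gens_mem_right hv
  have hx1 := L.mem1 hx
  have hy1 := L.mem1 hy
  set w := x * y - y * x with hwdef
  have hw2 : w ∈ L.J ^ 2 := Submodule.sub_mem _ (L.pm' (by omega) hx1 hy1) (L.pm' (by omega) hy1 hx1)
  have hwK : w ∈ Kc L.J 1 := L.comm_mem_Kc' hx hy1
  have hK2 : Kc L.J 1 ≤ L.J ^ 2 := L.Kc_le 1
  have hJ2ne : L.J ^ 2 ≠ ⊥ := fun h => hK (le_bot_iff.mp (h ▸ hK2))
  have hJne : L.J ≠ ⊥ := by
    intro h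
    apply hJ2ne
    rw [eq_bot_iff]
    refine (L.pow_anti (i := 1) (j := 2) le_rfl (by omega)).trans ?_
    rw [pow_one, h]
  have hK23 : Kc L.J 2 ≤ L.J ^ 3 := L.Kc_le 2
  have hKw : ∀ s ∈ Kc L.J 1, ∃ α : k, ∃ s₂ ∈ Kc L.J 2, s = α • w + s₂ := fun s hs => L.Kc_one_two hv hs
  have hσ2 : σ ∈ L.J ^ 2 := hσ 2 (by omega) hJ2ne
  have hPle : Kc L.J 1 ⊔ Submodule.span k {σ} ≤ L.J ^ 2 := sup_le hK2 (by simpa [Submodule.span_le] using hσ2)
  have h32 : L.J ^ 3 ≤ L.J ^ 2 := L.pow_anti (by omega) (by omega)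
  by_cases hw3 : w ∈ L.J ^ 3
  · exfalso
    have hKJ3 : Kc L.J 1 ≤ L.J ^ 3 := by
      intro s hs'
      obtain ⟨α, s₂, hs₂, rfl⟩ := hKw s hs'
      exact Submodule.add_mem _ (Submodule.smul_mem _ _ hw3) (hK23 hs₂)
    have hJ3 : L.J ^ 3 ≠ ⊥ := fun h => hK (le_bot_iff.mp (h ▸ hKJ3))
    have hσ3 : σ ∈ L.J ^ 3 := hσ 3 (by omega) hJ3
    have hPJ3 : Kc L.J 1 ⊔ Submodule.span k {σ} ≤ L.J ^ 3 := sup_le hKJ3 (by simpa [Submodule.span_le] using hσ3)
    have hnle : ¬ L.J ^ 2 ≤ L.J ^ 3 := fun h => hJ2ne (L.pow_eq_bot_of_le_succ (j := 2) (by omega) h)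
    obtain ⟨v₀, hv₀2, hv₀⟩ := SetLike.not_le_iff_exists.mp hnle
    have hf1 := Submodule.finrank_mono hPJ3
    have hf2 : finrank k (L.J ^ 3 : Submodule k A) < finrank k (L.J ^ 2 : Submodule k A) :=
      Submodule.finrank_lt_finrank_of_lt (lt_of_le_of_ne h32 (fun h => hnle h.ge))
    have hspan : L.J ^ 2 ≤ Submodule.span k {v₀} ⊔ L.J ^ 3 := by
      intro a ha
      obtain ⟨c, p, hp, rfl⟩ := GS.exists_decomp (Q₀ := L.J ^ 3) (Q₁ := L.J ^ 2) h32 (by omega) hv₀2 hv₀ ha
      rw [add_comm]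
      exact Submodule.add_mem_sup (Submodule.smul_mem _ _ (Submodule.mem_span_singleton_self _)) hp
    exact hK (L.case_I hv hw3 hv₀ hv₀2 hspan hJ3)
  have hJ3 : L.J ^ 3 ≠ ⊥ := by
    intro h
    obtain ⟨c, hc⟩ := hsoc w (fun b hb => by
      have h1 : w * b ∈ L.J ^ 3 := L.pm' (by omega) hw2 (L.mem1 hb)
      rw [h, Submodule.mem_bot] at h1
      rw [h1, map_zero])
    have h1 : L.lam w = 0 := L.lam_Kc hwK
    rw [hc, map_smul] at h1
    have hc0 : c = 0 := (smul_eq_zero.mp h1).resolve_right hlam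
    apply hw3
    rw [hc, hc0, zero_smul]
    exact Submodule.zero_mem _
  have hσ3 : σ ∈ L.J ^ 3 := hσ 3 (by omega) hJ3
  have hnot1 : ¬ L.J ^ 2 ≤ Submodule.span k {w} ⊔ L.J ^ 3 := fun h => hJ3 (L.case_II1 hv hw3 h)
  set R := Submodule.span k {w} ⊔ L.J ^ 3 with hR
  have hwR : w ∈ R := Submodule.mem_sup_left (Submodule.mem_span_singleton_self _)
  have hRle : R ≤ L.J ^ 2 := sup_le (by simpa [Submodule.span_le] using hw2) h32
  have hPR : Kc L.J 1 ⊔ Submodule.span k {σ} ≤ R := by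
    refine sup_le ?_ ?_
    · intro s hs'
      obtain ⟨α, s₂, hs₂, rfl⟩ := hKw s hs'
      exact Submodule.add_mem _ (Submodule.smul_mem _ _ hwR) (Submodule.mem_sup_right (hK23 hs₂))
    · rw [Submodule.span_le]
      have hσR : σ ∈ R := Submodule.mem_sup_right hσ3
      simpa using hσR
  obtain ⟨v₀, hv₀2, hv₀⟩ := SetLike.not_le_iff_exists.mp hnot1
  have hRlt : finrank k R < finrank k (L.J ^ 2 : Submodule k A) :=
    Submodule.finrank_lt_finrank_of_lt (lt_of_le_of_ne hRle (fun h => hnot1 h.ge))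
  have hRP : R ≤ Kc L.J 1 ⊔ Submodule.span k {σ} := (Submodule.eq_of_le_of_finrank_le hPR (by omega)).ge
  have hJ3P : L.J ^ 3 ≤ Kc L.J 1 ⊔ Submodule.span k {σ} := le_sup_right.trans hRP
  have hfR : finrank k R ≤ finrank k (L.J ^ 3 : Submodule k A) + 1 := by
    have h1 : finrank k R ≤ finrank k (Submodule.span k {w}) + finrank k (L.J ^ 3 : Submodule k A) :=
      Submodule.finrank_add_le_finrank_add_finrank (Submodule.span k {w}) (L.J ^ 3)
    have h2 : finrank k (Submodule.span k {w}) ≤ 1 := (finrank_span_le_card (R := k) ({w} : Set A)).trans (by simp)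
    omega
  have hPRe : finrank k (Kc L.J 1 ⊔ Submodule.span k {σ} : Submodule k A) ≤ finrank k R := Submodule.finrank_mono hPR
  have hf23 : finrank k (L.J ^ 2 : Submodule k A) ≤ finrank k (L.J ^ 3 : Submodule k A) + 2 := by omega
  have hspan2 : ∀ a ∈ L.J ^ 2, ∃ c d : k, ∃ b ∈ L.J ^ 3, a = c • v₀ + d • w + b := by
    intro a ha
    obtain ⟨c, p, hp, rfl⟩ := GS.exists_decomp (Q₀ := R) (Q₁ := L.J ^ 2) hRle (by omega) hv₀2 hv₀ ha
    obtain ⟨p₁, hp₁, p', hp', rfl⟩ := Submodule.mem_sup.mp hp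
    obtain ⟨d, rfl⟩ := Submodule.mem_span_singleton.mp hp₁
    exact ⟨c, d, p', hp', by abel⟩
  by_cases h4 : L.J ^ 4 = ⊥
  · exfalso
    have hperp : ∀ b ∈ L.J, L.lam (w * b) = 0 := by
      have h1 : L.J ≤ LinearMap.ker (L.lam ∘ₗ LinearMap.mulLeft k w) := by
        refine L.gens_ind hv _ (fun i => ?_) ?_
        · fin_cases i
          · change L.lam (w * x) = 0
            rw [hwdef, sub_mul, map_sub, mul_assoc x y x, L.sym x (y * x), sub_self]
          · change L.lam (w * y) = 0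
            rw [hwdef, sub_mul, map_sub, mul_assoc y x y, L.sym y (x * y), sub_self]
        · intro b hb
          have h2 : w * b ∈ L.J ^ 4 := L.pm' (by omega) hw2 hb
          rw [h4, Submodule.mem_bot] at h2
          change L.lam (w * b) = 0
          rw [h2, map_zero]
      exact fun b hb => h1 hb
    obtain ⟨c, hc⟩ := hsoc w hperp
    apply hw3
    rw [hc]
    exact Submodule.smul_mem _ _ hσ3
  have hσ4 : σ ∈ L.J ^ 4 := hσ 4 (by omega) h4
  have hH2 : L.H 2 := by
    change L.J ^ 3 ≤ Kc L.J 2 ⊔ L.J ^ 4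
    intro a ha
    obtain ⟨s, hs', s₁, hs₁, rfl⟩ := Submodule.mem_sup.mp (hJ3P ha)
    obtain ⟨c, rfl⟩ := Submodule.mem_span_singleton.mp hs₁
    obtain ⟨α, s₂, hs₂, rfl⟩ := hKw s hs'
    have hα0 : α = 0 := by
      by_contra hne
      apply hw3
      refine (Submodule.smul_mem_iff _ hne).mp ?_
      have e : α • w = (α • w + s₂ + c • σ) - s₂ - c • σ := by abel
      rw [e]
      exact Submodule.sub_mem _ (Submodule.sub_mem _ ha (hK23 hs₂)) (Submodule.smul_mem _ _ hσ3)
    rw [hα0, zero_smul, zero_add]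
    exact Submodule.add_mem_sup hs₂ (Submodule.smul_mem _ _ hσ4)
  obtain ⟨q, hq2, hnq, hmin⟩ := L.exists_least_not_H (L.exists_not_H (m := 2) hJne hJ3)
  have hq3 : 3 ≤ q := by
    by_contra hlt
    have hq : q = 2 := by omega
    rw [hq] at hnq
    exact hnq hH2
  obtain ⟨θ, h0, h3⟩ := LSA.exists_functional (U := Kc L.J q ⊔ L.J ^ (q + 2)) (W := L.J ^ (q + 1)) hnq
  have h1 : ∀ s ∈ Kc L.J q, θ s = 0 := fun s hs => h0 s (Submodule.mem_sup_left hs)
  have h2 : ∀ s ∈ L.J ^ (q + 2), θ s = 0 := fun s hs => h0 s (Submodule.mem_sup_right hs)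
  have he : finrank k ((L.mkData q θ h1 h2 h3).toGS.Eg 2) ≤ 2 := by
    refine Rees.Data.finrank_Eg_le (L.mkData q θ h1 h2 h3) ![⟨v₀, hv₀2⟩, ⟨w, hw2⟩] ?_
    intro a ha
    obtain ⟨c, d, b, hb, e⟩ := hspan2 a ha
    refine ⟨![c, d], ?_⟩
    simp only [Fin.sum_univ_two, Matrix.cons_val_zero, Matrix.cons_val_one]
    have e2 : a - (c • v₀ + d • w) = b := by
      rw [e]
      abel
    rw [e2]
    exact L.mkData_Rr_of h1 h2 h3 (j := 2) (by omega) (by omega) hb
  obtain ⟨hr, hn1, hn2, a, ha, b, hb, haa, hbb, hsp1, hsp2, hind⟩ := GS.gs2 ((L.mkData q θ h1 h2 h3).toGS)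
    (by change 4 ≤ q + 1; omega) ((L.mkData_rank_one h1 h2 h3 hv)) he
    (fun j hj hjq => by
      have hjq' : j + 2 ≤ q + 1 := hjq
      exact L.mkData_HC h1 h2 h3 (by omega) (by omega) (hmin j hj (by omega)))
  have hq4 : q = 3 := by
    have hr' : q + 1 = 4 := hr
    omega
  subst hq4
  have hJ5 := L.exc_J5 h1 h2 h3 hv hw3 hdim hf23 hσ hJ3P hn1 hn2 ha hb haa hbb hsp1 hsp2 hind
  have hle : L.J ^ 3 ≤ L.perp (L.J ^ 2) := by
    intro a ha s hs
    have h5 : a * s ∈ L.J ^ 5 := L.pm' (by omega) ha hs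
    rw [hJ5, Submodule.mem_bot] at h5
    rw [h5, map_zero]
  have h6 := Submodule.finrank_mono hle
  have h7 := L.finrank_perp (L.J ^ 2)
  have h8 := L.finrank_J
  omega

end LSA

end Cfsg.Agent.Lib.KS84
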