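import Mathlib
import Cfsg.Agent.Lib.KS84.D2

/-!
# Local symmetric algebras with a center of dimension at most five have dimension at most eight
-/

set_option autoImplicit false
set_option linter.unusedSectionVars false
set_option linter.style.haveILetI false

namespace Cfsg.Agent.Lib.KS84

open Module

open Rees (Kc)

variable {k A : Type*} [Field k] [Ring A] [Algebra k A]

namespace LSA

variable (L : LSA k A)

include L in
/-- **Main theorem on local symmetric algebras**: if the center has dimension at most five then the algebra has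
dimension at most eight. -/
theorem finrank_le_eight [IsAlgClosed k] [FiniteDimensional k A]
    (hZ : finrank k (Subalgebra.toSubmodule (Subalgebra.center k A)) ≤ 5) : finrank k A ≤ 8 := by
  by_cases hK : Kc L.J 1 = ⊥
  · have := L.finrank_of_Kc_eq_bot hK
    omega
  have hK2 : Kc L.J 1 ≤ L.J ^ 2 := L.Kc_le 1
  have hJ2ne : L.J ^ 2 ≠ ⊥ := fun h => hK (le_bot_iff.mp (h ▸ hK2))
  have hJ21 : L.J ^ 2 ≤ L.J := by
    have := L.pow_anti (i := 1) (j := 2) le_rfl (by omega)
    rwa [pow_one] at this
  have hJne : L.J ≠ ⊥ := by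
    intro h
    apply hJ2ne
    rw [eq_bot_iff, ← h]
    exact hJ21
  obtain ⟨σ, hσ0, hlam, hz, hsoc, hσ⟩ := L.exists_socle hJne
  have hσ2 : σ ∈ L.J ^ 2 := hσ 2 (by omega) hJ2ne
  have hPle : Kc L.J 1 ⊔ Submodule.span k {σ} ≤ L.J ^ 2 := sup_le hK2 (by simpa [Submodule.span_le] using hσ2)
  have hσK : σ ∉ Kc L.J 1 := fun h => hlam (L.lam_Kc h)
  have hfP : finrank k (Kc L.J 1 ⊔ Submodule.span k {σ} : Submodule k A) = finrank k (Kc L.J 1) + 1 := by
    have h1 := Submodule.finrank_sup_add_finrank_inf_eq (Kc L.J 1) (Submodule.span k {σ})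
    have h2 : Kc L.J 1 ⊓ Submodule.span k {σ} = ⊥ := by
      rw [eq_bot_iff]
      rintro a ⟨ha, ha'⟩
      obtain ⟨c, rfl⟩ := Submodule.mem_span_singleton.mp ha'
      by_cases hc : c = 0
      · simp [hc]
      · exfalso
        exact hσK ((Submodule.smul_mem_iff _ hc).mp ha)
    rw [h2, finrank_bot, finrank_span_singleton hσ0] at h1
    omega
  have h1 := L.finrank_center_add
  have h2 := L.finrank_J
  have h3 := Submodule.finrank_mono hPle
  have h4 := Submodule.finrank_mono hJ21
  obtain ⟨d, hd⟩ : ∃ d, d = finrank k L.J - finrank k (L.J ^ 2 : Submodule k A) := ⟨_, rfl⟩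
  have hdim : finrank k L.J = finrank k (L.J ^ 2 : Submodule k A) + d := by omega
  obtain ⟨v, hv⟩ : ∃ v : Fin d → A, L.Gens v := by
    subst hd
    exact L.exists_gens
  have hd3 : d ≤ 3 := by omega
  have hzm : (0 : A) ∈ L.J := L.J.zero_mem
  have hnot : d ≤ 1 → False := by
    intro hd1
    apply hK
    by_cases hd0 : d = 0
    · subst hd0
      have hG : L.Gens ![(0 : A), 0] := by
        refine L.gens_of_two hzm hzm fun a ha => ?_
        obtain ⟨c, hc⟩ := hv.2 a ha
        simp only [Finset.univ_eq_empty, Finset.sum_empty, sub_zero] at hc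
        exact ⟨0, 0, a, hc, by simp⟩
      exact L.rank_one_comm hG (by simp) (by simp) (by simp)
    · have hd1' : d = 1 := by omega
      subst hd1'
      have hG : L.Gens ![v 0, (0 : A)] := by
        refine L.gens_of_two (hv.1 0) hzm fun a ha => ?_
        obtain ⟨c, hc⟩ := hv.2 a ha
        rw [Fin.sum_univ_one] at hc
        exact ⟨c 0, 0, _, hc, by abel_nf; simp⟩
      exact L.rank_one_comm hG (by simp) (by simp) (by simp)
  have hd23 : d = 2 ∨ d = 3 := by
    by_contra hcon
    have : d ≤ 1 := by omega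
    exact hnot this
  rcases hd23 with rfl | rfl
  · have hG : L.Gens ![v 0, v 1] := by
      refine L.gens_of_two (hv.1 0) (hv.1 1) fun a ha => ?_
      obtain ⟨c, hc⟩ := hv.2 a ha
      rw [Fin.sum_univ_two] at hc
      exact ⟨c 0, c 1, _, hc, by abel⟩
    exact L.case_d2 hG hdim hK hlam hsoc hσ (by omega)
  · by_cases h4' : L.J ^ 4 = ⊥
    · have hle : L.J ^ 2 ≤ L.perp (L.J ^ 2) := by
        intro a ha s hs
        have h5 : a * s ∈ L.J ^ 4 := L.pm' (by omega) ha hs
        rw [h4', Submodule.mem_bot] at h5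
        rw [h5, map_zero]
      have h6 := Submodule.finrank_mono hle
      have h7 := L.finrank_perp (L.J ^ 2)
      omega
    · exfalso
      have hσ4 : σ ∈ L.J ^ 4 := hσ 4 (by omega) h4'
      have hσ3 : σ ∈ L.J ^ 3 := L.pow_anti (i := 3) (j := 4) (by omega) (by omega) hσ4
      have hJ2P : L.J ^ 2 ≤ Kc L.J 1 ⊔ Submodule.span k {σ} :=
        (Submodule.eq_of_le_of_finrank_le hPle (by omega)).ge
      have hH1 : L.H 1 := by
        change L.J ^ 2 ≤ Kc L.J 1 ⊔ L.J ^ 3
        exact hJ2P.trans (sup_le le_sup_left (by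
          rw [Submodule.span_le]
          have hσR : σ ∈ Kc L.J 1 ⊔ L.J ^ 3 := Submodule.mem_sup_right hσ3
          simpa using hσR))
      have hH2 : L.H 2 := L.h2_of_d3 hv hz hJ2P hσ4
      obtain ⟨q, hq1, hnq, hmin⟩ := L.exists_least_not_H (L.exists_not_H (m := 1) hJne hJ2ne)
      have hq3 : 3 ≤ q := by
        by_contra hlt
        have hq : q = 1 ∨ q = 2 := by omega
        rcases hq with rfl | rfl
        · exact hnq hH1
        · exact hnq hH2
      exact L.no_gs3 hv hq3 hmin hnq

end LSA

end Cfsg.Agent.Lib.KS84
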