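import Mathlib
import Cfsg.Agent.Lib.KS84.Core
import Cfsg.Agent.Lib.Star.LocalSym

/-!
# The corner of a primitive idempotent as a local symmetric algebra
-/

set_option autoImplicit false
set_option linter.unusedSectionVars false
set_option linter.style.haveILetI false

namespace Cfsg.Agent.Lib.KS84

open Module Cfsg.Agent.Lib.Star Cfsg.Agent.Lib.Star.LocalSym

universe u v

noncomputable section

variable {k : Type u} {B : Type v} [Field k] [Ring B] [Algebra k B] {j : B}

/-- The corner as a type. -/
def CorR (k : Type u) {B : Type v} [Field k] [Ring B] [Algebra k B] {j : B} (_ : j * j = j) : Type v := ↥(Cor k j)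

namespace CorR

variable (hjj : j * j = j)

instance : AddCommGroup (CorR k hjj) := inferInstanceAs (AddCommGroup (Cor k j))

instance : Module k (CorR k hjj) := inferInstanceAs (Module k (Cor k j))

/-- The inclusion. -/
def toB : CorR k hjj →ₗ[k] B := (Cor k j).subtype

theorem toB_injective : Function.Injective (toB (k := k) hjj) := Subtype.val_injective

theorem toB_mem (x : CorR k hjj) : toB hjj x ∈ Cor k j := x.2

instance : Ring (CorR k hjj) :=
  { (inferInstance : AddCommGroup (CorR k hjj)) with
    mul := fun a b => ⟨a.1 * b.1, Cor_mul a.2 b.2⟩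
    one := ⟨j, hjj, hjj⟩
    left_distrib := fun a b c => Subtype.ext (mul_add a.1 b.1 c.1)
    right_distrib := fun a b c => Subtype.ext (add_mul a.1 b.1 c.1)
    zero_mul := fun a => Subtype.ext (zero_mul a.1)
    mul_zero := fun a => Subtype.ext (mul_zero a.1)
    mul_assoc := fun a b c => Subtype.ext (mul_assoc a.1 b.1 c.1)
    one_mul := fun a => Subtype.ext a.2.1
    mul_one := fun a => Subtype.ext a.2.2 }

theorem toB_mul (a b : CorR k hjj) : toB hjj (a * b) = toB hjj a * toB hjj b := rfl

theorem toB_one : toB (k := k) hjj 1 = j := rfl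

instance : Algebra k (CorR k hjj) := Algebra.ofModule
  (fun r x y => toB_injective hjj (by
    rw [toB_mul, map_smul, map_smul, toB_mul, smul_mul_assoc]))
  (fun r x y => toB_injective hjj (by
    rw [toB_mul, map_smul, map_smul, toB_mul, mul_smul_comm]))

theorem finiteDimensional [FiniteDimensional k B] : FiniteDimensional k (CorR k hjj) :=
  inferInstanceAs (FiniteDimensional k (Cor k j))

end CorR

open CorR in
/-- The local symmetric algebra of a primitive idempotent. -/
def lsaOf [IsAlgClosed k] [FiniteDimensional k B] (hj : IsPrimIn (⊤ : Subalgebra k B) j) (lam : B →ₗ[k] k)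
    (htr : ∀ a b, lam (a * b) = lam (b * a)) (hnd : ∀ y ∈ Cor k j, (∀ c ∈ Cor k j, lam (y * c) = 0) → y = 0) :
    LSA k (CorR k hj.idem) where
  J := (Rad k hj).comap (toB hj.idem)
  lam := lam ∘ₗ toB hj.idem
  J_mul := fun a ha b => Rad_mul_right hj (toB_mem hj.idem b) ha
  mul_J := fun a ha b => Rad_mul_left hj (toB_mem hj.idem b) ha
  split := fun a => ⟨kap k j (toB hj.idem a), by
    have h1 := sub_mem_Rad hj (toB_mem hj.idem a)
    have e : toB hj.idem (a - algebraMap k (CorR k hj.idem) (kap k j (toB hj.idem a))) =
        toB hj.idem a - kap k j (toB hj.idem a) • j := by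
      rw [map_sub, Algebra.algebraMap_eq_smul_one, map_smul, toB_one]
    rw [Submodule.mem_comap, e]
    exact h1⟩
  one_not := fun h => j_notMem_Rad hj h
  nil := by
    obtain ⟨m, hm⟩ := exists_pow_eq_bot hj
    refine ⟨m + 1, ?_⟩
    have key : ∀ n, ((Rad k hj).comap (toB hj.idem)) ^ (n + 1) ≤ ((Rad k hj) ^ (n + 1)).comap (toB hj.idem) := by
      intro n
      induction n with
      | zero => simp
      | succ n ih =>
        rw [pow_succ, Submodule.mul_le]
        intro a ha b hb
        rw [Submodule.mem_comap, toB_mul, pow_succ]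
        exact Submodule.mul_mem_mul (ih ha) hb
    rw [eq_bot_iff]
    intro x hx
    have h1 := key m hx
    rw [Submodule.mem_comap, hm, Submodule.mem_bot] at h1
    rw [Submodule.mem_bot]
    exact toB_injective hj.idem (h1.trans (map_zero _).symm)
  sym := fun a b => htr _ _
  nd := fun a h => toB_injective hj.idem ((hnd _ (toB_mem hj.idem a) (fun c hc => h ⟨c, hc⟩)).trans (map_zero _).symm)

open CorR in
/-- **The dimension of the corner of a primitive idempotent.** -/
theorem finrank_Cor_le_eight [IsAlgClosed k] [FiniteDimensional k B] (hj : IsPrimIn (⊤ : Subalgebra k B) j)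
    (lam : B →ₗ[k] k) (htr : ∀ a b, lam (a * b) = lam (b * a))
    (hnd : ∀ y ∈ Cor k j, (∀ c ∈ Cor k j, lam (y * c) = 0) → y = 0) (hZ : finrank k (ZCor k j) ≤ 5) :
    finrank k (Cor k j) ≤ 8 := by
  haveI : FiniteDimensional k (CorR k hj.idem) := finiteDimensional hj.idem
  have hZ' : finrank k (Subalgebra.toSubmodule (Subalgebra.center k (CorR k hj.idem))) ≤ 5 := by
    refine le_trans ?_ hZ
    let f : (Subalgebra.toSubmodule (Subalgebra.center k (CorR k hj.idem))) →ₗ[k] ZCor k j :=
      ((toB hj.idem) ∘ₗ (Subalgebra.toSubmodule (Subalgebra.center k (CorR k hj.idem))).subtype).codRestrict _ (by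
        rintro ⟨z, hz⟩
        refine ⟨toB_mem hj.idem z, fun c hc => ?_⟩
        have h1 := (Subalgebra.mem_center_iff (R := k)).mp hz ⟨c, hc⟩
        exact congrArg (toB hj.idem) h1)
    refine LinearMap.finrank_le_finrank_of_injective (f := f) ?_
    intro a b hab
    apply Subtype.ext
    apply toB_injective hj.idem
    have h := congrArg (Subtype.val : ZCor k j → B) hab
    exact h
  exact (lsaOf hj lam htr hnd).finrank_le_eight hZ'

end

end Cfsg.Agent.Lib.KS84
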