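import Mathlib
import Cfsg.Agent.Lib.BK.RedCor
import Cfsg.Agent.Lib.BK.Main
import Cfsg.Agent.Lib.KS84.CornerRing

/-!
# Blocks of `p`-regular rank one with at most five characters
-/

set_option autoImplicit false
set_option linter.unusedSectionVars false
set_option linter.style.haveILetI false

namespace Cfsg.Agent.Lib.KS84.Block

open Cfsg MonoidAlgebra Module
open Cfsg.Agent.Lib.Blocks.Local Cfsg.Agent.Lib.Blocks.Central Cfsg.Agent.Lib.Blocks.Brauer
open Cfsg.Agent.Lib.BlockAlg Cfsg.Agent.Lib.Blk89.BlockPow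
open Cfsg.Agent.Lib.BP.Fit Cfsg.Agent.Lib.BP.Corner Cfsg.Agent.Lib.BP.KS
open Cfsg.Agent.Lib.BK.Trc Cfsg.Agent.Lib.BK.Dual Cfsg.Agent.Lib.BK.Coef Cfsg.Agent.Lib.BK.HC Cfsg.Agent.Lib.BK.Equal
open Cfsg.Agent.Lib.BK.Cmat Cfsg.Agent.Lib.BK.Dim Cfsg.Agent.Lib.BK.RankOne Cfsg.Agent.Lib.BK.RedCor
open Cfsg.Agent.Lib.Char.Basic Cfsg.Agent.Lib.Char.Degree Cfsg.Agent.Lib.Blocks.Weak
open Cfsg.Agent.Lib.Star.LocalSym

universe u

variable {G : Type u} [Group G] [Fintype G] {M : Ideal AlgInt} [hMp : M.IsPrime] {p : ℕ} [Fact p.Prime]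
  [Fintype (IrrCharacter G)] {B : Set (IrrCharacter G)}

/-- The coefficients of a primitive idempotent. -/
theorem exists_nat_coef (hM : IsPModular p M) (hB : IsPBlock M B) (hr1 : blockRank p B = 1)
    (hk : Nat.card B ≤ 5) :
    ∃ (l₀ : GA G) (c : IrrCharacter G → ℕ), l₀ * l₀ = l₀ ∧ Rc M l₀ ∧ (∀ χ : IrrCharacter G, lin (χ : G → ℂ) l₀ = c χ) ∧
      (∀ χ ∈ B, c χ ≠ 0) ∧ ∑ χ : IrrCharacter G, (c χ) ^ 2 ≤ 8 := by
  classical
  haveI := finite_groupAlg (G := G) (Res M)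
  have hS := isOrder_rcS (M := M) (G := G)
  have heB := idem_mem_localCenter hB
  set e : GA G := ((idem B : Subalgebra.center ℂ (GA G)) : GA G) with he
  have heR : e ∈ RcS M G := heB
  have hee : e * e = e := congrArg Subtype.val (idem_mul_self (G := G) B)
  obtain ⟨χ₀, hχ₀⟩ := isPBlock_nonempty hB
  obtain ⟨L, h1, h2, h3⟩ := exists_prim_decomp hS heR hee
  have hL : IsDec (RcS M G) e L := ⟨h1, h2, h3⟩
  have hene : e ≠ 0 := by
    intro h0
    have := lin_idem_mul B χ₀ (1 : GA G)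
    rw [← he, h0, zero_mul, map_zero, if_pos hχ₀, lin_one] at this
    exact Cfsg.Agent.Lib.Char.Complete.irr_one_ne_zero χ₀.2 this.symm
  have hLne : L.Nonempty := by
    by_contra hcon
    rw [Finset.not_nonempty_iff_eq_empty] at hcon
    rw [hcon, Finset.sum_empty] at h3
    exact hene h3.symm
  obtain ⟨l₀, hl₀⟩ := hLne
  have hprim₀ := h1 l₀ hl₀
  have hel : ∀ l ∈ L, e * l = l := fun l hl => hL.mul_left hl
  have hall : ∀ l, l ∈ L → ∃ a b : GA G, a ∈ RcS M G ∧ b ∈ RcS M G ∧ l * a = a ∧ a * l₀ = a ∧ l₀ * b = b ∧ b * l = b ∧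
      a * b = l ∧ b * a = l₀ := by
    intro l hl
    obtain ⟨a, ha, b, hb, h4, h5, h6, h7, h8, h9⟩ := iso_of_rank_one hM hr1 (h1 l hl) hprim₀ (hel l hl) (hel l₀ hl₀)
    exact ⟨a, b, ha, hb, h4, h5, h6, h7, h8, h9⟩
  choose! u w hu hw hu0 hu1 hw1 hw0 huw hwu using hall
  have hwu' : ∀ l ∈ L, ∀ l' ∈ L, w l * u l' = if l = l' then l₀ else 0 := by
    intro l hl l' hl'
    by_cases h : l = l'
    · subst h
      rw [if_pos rfl, hwu l hl]
    · rw [if_neg h]
      calc w l * u l' = (w l * l) * (l' * u l') := by rw [hw0 l hl, hu0 l' hl']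
        _ = w l * (l * l') * u l' := by noncomm_ring
        _ = 0 := by rw [h2 l hl l' hl' h, mul_zero, zero_mul]
  have hsum : ∑ l ∈ L, u l * w l = e := by
    rw [Finset.sum_congr rfl huw]
    exact h3
  have hrc₀ : Rc M l₀ := hprim₀.mem
  have hZB : finrank (Res M) (ZCor (Res M) (red M l₀)) ≤ Nat.card B :=
    (finrank_ZCor_le heB hrc₀ hprim₀.idem ⟨l₀, hl₀⟩ (fun l hl => hu l hl) (fun l hl => hw l hl) hu1 hw1 hwu' hsum).trans
      (finrank_VE_le heB)
  have hj := isPrimIn_red hprim₀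
  have hcor : finrank (Res M) (Cor (Res M) (red M l₀)) ≤ 8 := by
    refine Cfsg.Agent.Lib.KS84.finrank_Cor_le_eight hj lamK lamK_tracelike ?_ (hZB.trans hk)
    intro y hy h
    refine lamK_nondeg y fun x => ?_
    have h1 : lamK (y * x) = lamK (y * (red M l₀ * (x * red M l₀))) := by
      have e1 : y * (red M l₀ * (x * red M l₀)) = (y * red M l₀) * x * red M l₀ := by noncomm_ring
      rw [e1, hy.2, lamK_tracelike (y * x), ← mul_assoc, hy.1]
    rw [h1]
    refine h _ ⟨?_, ?_⟩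
    · rw [← mul_assoc, hj.idem]
    · rw [mul_assoc, mul_assoc, hj.idem]
  have hrange : LinearMap.range (corMap (red M l₀)) = Cor (Res M) (red M l₀) := by
    ext x
    rw [mem_range_corMap (by rw [← red_mul hrc₀ hrc₀, hprim₀.idem])]
    rfl
  have hdim : finrank ℂ (LinearMap.range (corMap l₀)) ≤ 8 := by
    refine (finrank_corner_le hrc₀ hprim₀.idem).trans ?_
    rw [hrange]
    exact hcor
  have htrace : (finrank ℂ (LinearMap.range (corMap l₀)) : ℂ) = ∑ χ : IrrCharacter G, (lin (χ : G → ℂ) l₀) ^ 2 := by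
    rw [← trace_corMap]
    have hidem : IsIdempotentElem (corMap l₀) := corMap_idem hprim₀.idem
    exact ((LinearMap.IsIdempotentElem.isProj_range _ hidem).trace).symm
  have hnatl : ∀ χ : IrrCharacter G, ∃ n : ℕ, lin (χ : G → ℂ) l₀ = n := fun χ =>
    exists_nat_lin_idem (isCharacter_of_isIrrCharacter χ.2) hprim₀.idem
  choose c hc using hnatl
  have hsumc : ∑ χ : IrrCharacter G, (c χ) ^ 2 ≤ 8 := by
    have h4 : ((finrank ℂ (LinearMap.range (corMap l₀)) : ℕ) : ℂ) = ((∑ χ : IrrCharacter G, (c χ) ^ 2 : ℕ) : ℂ) := by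
      rw [htrace]
      push_cast
      exact Finset.sum_congr rfl fun χ _ => by rw [hc]
    have h5 : finrank ℂ (LinearMap.range (corMap l₀)) = ∑ χ : IrrCharacter G, (c χ) ^ 2 := by exact_mod_cast h4
    rw [← h5]
    exact hdim
  have hcne : ∀ χ ∈ B, c χ ≠ 0 := by
    intro χ hχ h0
    exact lin_ne_zero hM hr1 hχ hprim₀.idem hrc₀ (hel l₀ hl₀) hprim₀.ne (by rw [hc, h0]; simp)
  exact ⟨l₀, c, hprim₀.idem, hrc₀, hc, hcne, hsumc⟩

/-- A block of rank one with five characters has defect group of order five or eight. -/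
theorem card_defect_five_or_eight (hM : IsPModular p M) (hB : IsPBlock M B) {P : Subgroup G}
    (hP : IsDefectGroup p M B P) (hr1 : blockRank p B = 1) (hk : Nat.card B = 5) :
    Nat.card P = 5 ∨ Nat.card P = 8 := by
  classical
  obtain ⟨l₀, c, hid, hrc, hc, hcne, hsum⟩ := exists_nat_coef hM hB hr1 hk.le
  obtain ⟨φ, d, ⟨n, hn⟩, hd, hdsum⟩ := Cfsg.Agent.Lib.Blocks.Rank1.exists_decomposition_of_rank_one hM hB hP hr1
  set θ : G → ℂ := fun x => ∑ ψ : IrrCharacter G, if ψ ∈ B then (n ψ : ℂ) * (ψ : G → ℂ) x else 0 with hθ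
  have hθc : IsClassFunction G θ := by
    intro x t
    simp only [hθ]
    refine Finset.sum_congr rfl fun ψ _ => ?_
    rw [isClassFunction_of_isIrrCharacter ψ.2]
  set t : ℤ := ∑ ψ : IrrCharacter G, if ψ ∈ B then n ψ * (c ψ : ℤ) else 0 with ht
  have hlin : lin θ l₀ = (t : ℂ) := by
    rw [ht]
    push_cast
    simp only [lin_apply, hθ, Finset.mul_sum]
    rw [Finset.sum_comm]
    refine Finset.sum_congr rfl fun ψ _ => ?_
    by_cases hψ : ψ ∈ B
    · simp only [if_pos hψ]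
      rw [← hc ψ, lin_apply, Finset.mul_sum]
      refine Finset.sum_congr rfl fun g _ => ?_
      ring
    · simp [if_neg hψ]
  have hcd : ∀ χ ∈ B, (c χ : ℤ) = (d χ : ℤ) * t := by
    intro χ hχ
    have hcl : IsClassFunction G (fun x => (d χ : ℂ) * θ x) := by
      intro x s
      simp only
      rw [hθc]
    have h1 := lin_eq_of_regular hM (isClassFunction_of_isIrrCharacter χ.2) hcl (fun y hy => by
      rw [hd χ hχ y hy, hn y hy]) hid hrc
    have h2 : lin (fun x => (d χ : ℂ) * θ x) l₀ = (d χ : ℂ) * lin θ l₀ := by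
      simp only [lin_apply, Finset.mul_sum]
      refine Finset.sum_congr rfl fun g _ => ?_
      ring
    rw [h2, hlin, hc χ] at h1
    exact_mod_cast h1
  set F : Finset (IrrCharacter G) := Finset.univ.filter (· ∈ B) with hF
  have hmemF : ∀ χ, χ ∈ F ↔ χ ∈ B := fun χ => by simp [hF]
  have hcardF : F.card = 5 := by
    rw [← hk]
    exact (Nat.subtype_card F (fun x => by simp [hF])).symm
  have hsF : ∑ χ ∈ F, (c χ) ^ 2 ≤ 8 :=
    (Finset.sum_le_sum_of_subset (Finset.subset_univ _)).trans hsum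
  have hpos : ∀ χ ∈ F, 1 ≤ (c χ) ^ 2 := fun χ hχ =>
    Nat.one_le_pow _ _ (Nat.pos_of_ne_zero (hcne χ ((hmemF χ).mp hχ)))
  -- some coefficient is one
  obtain ⟨χ₀, hχ₀, hc₀⟩ : ∃ χ₀ ∈ F, c χ₀ = 1 := by
    by_contra hcon
    push Not at hcon
    have h4 : ∀ χ ∈ F, 4 ≤ (c χ) ^ 2 := by
      intro χ hχ
      have h5 := hcne χ ((hmemF χ).mp hχ)
      have h6 := hcon χ hχ
      have h7 : 2 ≤ c χ := by omega
      nlinarith
    have h8 : ∑ χ ∈ F, 4 ≤ ∑ χ ∈ F, (c χ) ^ 2 := Finset.sum_le_sum h4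
    simp only [Finset.sum_const, smul_eq_mul, hcardF] at h8
    omega
  have ht1 : t = 1 := by
    have h1 := hcd χ₀ ((hmemF χ₀).mp hχ₀)
    rw [hc₀] at h1
    have h2 : (d χ₀ : ℤ) * t = 1 := by exact_mod_cast h1.symm
    rcases Int.eq_one_or_neg_one_of_mul_eq_one' h2 with ⟨_, h3⟩ | ⟨h3, _⟩
    · exact h3
    · have : (0 : ℤ) ≤ d χ₀ := Int.natCast_nonneg _
      omega
  have hcdF : ∀ χ ∈ F, c χ = d χ := by
    intro χ hχ
    have h1 := hcd χ ((hmemF χ).mp hχ)
    rw [ht1, mul_one] at h1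
    exact_mod_cast h1
  have hcardP : Nat.card P = ∑ χ ∈ F, (c χ) ^ 2 := by
    rw [← hdsum, hF, Finset.sum_filter]
    refine Finset.sum_congr rfl fun χ _ => ?_
    by_cases hχ : χ ∈ B
    · simp only [if_pos hχ]
      rw [hcdF χ ((hmemF χ).mpr hχ)]
    · simp [if_neg hχ]
  by_cases hall : ∀ χ ∈ F, c χ = 1
  · left
    rw [hcardP, Finset.sum_congr rfl (fun χ hχ => by rw [hall χ hχ, one_pow])]
    simp [hcardF]
  · right
    push Not at hall
    obtain ⟨χ₁, hχ₁, hne⟩ := hall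
    have h2 : 2 ≤ c χ₁ := by
      have := hcne χ₁ ((hmemF χ₁).mp hχ₁)
      omega
    have h3 := Finset.add_sum_erase F (fun χ => (c χ) ^ 2) hχ₁
    have h4 : ∑ χ ∈ F.erase χ₁, 1 ≤ ∑ χ ∈ F.erase χ₁, (c χ) ^ 2 :=
      Finset.sum_le_sum fun χ hχ => hpos χ (Finset.mem_of_mem_erase hχ)
    simp only [Finset.sum_const, smul_eq_mul, mul_one, Finset.card_erase_of_mem hχ₁, hcardF] at h4
    have h5 : 4 ≤ (c χ₁) ^ 2 := by nlinarith
    omega

end Cfsg.Agent.Lib.KS84.Block
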