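import Mathlib
import Cfsg.Agent.S4637
import Cfsg.Agent.Lib.Dade.Main
import Cfsg.Agent.Lib.BP.Nil4
import Cfsg.Agent.Lib.KleinBlock.Rank
import Cfsg.Agent.Lib.BlockH.InducedPairs

/-!
# The rank of a block of defect at most two, and of a block of the centralizer of an involution of defect at most three
-/

set_option autoImplicit false
set_option linter.unusedSectionVars false
set_option linter.style.haveILetI false

namespace Cfsg.Agent.Lib.KS84.Dom

open Cfsg MonoidAlgebra
open Cfsg.Agent.Lib.Blocks.Local Cfsg.Agent.Lib.Blocks.Central Cfsg.Agent.Lib.Blocks.Quot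
open Cfsg.Agent.Lib.Blocks.DomRank Cfsg.Agent.Lib.Blocks.Sections
open Cfsg.Agent.Lib.BlockH.Regular Cfsg.Agent.Lib.BlockP.Defect
open Cfsg.Agent.Lib.Char.Ortho Cfsg.Agent.Lib.Char.Basic Cfsg.Agent.Lib.Char.GenLattice
open Cfsg.Agent.Lib.Contrib.Proj Cfsg.Agent.Lib.Contrib.Cyc Cfsg.Agent.Lib.Contrib.Family
open Cfsg.Agent.Lib.Contrib.Sec Cfsg.Agent.Lib.Contrib.Adams Cfsg.Agent.Lib.Contrib.Dom
open Cfsg.Agent.Lib.Contrib.RankOne Cfsg.Agent.Lib.Contrib.Section Cfsg.Agent.Lib.Contrib.D1Loc
open Cfsg.Agent.Lib.Contrib.D1Main Cfsg.Agent.Lib.Contrib.MajorEx Cfsg.Agent.Lib.Contrib.BF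
open Cfsg.Agent.Lib.KleinBlock.Rank
open scoped ComplexConjugate

universe u

section Three

variable {G : Type u} [Group G] [Fintype G] {M : Ideal AlgInt} [Fact (Nat.Prime 2)]

/-- A group of order four without a generator is a Klein four group. -/
theorem isKleinFour_of_card {D : Type*} [Group D] [Finite D] (h4 : Nat.card D = 4) (hcyc : ¬ IsCyclic D) :
    IsKleinFour D := by
  classical
  have h2 : ∀ x : D, x ^ 2 = 1 := by
    intro x
    have h1 : orderOf x ∣ 2 ^ 2 := by
      rw [show (2 : ℕ) ^ 2 = 4 by norm_num, ← h4]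
      exact orderOf_dvd_natCard x
    obtain ⟨k, hk, hx⟩ := (Nat.dvd_prime_pow Nat.prime_two).mp h1
    interval_cases k
    · rw [pow_zero] at hx
      rw [orderOf_eq_one_iff.mp hx, one_pow]
    · rw [pow_one] at hx
      rw [← hx]
      exact pow_orderOf_eq_one x
    · exfalso
      exact hcyc (isCyclic_of_orderOf_eq_card x (by rw [hx, h4]; norm_num))
  refine ⟨h4, ?_⟩
  have hd : Monoid.exponent D ∣ 2 := Monoid.exponent_dvd_of_forall_pow_eq_one h2
  rcases (Nat.dvd_prime Nat.prime_two).mp hd with h | h
  · exfalso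
    rw [Monoid.exp_eq_one_iff] at h
    have h5 : Nat.card D ≤ 1 := Finite.card_le_one_iff_subsingleton.mpr h
    omega
  · exact h

/-- A `2`-block of defect at most two has rank at most three. -/
theorem blockRank_le_three (hM : IsPModular 2 M) {A : Set (IrrCharacter G)} (hA : IsPBlock M A)
    (hd : blockDefect 2 A ≤ 2) : blockRank 2 A ≤ 3 := by
  classical
  haveI := isPrime_of_pModular hM
  haveI := finite_irrCharacter (G := G)
  letI : Fintype (IrrCharacter G) := Fintype.ofFinite _
  obtain ⟨D, hD⟩ := Cfsg.Agent.Lib.Blocks.Defect2.exists_isDefectGroup (p := 2) hA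
  have hcard := Cfsg.Agent.Lib.Blocks.Inducing.card_eq_pow_blockDefect hM hA hD
  obtain ⟨c, hmax⟩ := Cfsg.Agent.Lib.BP.Nil4.exists_pair_of_defect hM hA hD
  by_cases hcyc : IsCyclic D
  · by_cases hD1 : D = ⊥
    · have h1 : blockDefect 2 A = 0 := by
        rw [hD1, Subgroup.card_bot] at hcard
        by_contra h0
        have h2 : 1 < 2 ^ blockDefect 2 A := Nat.one_lt_pow h0 (by norm_num)
        omega
      have h3 := (Cfsg.Agent.Lib.Blocks.Rank1.rank_card_package (p := 2) hM hA).2.1.mp h1
      rw [h3.2]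
      norm_num
    · obtain ⟨h1, -, h2, -⟩ := Cfsg.Agent.Lib.Dade.Main.main_structure hM hmax hD1 hcyc hcard rfl
      have h3 : (Subgroup.centralizer (D : Set G)).relIndex (Cfsg.Agent.Lib.BlockH.MaxPair.stabSub D c) = 1 := by
        simpa using h2
      rw [h1, h3]
      norm_num
  · have h4 : Nat.card D = 4 := by
      have hd' : blockDefect 2 A = 0 ∨ blockDefect 2 A = 1 ∨ blockDefect 2 A = 2 := by omega
      rcases hd' with h | h | h
      · exfalso
        rw [h, pow_zero] at hcard
        haveI : Subsingleton D := Finite.card_le_one_iff_subsingleton.mp hcard.le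
        exact hcyc inferInstance
      · exfalso
        rw [h, pow_one] at hcard
        exact hcyc (isCyclic_of_prime_card hcard)
      · rw [h] at hcard
        rw [hcard]
        norm_num
    have hV := isKleinFour_of_card h4 hcyc
    have h5 := Cfsg.Agent.S4637.result M hM A hA D hD hV c
      (Cfsg.Agent.Lib.BlockH.InducedPairs.isInducedBlock_of_isBrauerPairOf hM hmax.1)
      (Cfsg.Agent.Lib.BlockH.MaxPair.stabSub D c) (fun g => Iff.rfl) _ rfl
    rw [h5.2.2]
    rcases h5.1 with h | h <;> omega

end Three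

section Main

variable {C X : Type u} [Group C] [Group X] [Fintype C] [Fintype X] {p : ℕ} [hp : Fact p.Prime]
  (π : C →* X) (hπ : Function.Surjective π) (hker : IsPGroup p π.ker)
  (hcen : ∀ u ∈ π.ker, ∀ c : C, Commute u c)
  [Fintype (IrrCharacter C)] [Fintype (IrrCharacter X)] {M : Ideal AlgInt}

include hker hcen in
/-- The rank of a block is at most the rank of the dominated block. -/
theorem blockRank_le_dominated (hM : IsPModular p M) {b : Set (IrrCharacter C)} (hb : IsPBlock M b)
    {A : Set (IrrCharacter X)} [Fintype A] (hA : ∀ ψ, ψ ∈ A ↔ inflI π hπ ψ ∈ b) :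
    blockRank p b ≤ blockRank p A := by
  classical
  set UA := Submodule.span ℂ ((fun χ : IrrCharacter X => pRegularPart p (χ : X → ℂ)) '' A) with hUA
  have hle : Submodule.span ℂ ((fun χ : IrrCharacter C => pRegularPart p (χ : C → ℂ)) '' b) ≤
      UA.map (pull p π) := by
    rw [Submodule.span_le]
    rintro _ ⟨ξ, hξ, rfl⟩
    simp only [SetLike.mem_coe]
    obtain ⟨u, hu⟩ := exists_coeff π hπ hker hcen hM hb hA hξ
    refine ⟨∑ ψ : A, u ψ • pRegularPart p ((ψ : IrrCharacter X) : X → ℂ), ?_, ?_⟩
    · exact Submodule.sum_mem _ fun ψ _ => Submodule.smul_mem _ _ (Submodule.subset_span ⟨ψ, ψ.2, rfl⟩)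
    · ext c
      rw [map_sum, Finset.sum_apply]
      by_cases hc : ¬ p ∣ orderOf c
      · rw [part_reg hc, hu c hc]
        refine Finset.sum_congr rfl fun ψ _ => ?_
        rw [map_smul, Pi.smul_apply, pull_part, part_reg hc, smul_eq_mul]
        rfl
      · rw [part_sing hc]
        refine Finset.sum_eq_zero fun ψ _ => ?_
        rw [map_smul, Pi.smul_apply, pull_part, part_sing hc, smul_zero]
  unfold blockRank
  calc Module.finrank ℂ (Submodule.span ℂ ((fun χ : IrrCharacter C => pRegularPart p (χ : C → ℂ)) '' b))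
      ≤ Module.finrank ℂ (UA.map (pull p π)) := Submodule.finrank_mono hle
    _ ≤ Module.finrank ℂ UA := Submodule.finrank_map_le _ _

end Main

section Final

variable {G : Type u} [Group G] [Fintype G] {M : Ideal AlgInt} [Fact (Nat.Prime 2)]

/-- A block of `C_G(x)` of defect at most three, for an involution `x`, has rank at most three. -/
theorem blockRank_le_three_of_involution (hM : IsPModular 2 M) {x : G} (hx : orderOf x = 2)
    {K : Subgroup G} (hK : K = Subgroup.centralizer ({x} : Set G))
    {f : Set (IrrCharacter K)} (hf : IsPBlock M f)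
    (hd : blockDefect 2 f ≤ 3) : blockRank 2 f ≤ 3 := by
  classical
  subst hK
  haveI := isPrime_of_pModular hM
  haveI := finite_irrCharacter (G := G)
  letI : Fintype (IrrCharacter G) := Fintype.ofFinite _
  letI : Fintype (KK x) := Fintype.ofFinite _
  haveI := finite_irrCharacter (G := KK x)
  letI : Fintype (IrrCharacter (KK x)) := Fintype.ofFinite _
  have hk : orderOf x = 2 ^ 1 := by rw [hx, pow_one]
  obtain ⟨X, _, _, _, π, hπ, hker, hcen, hK⟩ := exists_quot hk
  obtain ⟨A, hAb, hA⟩ := exists_dominated π hπ hker hcen hM hf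
  letI : Fintype A := Fintype.ofFinite _
  have hne := isPBlock_nonempty hAb
  have hdef := blockDefect_add_le (p := 2) π hπ hne hA
  have hfac : (Nat.card π.ker).factorization 2 = 1 := by
    rw [hK, pow_one]
    exact Nat.prime_two.factorization_self
  rw [hfac] at hdef
  exact (blockRank_le_dominated π hπ hker hcen hM hf hA).trans (blockRank_le_three hM hAb (by omega))

end Final

end Cfsg.Agent.Lib.KS84.Dom
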